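import Mathlib
import Cfsg.Prelude.Def_Solvable
import Cfsg.Agent.Lib.Thompson.Cores
import Cfsg.Agent.Lib.Involution.BaerSuzuki
import Cfsg.Agent.Lib.Involution.Dihedral

/-!
# Groups in which the centraliser of every involution is a 2-group
-/

set_option autoImplicit false
set_option linter.style.haveILetI false

namespace Cfsg.Agent.CIT

open Subgroup

variable {G : Type*} [Group G]

/-- Every centraliser of an involution is a `2`-group. -/
def IsCIT (G : Type*) [Group G] : Prop :=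
  ∀ t : G, orderOf t = 2 → IsPGroup 2 (centralizer ({t} : Set G))

/-- Distinct Sylow `2`-subgroups meet trivially. -/
def TI (G : Type*) [Group G] : Prop :=
  ∀ S R : Sylow 2 G, S ≠ R → (S : Subgroup G) ⊓ (R : Subgroup G) = ⊥

theorem two_pow_of_isPGroup {H : Subgroup G} (h : IsPGroup 2 H) {x : G} (hx : x ∈ H) :
    ∃ k, orderOf x = 2 ^ k := by
  obtain ⟨k, hk⟩ := IsPGroup.iff_orderOf.1 h ⟨x, hx⟩
  exact ⟨k, by rw [← hk, ← Subgroup.orderOf_coe]⟩

theorem eq_one_of_odd_two_pow {x : G} (ho : Odd (orderOf x)) {k : ℕ} (h : orderOf x = 2 ^ k) :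
    x = 1 := by
  rcases k with _ | k
  · simpa using h
  · rw [h, pow_succ'] at ho
    exact absurd ho (Nat.not_odd_iff_even.2 (even_two_mul _))

theorem eq_one_of_odd_mem {H : Subgroup G} (h : IsPGroup 2 H) {x : G} (hx : x ∈ H)
    (ho : Odd (orderOf x)) : x = 1 :=
  eq_one_of_odd_two_pow ho (two_pow_of_isPGroup h hx).choose_spec

theorem exists_involution_pow {x : G} (hx : x ≠ 1) {k : ℕ} (h : orderOf x = 2 ^ k) :
    ∃ j : ℕ, orderOf (x ^ j) = 2 := by
  rcases k with _ | k
  · exact absurd (by simpa using h) hx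
  · refine ⟨2 ^ k, ?_⟩
    rw [orderOf_pow' x (pow_ne_zero k two_ne_zero), h, pow_succ,
      Nat.gcd_mul_right_left, Nat.mul_div_cancel_left _ (pow_pos two_pos k)]

theorem exists_involution_mem {H : Subgroup G} (h : IsPGroup 2 H) (hne : H ≠ ⊥) :
    ∃ t ∈ H, orderOf t = 2 := by
  obtain ⟨⟨x, hx⟩, hx1⟩ := Subgroup.ne_bot_iff_exists_ne_one.1 hne
  obtain ⟨k, hk⟩ := two_pow_of_isPGroup h hx
  obtain ⟨j, hj⟩ := exists_involution_pow (fun e => hx1 (Subtype.ext e)) hk
  exact ⟨x ^ j, pow_mem hx j, hj⟩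

theorem mul_self_of {t : G} (ht : orderOf t = 2) : t * t = 1 := by
  rw [← pow_two, ← ht, pow_orderOf_eq_one]

theorem orderOf_of_mul_self {t : G} (h : t * t = 1) (h1 : t ≠ 1) : orderOf t = 2 :=
  orderOf_eq_prime (by rw [pow_two, h]) h1

theorem odd_orderOf_mem {x : G} {H : Subgroup G} (hH : Odd (Nat.card H)) (hx : x ∈ H) :
    Odd (orderOf x) :=
  hH.of_dvd_nat (Subgroup.orderOf_dvd_natCard H hx)

namespace IsCIT

variable (hG : IsCIT G)
include hG

/-- No involution commutes with a non-trivial element of odd order. -/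
theorem eq_one_of_commute {t f : G} (ht : orderOf t = 2) (hf : Odd (orderOf f))
    (hc : Commute f t) : f = 1 :=
  eq_one_of_odd_mem (hG t ht) (mem_centralizer_singleton_iff.2 hc) hf

/-- No non-trivial `2`-element commutes with a non-trivial element of odd order. -/
theorem eq_one_of_commute' {x f : G} (hx : x ≠ 1) {k : ℕ} (hk : orderOf x = 2 ^ k)
    (hf : Odd (orderOf f)) (hc : Commute f x) : f = 1 := by
  obtain ⟨j, hj⟩ := exists_involution_pow hx hk
  exact hG.eq_one_of_commute hj hf (hc.pow_right j)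

theorem centralizer_isPGroup {H : Subgroup G} (hH : IsPGroup 2 H) (hne : H ≠ ⊥) :
    IsPGroup 2 (centralizer (H : Set G)) := by
  obtain ⟨t, htH, ht⟩ := exists_involution_mem hH hne
  exact (hG t ht).to_le (centralizer_le (Set.singleton_subset_iff.2 htH))

theorem subgroup (H : Subgroup G) : IsCIT H := by
  intro t ht
  have h := hG (t : G) (by rw [Subgroup.orderOf_coe]; exact ht)
  refine IsPGroup.iff_orderOf.2 fun ⟨x, hx⟩ => ?_
  have hx' : (x : G) ∈ centralizer ({(t : G)} : Set G) :=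
    mem_centralizer_singleton_iff.2 (congrArg Subtype.val (mem_centralizer_singleton_iff.1 hx))
  obtain ⟨k, hk⟩ := two_pow_of_isPGroup h hx'
  exact ⟨k, by rw [Subgroup.orderOf_mk, ← Subgroup.orderOf_coe, hk]⟩

theorem quotient [Finite G] (Q : Subgroup G) [Q.Normal] (hQ : IsPGroup 2 Q) : IsCIT (G ⧸ Q) := by
  haveI : Fact (Nat.Prime 2) := ⟨Nat.prime_two⟩
  intro t ht
  refine IsPGroup.iff_orderOf.2 fun ⟨x, hx⟩ => ?_
  rw [Subgroup.orderOf_mk]
  by_contra hnot
  push Not at hnot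
  -- an element of odd prime order commuting with `t`
  obtain ⟨p, hp, hp2, hpx⟩ : ∃ p, p.Prime ∧ p ≠ 2 ∧ p ∣ orderOf x := by
    by_contra hc
    push Not at hc
    refine hnot (orderOf x).primeFactorsList.length ?_
    exact Nat.eq_prime_pow_of_unique_prime_dvd (orderOf_pos x).ne' fun {d} hd hdx => by
      by_contra h2
      exact hc d hd h2 hdx
  set y := x ^ (orderOf x / p) with hy
  have hyo : orderOf y = p := orderOf_pow_orderOf_div (orderOf_pos x).ne' hpx
  have hyt : Commute y t := Commute.pow_left (mem_centralizer_singleton_iff.1 hx) _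
  obtain ⟨a, rfl⟩ := QuotientGroup.mk_surjective t
  obtain ⟨b, hb⟩ := QuotientGroup.mk_surjective y
  -- an odd power of `b` with the same image
  obtain ⟨k, m, hm, hkm⟩ := Nat.exists_eq_two_pow_mul_odd (orderOf_pos b).ne'
  set c := b ^ 2 ^ k with hc
  have hco : Odd (orderOf c) := by
    rw [hc, orderOf_pow, hkm]
    rw [Nat.gcd_eq_right (Dvd.intro _ rfl), Nat.mul_div_cancel_left _ (pow_pos two_pos k)]
    exact hm
  have hc1 : (c : G ⧸ Q) ≠ 1 := by
    rw [hc, QuotientGroup.mk_pow, hb]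
    intro e
    have h1 := orderOf_dvd_of_pow_eq_one e
    rw [hyo] at h1
    exact hp2 ((Nat.prime_dvd_prime_iff_eq hp Nat.prime_two).1 (hp.dvd_of_dvd_pow h1))
  -- `c` permutes the coset `aQ`
  set R : Subgroup G := (zpowers (a : G ⧸ Q)).comap (QuotientGroup.mk' Q) with hR
  have hRp : IsPGroup 2 R :=
    (IsPGroup.of_card (n := 1) (by rw [Nat.card_zpowers, ht, pow_one])).comap_of_ker_isPGroup
      (QuotientGroup.mk' Q) (by rw [QuotientGroup.ker_mk']; exact hQ)
  haveI : Fact p.Prime := ⟨hp⟩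
  -- act by conjugation of `c` on the coset
  let T : Set G := {z | (z : G ⧸ Q) = (a : G ⧸ Q)}
  obtain ⟨d, hd⟩ : ∃ d : G, ∃ n : ℕ, orderOf d = p ^ n ∧ (d : G ⧸ Q) ≠ 1 ∧
      Commute (d : G ⧸ Q) (a : G ⧸ Q) := by
    obtain ⟨n, m', hm', hnm⟩ := Nat.exists_eq_pow_mul_and_not_dvd (orderOf_pos c).ne' p hp.ne_one
    refine ⟨c ^ m', n, ?_, ?_, ?_⟩
    · rw [orderOf_pow, hnm, Nat.gcd_eq_right (Dvd.intro_left _ rfl),
        Nat.mul_div_cancel _ (Nat.pos_of_ne_zero fun e => hm' (by rw [e]; exact dvd_zero p))]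
    · rw [QuotientGroup.mk_pow]
      intro e
      have h3 : orderOf (c : G ⧸ Q) = p := by
        have h2 : orderOf (c : G ⧸ Q) ∣ p := by
          rw [← hyo]
          exact orderOf_dvd_of_mem_zpowers (by
            rw [hc, QuotientGroup.mk_pow, hb]; exact pow_mem (mem_zpowers y) _)
        exact ((Nat.dvd_prime hp).1 h2).resolve_left fun e' => hc1 (orderOf_eq_one_iff.1 e')
      exact hm' (h3 ▸ orderOf_dvd_of_pow_eq_one e)
    · rw [QuotientGroup.mk_pow, hc, QuotientGroup.mk_pow, hb]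
      exact (hyt.pow_left _).pow_left _
  obtain ⟨n, hdo, hd1, hda⟩ := hd
  have hdP : IsPGroup p (zpowers d) := IsPGroup.of_card (n := n) (by rw [Nat.card_zpowers, hdo])
  let act : MulAction (zpowers d) T :=
    { smul := fun g z => ⟨(g : G) * z * (g : G)⁻¹, by
        obtain ⟨j, hj⟩ := mem_zpowers_iff.1 g.2
        have hz : ((z : G) : G ⧸ Q) = (a : G ⧸ Q) := z.2
        show ((((g : G) * z * (g : G)⁻¹ : G)) : G ⧸ Q) = _
        rw [← hj, QuotientGroup.mk_mul, QuotientGroup.mk_mul, QuotientGroup.mk_inv,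
          QuotientGroup.mk_zpow, hz, (hda.zpow_left j).eq, mul_inv_cancel_right]⟩
      one_smul := fun z => Subtype.ext (by show (1 : G) * z * (1 : G)⁻¹ = z; simp)
      mul_smul := fun g h z => Subtype.ext (by
        show ((g * h : zpowers d) : G) * z * ((g * h : zpowers d) : G)⁻¹ =
          (g : G) * ((h : G) * z * (h : G)⁻¹) * (g : G)⁻¹
        rw [Subgroup.coe_mul]; group) }
  have hT : Nat.card T = Nat.card Q := by
    refine Nat.card_congr
      { toFun := fun z => ⟨a⁻¹ * z, QuotientGroup.eq.1 z.2.symm⟩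
        invFun := fun q => ⟨a * q, by
          show ((a * q : G) : G ⧸ Q) = _
          rw [QuotientGroup.eq]
          simp⟩
        left_inv := fun z => by simp
        right_inv := fun q => by simp }
  have hfix : (MulAction.fixedPoints (zpowers d) T).Nonempty := by
    refine hdP.nonempty_fixed_point_of_prime_not_dvd_card T ?_
    obtain ⟨j, hj⟩ := IsPGroup.iff_card.1 hQ
    rw [hT, hj]
    exact fun h => hp2 ((Nat.prime_dvd_prime_iff_eq hp Nat.prime_two).1 (hp.dvd_of_dvd_pow h))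
  obtain ⟨⟨z, hz⟩, hzfix⟩ := hfix
  have hz1 : z ≠ 1 := fun e => by
    rw [← hz, e] at ht
    simp at ht
  obtain ⟨l, hl⟩ := two_pow_of_isPGroup hRp (show z ∈ R by
    show (z : G ⧸ Q) ∈ zpowers _
    rw [show (z : G ⧸ Q) = _ from hz]; exact mem_zpowers _)
  have hcomm : Commute d z := by
    have h1 := congrArg Subtype.val (hzfix ⟨d, mem_zpowers d⟩)
    exact mul_inv_eq_iff_eq_mul.1 h1
  have hd0 := hG.eq_one_of_commute' hz1 hl (hdo ▸ (hp.odd_of_ne_two hp2).pow) hcomm
  exact hd1 (by rw [hd0, QuotientGroup.mk_one])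

end IsCIT

/-- The elements of the centre of `Q` squaring to one. -/
def omega (Q : Subgroup G) : Subgroup G where
  carrier := {x | x ∈ Q ∧ x * x = 1 ∧ x ∈ centralizer (Q : Set G)}
  one_mem' := ⟨one_mem _, one_mul 1, one_mem _⟩
  mul_mem' := by
    rintro a b ⟨ha, ha2, haC⟩ ⟨hb, hb2, hbC⟩
    refine ⟨mul_mem ha hb, ?_, mul_mem haC hbC⟩
    have h : b * a = a * b := mem_centralizer_iff.1 haC b hb
    rw [show a * b * (a * b) = a * (b * a) * b by group, h,
      show a * (a * b) * b = a * a * (b * b) by group, ha2, hb2, one_mul]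
  inv_mem' := by
    rintro a ⟨ha, ha2, haC⟩
    refine ⟨inv_mem ha, ?_, inv_mem haC⟩
    rw [← mul_inv_rev, ha2, inv_one]

theorem mem_omega {Q : Subgroup G} {x : G} :
    x ∈ omega Q ↔ x ∈ Q ∧ x * x = 1 ∧ x ∈ centralizer (Q : Set G) := Iff.rfl

theorem omega_le (Q : Subgroup G) : omega Q ≤ Q := fun _ h => h.1

theorem omega_comm {Q : Subgroup G} {x y : G} (hx : x ∈ omega Q) (hy : y ∈ Q) : Commute x y :=
  (mem_centralizer_iff.1 hx.2.2 y hy).symm

theorem le_centralizer_omega (Q : Subgroup G) : Q ≤ centralizer (omega Q : Set G) :=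
  fun _ hq => mem_centralizer_iff.2 fun _ hx => omega_comm hx hq

theorem omega_map (Q : Subgroup G) (e : G ≃* G) :
    (omega Q).map e.toMonoidHom = omega (Q.map e.toMonoidHom) := by
  ext x
  simp only [mem_map, mem_omega, mem_centralizer_iff, SetLike.mem_coe, MulEquiv.coe_toMonoidHom]
  constructor
  · rintro ⟨y, ⟨hy, hy2, hyC⟩, rfl⟩
    refine ⟨⟨y, hy, rfl⟩, by rw [← map_mul, hy2, map_one], ?_⟩
    rintro _ ⟨z, hz, rfl⟩
    rw [← map_mul, ← map_mul, hyC z hz]
  · rintro ⟨⟨y, hy, rfl⟩, h2, hC⟩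
    refine ⟨y, ⟨hy, e.injective (by rw [map_mul, h2, map_one]), fun z hz => ?_⟩, rfl⟩
    exact e.injective (by rw [map_mul, map_mul]; exact hC _ ⟨z, hz, rfl⟩)

theorem omega_ne_bot [Finite G] {Q : Subgroup G} (hQ : IsPGroup 2 Q) (hne : Q ≠ ⊥) :
    omega Q ≠ ⊥ := by
  haveI : Fact (Nat.Prime 2) := ⟨Nat.prime_two⟩
  haveI : Nontrivial Q := Q.nontrivial_iff_ne_bot.2 hne
  have hc : (center Q).map Q.subtype ≠ ⊥ := by
    haveI := hQ.center_nontrivial
    rw [Ne, map_eq_bot_iff_of_injective _ Q.subtype_injective]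
    exact (center Q).nontrivial_iff_ne_bot.1 inferInstance
  obtain ⟨t, htc, ht⟩ := exists_involution_mem (hQ.to_le (map_subtype_le _)) hc
  obtain ⟨w, hw, rfl⟩ := htc
  intro h
  have hmem : (w : G) ∈ omega Q := ⟨w.2, mul_self_of ht, mem_centralizer_iff.2 fun y hy =>
    congrArg Subtype.val (mem_center_iff.1 hw ⟨y, hy⟩)⟩
  rw [h, mem_bot] at hmem
  rw [show (Q.subtype w : G) = (w : G) from rfl, hmem, orderOf_one] at ht
  omega

end Cfsg.Agent.CIT
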