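import Cfsg.Agent.CIT.Module
import Cfsg.Agent.S3224
import Cfsg.Agent.S1213
import Cfsg.Agent.S0508
import Cfsg.Agent.SL2Tor.PSLOrders
import Cfsg.Agent.Lib.LinearGroup.Card
import Cfsg.Agent.Lib.LinearGroup.Generation
import Cfsg.Agent.Lib.CharCore.Burnside

/-!
# CIT-groups with a self-centralising four-group, and modules for `PSL(2, q)`
-/

set_option autoImplicit false
set_option linter.style.haveILetI false
set_option linter.unusedSectionVars false

namespace Cfsg.Agent.CIT

open Subgroup

section Arith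

theorem odd_sum_pow {x : ℤ} (hx : x % 2 = 1) (f : ℕ) :
    (∑ i ∈ Finset.range f, x ^ i) % 2 = (f : ℤ) % 2 := by
  induction f with
  | zero => simp
  | succ f ih =>
    rw [Finset.sum_range_succ]
    have : (x ^ f) % 2 = 1 := Int.odd_iff.1 ((Int.odd_iff.2 hx).pow)
    push_cast
    omega

theorem odd_exponent_false {x : ℤ} {f k : ℕ} (hx : x % 2 = 1) (hf : Odd f) (hf3 : 3 ≤ f)
    (hx3 : 3 ≤ x.natAbs) (h : (x ^ f - 1).natAbs = 2 ^ k) : False := by
  rw [← mul_geom_sum x f, Int.natAbs_mul] at h
  obtain ⟨j, -, hj⟩ := (Nat.dvd_prime_pow Nat.prime_two).1 (Dvd.intro_left _ h)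
  have hS := odd_sum_pow hx f
  obtain ⟨e, he⟩ := hf
  rcases j with _ | j
  · -- the sum is a unit
    rw [hj, pow_zero, mul_one] at h
    have habs : (x ^ f - 1).natAbs = (x - 1).natAbs := by
      rw [← mul_geom_sum x f, Int.natAbs_mul, hj, pow_zero, mul_one]
    have h1 : x.natAbs ^ 3 ≤ x.natAbs ^ f := Nat.pow_le_pow_right (by omega) hf3
    have h2 : 9 * x.natAbs ≤ x.natAbs ^ 3 := by
      rw [pow_succ, pow_two]
      exact Nat.mul_le_mul_right _ (Nat.mul_le_mul hx3 hx3)
    have := Int.natAbs_pow x f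
    omega
  · have h1 : 2 ∣ (∑ i ∈ Finset.range f, x ^ i).natAbs := hj ▸ dvd_pow_self 2 j.succ_ne_zero
    have h2 : (2 : ℤ) ∣ ∑ i ∈ Finset.range f, x ^ i := by
      rw [← Int.natAbs_dvd_natAbs]; exact h1
    omega

/-- A prime power next to a power of two is nine or a prime. -/
theorem prime_of_near_two_pow {p f k : ℕ} (hp : p.Prime) (hp2 : p ≠ 2) (hf : 1 ≤ f)
    (h : p ^ f = 2 ^ k + 1 ∨ p ^ f + 1 = 2 ^ k) : p ^ f = 9 ∨ (p ^ f).Prime := by
  have hodd : p % 2 = 1 := hp.eq_two_or_odd.resolve_left hp2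
  have hp3 : 3 ≤ p := by have := hp.two_le; omega
  rcases (show f = 1 ∨ 2 ≤ f by omega) with rfl | hf2
  · exact Or.inr (by rwa [pow_one])
  obtain ⟨m, rfl | rfl⟩ := Nat.even_or_odd' f
  · have hm : 1 ≤ m := by omega
    have hP3 : 3 ≤ p ^ m := le_trans hp3 (by
      calc p = p ^ 1 := (pow_one p).symm
        _ ≤ p ^ m := Nat.pow_le_pow_right hp.pos hm)
    have hPodd : p ^ m % 2 = 1 := by rw [Nat.pow_mod, hodd, one_pow, Nat.one_mod]
    have hsq : p ^ (2 * m) = p ^ m * p ^ m := by rw [two_mul, pow_add]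
    rw [hsq] at h ⊢
    obtain ⟨a, ha⟩ : ∃ a, p ^ m = 2 * a + 1 := ⟨p ^ m / 2, by omega⟩
    rw [ha] at h ⊢
    have e : (2 * a + 1) * (2 * a + 1) = (2 * a) * (2 * a + 2) + 1 := by ring
    rcases h with h | h
    · left
      rw [e] at h
      have h' : 2 * a * (2 * a + 2) = 2 ^ k := by omega
      obtain ⟨i, -, hi⟩ := (Nat.dvd_prime_pow Nat.prime_two).1 (Dvd.intro _ h')
      obtain ⟨j, -, hj⟩ := (Nat.dvd_prime_pow Nat.prime_two).1 (Dvd.intro_left _ h')
      rcases i with _ | _ | i
      · omega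
      · have : a = 1 := by simp at hi; omega
        subst this
        norm_num
      · rcases j with _ | _ | j
        · simp at hj
        · simp at hj; omega
        · have e1 : 2 ^ (i + 2) = 4 * 2 ^ i := by ring
          have e2 : 2 ^ (j + 2) = 4 * 2 ^ j := by ring
          omega
    · exfalso
      have e' : (2 * a + 1) * (2 * a + 1) + 1 = 4 * (a * a + a) + 2 := by ring
      rw [e'] at h
      rcases k with _ | _ | k
      · simp at h
      · simp at h
        have : (2 * a + 1) * (2 * a + 1) + 1 ≥ 10 := by nlinarith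
        omega
      · have : 2 ^ (k + 2) = 4 * 2 ^ k := by ring
        omega
  · exfalso
    have hx : ((p : ℤ)) % 2 = 1 := by omega
    have hodd' : Odd (2 * m + 1) := odd_two_mul_add_one m
    rcases h with h | h
    · refine odd_exponent_false (x := (p : ℤ)) (f := 2 * m + 1) (k := k) hx hodd' (by omega)
        (by simpa using hp3) ?_
      have hz : (p : ℤ) ^ (2 * m + 1) = (2 : ℤ) ^ k + 1 := by exact_mod_cast h
      rw [hz, add_sub_cancel_right, Int.natAbs_pow]
      rfl
    · refine odd_exponent_false (x := -(p : ℤ)) (f := 2 * m + 1) (k := k) (by omega) hodd' (by omega)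
        (by simpa using hp3) ?_
      have hz : (p : ℤ) ^ (2 * m + 1) + 1 = (2 : ℤ) ^ k := by exact_mod_cast h
      rw [hodd'.neg_pow, show -(p : ℤ) ^ (2 * m + 1) - 1 = -((p : ℤ) ^ (2 * m + 1) + 1) by ring, hz,
        Int.natAbs_neg, Int.natAbs_pow]
      rfl

end Arith

/-- A simple CIT-group of order divisible by eight with a self-centralising four-group. -/
theorem four_tail {G : Type*} [Group G] [Finite G] [IsSimpleGroup G] (hG : IsCIT G) {D : Subgroup G}
    (hD : ∀ x ∈ D, x * x = 1) (h4 : Nat.card D = 4)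
    (hC : Subgroup.centralizer (D : Set G) = D) (h8 : 8 ∣ Nat.card G) :
    ∃ (F : Type) (_ : Field F) (_ : Fintype F), (Fintype.card F = 9 ∨ ((Fintype.card F).Prime ∧
      ∃ k : ℕ, Fintype.card F = 2 ^ k + 1 ∨ Fintype.card F + 1 = 2 ^ k)) ∧
      Nonempty (G ≃* Matrix.ProjectiveSpecialLinearGroup (Fin 2) F) := by
  classical
  haveI : Fact (Nat.Prime 2) := ⟨Nat.prime_two⟩
  have hD2 : IsPGroup 2 D := IsPGroup.of_card (n := 2) (by rw [h4]; rfl)
  obtain ⟨S, hDS⟩ := hD2.exists_le_sylow
  have hScard : 8 ∣ Nat.card (S : Subgroup G) := by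
    have := S.pow_dvd_card_of_pow_dvd_card (n := 3) (by norm_num; exact h8)
    norm_num at this
    exact this
  have hS8 : 8 ≤ Nat.card (S : Subgroup G) := Nat.le_of_dvd Nat.card_pos hScard
  haveI : Nontrivial (S : Subgroup G) := Finite.one_lt_card_iff_nontrivial.1 (by omega)
  haveI := S.2.center_nontrivial
  -- a central involution of `S`
  obtain ⟨w, hw⟩ := exists_prime_orderOf_dvd_card' (G := center (S : Subgroup G)) 2 (by
    obtain ⟨n, hn⟩ := IsPGroup.iff_card.1 (S.2.to_subgroup (center (S : Subgroup G)))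
    rw [hn]
    refine dvd_pow_self 2 fun h0 => ?_
    have := Finite.one_lt_card (α := center (S : Subgroup G))
    rw [hn, h0, pow_zero] at this
    omega)
  set z : G := ((w : (S : Subgroup G)) : G) with hz
  have hzo : orderOf z = 2 := by rw [hz, Subgroup.orderOf_coe, Subgroup.orderOf_coe, hw]
  have hz1 : z ≠ 1 := fun e => by rw [e, orderOf_one] at hzo; omega
  have hzS : ∀ s ∈ (S : Subgroup G), s * z = z * s := fun s hs =>
    congrArg Subtype.val (mem_center_iff.1 w.2 ⟨s, hs⟩)
  have hzD : z ∈ D := by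
    rw [← hC, mem_centralizer_iff]
    exact fun d hd => hzS d (hDS hd)
  -- a second involution
  obtain ⟨x, hxD, hx1, hxz⟩ : ∃ x ∈ D, x ≠ 1 ∧ x ≠ z := by
    by_contra hc
    push Not at hc
    have : (D : Set G) ⊆ {1, z} := fun d hd => by
      by_cases h : d = 1
      · exact Or.inl h
      · exact Or.inr (hc d hd h)
    have h5 := Set.ncard_le_ncard this
    rw [Set.ncard_pair (Ne.symm hz1), ← Nat.card_coe_set_eq] at h5
    simp only [SetLike.coe_sort_coe] at h5
    omega
  have hcx : Nat.card (centralizer ({(⟨x, hDS hxD⟩ : (S : Subgroup G))} : Set (S : Subgroup G))) = 4 := by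
    rw [← Subgroup.card_map_of_injective (S : Subgroup G).subtype_injective, ← h4]
    have heq : (centralizer ({(⟨x, hDS hxD⟩ : (S : Subgroup G))} : Set (S : Subgroup G))).map
        (S : Subgroup G).subtype = D := by
      refine le_antisymm ?_ fun d hd => ?_
      · rintro _ ⟨⟨y, hyS⟩, hy, rfl⟩
        show y ∈ D
        rw [← hC, mem_centralizer_iff]
        intro d hd
        -- `D = {1, x, z, x z}`
        have hxy : Commute x y := (congrArg Subtype.val (mem_centralizer_singleton_iff.1 hy)).symm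
        have hzy : Commute z y := (hzS y hyS).symm
        by_cases hd1 : d = 1
        · simp [hd1]
        by_cases hdx : d = x
        · exact hdx ▸ hxy.eq
        by_cases hdz : d = z
        · exact hdz ▸ hzy.eq
        have hd' : d = x * z := by
          by_contra hne
          have hsub : ({1, x, z, x * z, d} : Set G) ⊆ (D : Set G) := by
            intro g hg
            rcases hg with rfl | rfl | rfl | rfl | rfl
            exacts [D.one_mem, hxD, hzD, mul_mem hxD hzD, hd]
          have h5 := Set.ncard_le_ncard hsub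
          rw [← Nat.card_coe_set_eq (D : Set G)] at h5
          simp only [SetLike.coe_sort_coe, h4] at h5
          have e1 : x * z ≠ 1 := fun e => hxz (mul_right_cancel (b := z)
            (by rw [e, mul_self_of hzo]))
          have e2 : x * z ≠ x := fun e => hz1 (mul_left_cancel (a := x) (by rw [e, mul_one]))
          have e3 : x * z ≠ z := fun e => hx1 (mul_right_cancel (b := z) (by rw [e, one_mul]))
          rw [Set.ncard_insert_of_notMem (by simp [Ne.symm hx1, Ne.symm hz1, Ne.symm e1, Ne.symm hd1]),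
            Set.ncard_insert_of_notMem (by simp [hxz, Ne.symm e2, Ne.symm hdx]),
            Set.ncard_insert_of_notMem (by simp [Ne.symm e3, Ne.symm hdz]),
            Set.ncard_pair (Ne.symm hne)] at h5
          omega
        exact hd' ▸ (hxy.mul_left hzy).eq
      · refine ⟨⟨d, hDS hd⟩, ?_, rfl⟩
        refine mem_centralizer_singleton_iff.2 (Subtype.ext ?_)
        have hd' : d ∈ centralizer (D : Set G) := hC.symm ▸ hd
        exact (mem_centralizer_iff.1 hd' x hxD).symm
    rw [heq]
  have hidx : ∀ H : Subgroup G, H.index ≠ 2 := fun H hH => by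
    haveI := normal_of_index_eq_two hH
    rcases (inferInstance : H.Normal).eq_bot_or_eq_top with rfl | rfl
    · rw [index_bot] at hH; omega
    · rw [index_top] at hH; omega
  rcases S3224.result S.2 (⟨x, hDS hxD⟩ : (S : Subgroup G))
      (by rw [← Subgroup.orderOf_coe]; exact orderOf_of_mul_self (hD x hxD) hx1) hcx with
    ⟨n, ⟨e⟩⟩ | hqd | h
  · have hn : 2 ≤ n := by
      have h := Nat.card_congr e.toEquiv
      rw [DihedralGroup.nat_card] at h
      omega
    have hO : (Cfsg.oddCore (Subgroup.centralizer ({z} : Set G))).map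
        (Subgroup.centralizer ({z} : Set G)).subtype = ⊥ := by
      rw [map_eq_bot_iff_of_injective _ (Subgroup.subtype_injective _)]
      refine (Subgroup.eq_bot_iff_forall _).2 fun y hy => ?_
      refine Subtype.ext (eq_one_of_odd_mem (hG z hzo) y.2 ?_)
      rw [Subgroup.orderOf_coe]
      exact odd_orderOf_mem InvChar.odd_oddCore hy
    obtain ⟨F, iF, iFF, hFodd, ⟨e'⟩⟩ := S0508.result S n hn ⟨e⟩ z hzo (hDS hzD)
      hzS ⊥ hO.symm (fun h => absurd rfl h)
      (fun s _ hs => absurd (mem_centralizer_iff.2 fun y hy => by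
        rw [SetLike.mem_coe, mem_bot] at hy; simp [hy]) hs)
      (fun Y hY hY1 => absurd (le_bot_iff.1 hY) hY1)
    refine ⟨F, iF, iFF, ?_, ⟨e'⟩⟩
    set q := Fintype.card F with hq
    obtain ⟨p, hcp⟩ := CharP.exists F
    obtain ⟨f, hp, hqp⟩ := FiniteField.card F p
    rw [← hq] at hqp
    haveI := Fact.mk hp
    have hcard := LinearGroup.gcd_mul_card_PSL_two (F := F)
    rw [← Nat.card_congr e'.toEquiv, Nat.card_eq_fintype_card (α := F), ← hq] at hcard
    have hq3 : 3 ≤ q := by
      have h1 : 1 < q := Fintype.one_lt_card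
      have := Nat.odd_iff.1 hFodd
      omega
    have hgcd : Nat.gcd 2 (q - 1) = 2 := Nat.gcd_eq_left (by have := Nat.odd_iff.1 hFodd; omega)
    rw [hgcd] at hcard
    have hq5 : q ≠ 5 ∧ q ≠ 3 := by
      obtain ⟨c, hc⟩ := h8
      constructor <;> intro e5 <;> rw [e5] at hcard <;> norm_num at hcard <;> omega
    have hrange := SL2Tor.range_orderOf_psl (F := F) p
    -- even torus orders are powers of two
    have hm : ∀ m, (m = (q - 1) / 2 ∨ m = (q + 1) / 2) → m % 2 = 0 → ∃ k, m = 2 ^ k := by
      intro m hm hev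
      have hmem : m ∈ Set.range (orderOf : Matrix.ProjectiveSpecialLinearGroup (Fin 2) F → ℕ) := by
        rw [hrange, hgcd]
        rcases hm with rfl | rfl
        · exact Or.inr (Or.inl (dvd_refl _))
        · exact Or.inr (Or.inr (dvd_refl _))
      obtain ⟨y, hy⟩ := hmem
      set g := e'.symm y
      have hgo : orderOf g = m := by rw [MulEquiv.orderOf_eq, hy]
      have hm0 : m ≠ 0 := by omega
      have ht : orderOf (g ^ (m / 2)) = 2 := by
        rw [← hgo]
        exact orderOf_pow_orderOf_div (by omega) (by omega)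
      obtain ⟨k, hk⟩ := two_pow_of_isPGroup (hG _ ht)
        (x := g) (mem_centralizer_singleton_iff.2 (Commute.self_pow g _).eq)
      exact ⟨k, by rw [← hgo, hk]⟩
    have hnear : ∃ k, q = 2 ^ k + 1 ∨ q + 1 = 2 ^ k := by
      have := Nat.odd_iff.1 hFodd
      rcases (show ((q - 1) / 2) % 2 = 0 ∨ ((q + 1) / 2) % 2 = 0 by omega) with h | h
      · obtain ⟨k, hk⟩ := hm _ (Or.inl rfl) h
        exact ⟨k + 1, Or.inl (by rw [pow_succ]; omega)⟩
      · obtain ⟨k, hk⟩ := hm _ (Or.inr rfl) h
        exact ⟨k + 1, Or.inr (by rw [pow_succ]; omega)⟩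
    obtain ⟨k, hk⟩ := hnear
    have hp2 : p ≠ 2 := by
      rintro rfl
      have := Nat.odd_iff.1 hFodd
      have : 2 ∣ q := hqp ▸ dvd_pow_self 2 f.pos.ne'
      omega
    rcases prime_of_near_two_pow hp hp2 f.pos (hqp ▸ hk) with h | h
    · exact Or.inl (hqp.trans h)
    · exact Or.inr ⟨hqp ▸ h, k, hk⟩
  · exfalso
    obtain ⟨R, hR, ⟨K, hKn, ⟨a, ha⟩, hK2, hKq⟩, -⟩ := S1213.result S (Or.inl hqd) hidx z hzo
    obtain ⟨P⟩ := (inferInstance : Nonempty (Sylow 2 K))
    obtain ⟨m, hm, ⟨eP⟩⟩ := hKq P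
    have hPc : 4 ≤ Nat.card (P : Subgroup K) := by
      rw [Nat.card_congr eP.toEquiv, Nat.card_eq_fintype_card, QuaternionGroup.card]
      exact Nat.le_mul_of_pos_right 4 (pow_pos two_pos m)
    have hK1 : 1 < Nat.card K := lt_of_lt_of_le (by omega) (hPc.trans (Subgroup.card_le_card_group _))
    have hKp : IsPGroup 2 K := (hG z hzo).to_subgroup K
    obtain ⟨n, hn⟩ := IsPGroup.iff_card.1 hKp
    obtain ⟨n, rfl⟩ : ∃ i, n = i + 1 := ⟨n - 1, by
      rcases n with _ | n
      · rw [hn, pow_zero] at hK1; omega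
      · omega⟩
    obtain ⟨H, hH⟩ := Sylow.exists_subgroup_card_pow_prime 2 (n := n) (hn ▸ pow_dvd_pow 2 n.le_succ)
    refine hK2 H ?_
    have := H.card_mul_index
    rw [hH, hn, pow_succ] at this
    exact Nat.eq_of_mul_eq_mul_left (pow_pos two_pos n) this
  · omega

section Module

open Matrix

variable {F : Type*} [Field F]

local notation "PSL₂" => Matrix.ProjectiveSpecialLinearGroup (Fin 2) F

/-- The image of an upper unitriangular matrix. -/
def pu (t : F) : Matrix.ProjectiveSpecialLinearGroup (Fin 2) F :=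
  QuotientGroup.mk' _ (SpecialLinearGroup.transvection (F := F) (zero_ne_one (α := Fin 2)) t)

/-- The Weyl element. -/
def pwm : Matrix.SpecialLinearGroup (Fin 2) F :=
  ⟨!![0, -1; 1, 0], by simp [Matrix.det_fin_two]⟩

@[simp] theorem coe_pwm : (pwm (F := F) : Matrix (Fin 2) (Fin 2) F) = !![0, -1; 1, 0] := rfl

theorem coe_tv {i j : Fin 2} (h : i ≠ j) (t : F) :
    ((SpecialLinearGroup.transvection (F := F) h t : Matrix.SpecialLinearGroup (Fin 2) F) :
      Matrix (Fin 2) (Fin 2) F) = 1 + Matrix.single i j t := rfl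

theorem pu_add (s t : F) : pu (s + t) = pu s * pu t := by
  rw [pu, pu, pu, ← map_mul, SpecialLinearGroup.transvection_add]

theorem pu_eq_one {t : F} (h : pu t = 1) : t = 0 := by
  have hc : SpecialLinearGroup.transvection (F := F) (zero_ne_one (α := Fin 2)) t ∈ center _ :=
    (QuotientGroup.eq_one_iff _).1 h
  have h2 := Subgroup.mem_center_iff.1 hc (pwm (F := F))
  have h3 := congrArg (fun A : Matrix.SpecialLinearGroup (Fin 2) F => A.1 1 1) h2
  simpa [Matrix.mul_apply, Fin.sum_univ_two, coe_tv, Matrix.single] using h3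

theorem orderOf_pu (p : ℕ) [Fact p.Prime] [CharP F p] {t : F} (ht : t ≠ 0) : orderOf (pu t) = p := by
  refine orderOf_eq_prime ?_ fun e => ht (pu_eq_one e)
  have : ∀ n : ℕ, pu t ^ n = pu ((n : F) * t) := by
    intro n
    induction n with
    | zero => simp [pu, SpecialLinearGroup.transvection_coeff_zero]
    | succ n ih => rw [pow_succ, ih, ← pu_add]; push_cast; ring_nf
  rw [this, CharP.cast_eq_zero, zero_mul, pu, SpecialLinearGroup.transvection_coeff_zero, map_one]

end Module

open Matrix in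
/-- `PSL(2, q)`, `q = 9` or a prime `≥ 7`, has no module on which all elements of odd order act
without fixed points. -/
theorem psl_odd_no_fpf {G : Type*} [Group G] [Finite G] {F : Type} [Field F] [Fintype F]
    (hF : Fintype.card F = 9 ∨ (Fintype.card F).Prime) (h7 : 7 ≤ Fintype.card F)
    (e : G ≃* Matrix.ProjectiveSpecialLinearGroup (Fin 2) F) {V : Type*} [CommGroup V] [Finite V]
    [Nontrivial V] {φ : G →* MulAut V} (hV : ∀ v : V, v * v = 1) : ¬ OddFpf φ := by
  classical
  intro hfpf
  have hψ : OddFpf (φ.comp e.symm.toMonoidHom) := hfpf.comp _ e.symm.injective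
  set ψ := φ.comp e.symm.toMonoidHom
  obtain ⟨p, hcp⟩ := CharP.exists F
  obtain ⟨f, hp, hqp⟩ := FiniteField.card F p
  haveI := Fact.mk hp
  rcases hF with h9 | hprime
  · have hp3 : p = 3 := by
      have : p ∣ 3 ^ 2 := by
        rw [show (3 : ℕ) ^ 2 = 9 by norm_num, ← h9, hqp]
        exact dvd_pow_self p f.pos.ne'
      exact (Nat.prime_dvd_prime_iff_eq hp Nat.prime_three).1 (hp.dvd_of_dvd_pow this)
    subst hp3
    obtain ⟨t, ht⟩ : ∃ t : F, t ∉ Set.range (fun n : Fin 3 => ((n : ℕ) : F)) := by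
      by_contra hc
      push Not at hc
      have := Fintype.card_le_of_surjective (fun n : Fin 3 => ((n : ℕ) : F)) hc
      simp [h9] at this
    have ht0 : t ≠ 0 := fun h => ht ⟨0, by simp [h]⟩
    have hmem := mem_zpowers_of_commute hψ hV Nat.prime_three (by norm_num)
      (orderOf_pu (F := F) 3 one_ne_zero) (orderOf_pu 3 ht0)
      (show pu (1 : F) * pu t = pu t * pu 1 by rw [← pu_add, ← pu_add, add_comm])
    have hpow : ∀ n : ℕ, pu (1 : F) ^ n = pu (n : F) := by
      intro n
      induction n with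
      | zero => simp [pu, SpecialLinearGroup.transvection_coeff_zero]
      | succ n ih => rw [pow_succ, ih, ← pu_add]; push_cast; ring_nf
    rw [← mem_powers_iff_mem_zpowers] at hmem
    obtain ⟨n, hn⟩ := hmem
    simp only at hn
    rw [hpow] at hn
    refine ht ⟨⟨n % 3, Nat.mod_lt _ (by norm_num)⟩, ?_⟩
    have h0 : pu (t - (n : F)) = 1 := by
      have := pu_add (t - (n : F)) (n : F)
      rw [sub_add_cancel, hn] at this
      exact right_eq_mul.1 this
    rw [sub_eq_zero.1 (pu_eq_one h0)]
    simp [CharP.cast_eq_mod F 3 n]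
  · have hf1 : (f : ℕ) = 1 := by
      by_contra hne
      rw [hqp] at hprime
      exact Nat.Prime.not_prime_pow (by have := f.pos; omega) hprime
    have hFp : Fintype.card F = p := by rw [hqp, hf1, pow_one]
    have hp7 : 7 ≤ p := hFp ▸ h7
    set u := pu (1 : F) with hu
    set w := QuotientGroup.mk' (center (Matrix.SpecialLinearGroup (Fin 2) F)) (pwm (F := F)) with hw
    have hww : w * w = 1 := by
      rw [hw, ← map_mul]
      refine (QuotientGroup.eq_one_iff _).2 (Subgroup.mem_center_iff.2 fun A => ?_)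
      ext i j
      fin_cases i <;> fin_cases j <;> simp [Matrix.mul_apply, Fin.sum_univ_two]
    have huw3 : (u * w) ^ 3 = 1 := by
      rw [hu, pu, hw, ← map_mul, ← map_pow]
      refine (QuotientGroup.eq_one_iff _).2 (Subgroup.mem_center_iff.2 fun A => ?_)
      ext i j
      fin_cases i <;> fin_cases j <;>
        simp [pow_succ, Matrix.mul_apply, Fin.sum_univ_two, coe_tv, Matrix.single]
    have huo : orderOf u = p := orderOf_pu p one_ne_zero
    have huw1 : u * w ≠ 1 := by
      intro e1
      have : u = w⁻¹ := eq_inv_of_mul_eq_one_left e1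
      have h2 : orderOf u ∣ 2 := orderOf_dvd_of_pow_eq_one (by rw [this, inv_pow, pow_two, hww, inv_one])
      rw [huo] at h2
      have := Nat.le_of_dvd two_pos h2
      omega
    -- the relation `1 + uw + (uw)² = 0`
    have hrel : ∀ g : Matrix.ProjectiveSpecialLinearGroup (Fin 2) F, g ^ 3 = 1 → g ≠ 1 →
        ∀ v : V, v * ψ g v * ψ (g ^ 2) v = 1 := by
      intro g hg hg1 v
      have ho : orderOf g = 3 := orderOf_eq_prime hg hg1
      refine hψ g (by rw [ho]; decide) hg1 _ ?_
      rw [map_mul, map_mul, ← MulAut.mul_apply, ← MulAut.mul_apply, ← map_mul, ← map_mul, ← pow_two,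
        ← pow_succ', hg, map_one, MulAut.one_apply, mul_comm, mul_assoc]
    have huw2 : (u * w) ^ 2 = w * u⁻¹ := by
      have h1 : (u * w) ^ 2 = (u * w)⁻¹ := eq_inv_of_mul_eq_one_left (by rw [← pow_succ, huw3])
      rw [h1, _root_.mul_inv_rev, inv_eq_of_mul_eq_one_right hww]
    have hR1 : ∀ v : V, v * ψ (u * w) v * ψ (w * u⁻¹) v = 1 := fun v => by
      rw [← huw2]; exact hrel _ huw3 huw1 v
    have hR2 : ∀ v : V, v * ψ (w * u) v * ψ (u⁻¹ * w) v = 1 := fun v => by
      have h := congrArg (ψ w) (hR1 (ψ w v))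
      simp only [map_mul, map_one, ← MulAut.mul_apply] at h
      simp only [← map_mul, hww, map_one, MulAut.one_apply, ← mul_assoc] at h
      rwa [mul_assoc (w * u) w w, hww, mul_one, one_mul] at h
    have hinv : ∀ v : V, v⁻¹ = v := fun v => inv_eq_of_mul_eq_one_right (hV v)
    -- `s = u + u⁻¹`
    let s : V → V := fun v => ψ u v * ψ u⁻¹ v
    have hsw : ∀ v, s (ψ w v) = ψ w (s v) := by
      intro v
      simp only [s, map_mul, ← MulAut.mul_apply]
      simp only [← map_mul]
      have h := (hR1 v).trans (hR2 v).symm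
      rw [mul_assoc, mul_assoc] at h
      have h' := mul_left_cancel h
      calc ψ (u * w) v * ψ (u⁻¹ * w) v
          = (ψ (u * w) v * ψ (w * u⁻¹) v) * (ψ (w * u⁻¹) v * ψ (u⁻¹ * w) v) := by
            rw [mul_assoc, ← mul_assoc (ψ (w * u⁻¹) v), hV, one_mul]
        _ = (ψ (w * u) v * ψ (u⁻¹ * w) v) * (ψ (w * u⁻¹) v * ψ (u⁻¹ * w) v) := by rw [h']
        _ = ψ (w * u) v * ψ (w * u⁻¹) v * (ψ (u⁻¹ * w) v * ψ (u⁻¹ * w) v) := by
            rw [mul_mul_mul_comm]
        _ = ψ (w * u) v * ψ (w * u⁻¹) v := by rw [hV, mul_one]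
    let C : Subgroup (Matrix.ProjectiveSpecialLinearGroup (Fin 2) F) :=
      { carrier := {g | ∀ v, s (ψ g v) = ψ g (s v)}
        one_mem' := fun v => by simp
        mul_mem' := fun {a b} ha hb v => by rw [map_mul, MulAut.mul_apply, ha, hb, MulAut.mul_apply]
        inv_mem' := fun {a} ha v => by
          apply (ψ a).injective
          rw [← ha, ← MulAut.mul_apply, ← MulAut.mul_apply, ← map_mul, mul_inv_cancel, map_one,
            MulAut.one_apply, MulAut.one_apply] }
    have huC : u ∈ C := fun v => by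
      simp only [s, map_mul, ← MulAut.mul_apply]
      simp only [← map_mul, mul_inv_cancel, inv_mul_cancel]
    have hwC : w ∈ C := hsw
    have hCtop : C = ⊤ := by
      have hadd : AddSubgroup.closure ({1} : Set F) = ⊤ := by
        haveI : Fact (Nat.card F).Prime := ⟨by rw [Nat.card_eq_fintype_card, hFp]; exact hp⟩
        rcases AddSubgroup.eq_bot_or_eq_top_of_prime_card (AddSubgroup.closure ({1} : Set F)) with h | h
        · exact absurd (AddSubgroup.mem_bot.1 (h ▸ AddSubgroup.subset_closure (Set.mem_singleton (1 : F))))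
            one_ne_zero
        · exact h
      have htop := LinearGroup.eq_top_of_transvection_mem_of_addClosure
        (H := C.comap (QuotientGroup.mk' _)) ({1} : Set F) hadd (fun i j hij c hc => by
          rw [Set.mem_singleton_iff] at hc
          subst hc
          fin_cases i <;> fin_cases j
          · exact absurd rfl hij
          · exact huC
          · show QuotientGroup.mk' _ _ ∈ C
            have h : w * u⁻¹ * w⁻¹ ∈ C := mul_mem (mul_mem hwC (inv_mem huC)) (inv_mem hwC)
            convert h using 1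
            rw [eq_mul_inv_iff_mul_eq, eq_mul_inv_iff_mul_eq, hw, hu, pu, ← map_mul, ← map_mul]
            congr 1
            rw [Matrix.SpecialLinearGroup.ext_iff]
            intro a b
            fin_cases a <;> fin_cases b <;>
              simp [Matrix.mul_apply, Fin.sum_univ_two, coe_tv, Matrix.single]
          · exact absurd rfl hij)
      rw [← Subgroup.map_comap_eq_self_of_surjective (QuotientGroup.mk'_surjective _) C, htop,
        ← MonoidHom.range_eq_map, MonoidHom.range_eq_top]
      exact QuotientGroup.mk'_surjective _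
    -- the torus element
    have h2 : (2 : F) ≠ 0 := by
      intro h
      have := (CharP.cast_eq_zero_iff F p 2).1 (by exact_mod_cast h)
      have := Nat.le_of_dvd two_pos this
      omega
    let d : Matrix.SpecialLinearGroup (Fin 2) F :=
      ⟨!![2, 0; 0, 2⁻¹], by simp [Matrix.det_fin_two, h2]⟩
    set dd := QuotientGroup.mk' (center (Matrix.SpecialLinearGroup (Fin 2) F)) d with hdd
    have hconj : dd * u * dd⁻¹ = u ^ 4 := by
      have hu4 : u ^ 4 = pu (4 : F) := by
        rw [pow_succ, pow_succ, pow_succ, pow_one, hu, ← pu_add, ← pu_add, ← pu_add]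
        norm_num
      rw [hu4, mul_inv_eq_iff_eq_mul, hdd, hu, pu, pu, ← map_mul, ← map_mul]
      congr 1
      rw [Matrix.SpecialLinearGroup.ext_iff]
      intro a b
      have hdc : ((d : Matrix.SpecialLinearGroup (Fin 2) F) : Matrix (Fin 2) (Fin 2) F) = !![2, 0; 0, 2⁻¹] := rfl
      fin_cases a <;> fin_cases b <;>
        simp [Matrix.mul_apply, Fin.sum_univ_two, coe_tv, Matrix.single, hdc, h2] <;> field_simp <;>
        norm_num
    have hd : ∀ v, s (ψ dd v) = ψ dd (s v) := (hCtop.symm ▸ Subgroup.mem_top dd : dd ∈ C)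
    have h4 : ∀ v, ψ (u ^ 4) v * ψ (u ^ 4)⁻¹ v = ψ u v * ψ u⁻¹ v := by
      intro v
      have := hd (ψ dd⁻¹ v)
      simp only [s, map_mul, ← MulAut.mul_apply] at this
      simp only [← map_mul, mul_inv_cancel, mul_one, ← mul_assoc] at this
      rw [show dd * u * dd⁻¹ = u ^ 4 from hconj,
        show dd * u⁻¹ * dd⁻¹ = (u ^ 4)⁻¹ by rw [← hconj]; group] at this
      exact this.symm
    -- conclusion
    obtain ⟨v, hv⟩ := exists_ne (1 : V)
    have hodd : ∀ i, i = 3 ∨ i = 5 → Odd (orderOf (u ^ i)) ∧ u ^ i ≠ 1 := by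
      intro i hi
      refine ⟨?_, fun e1 => ?_⟩
      · exact (huo ▸ hp.odd_of_ne_two (by omega) : Odd (orderOf u)).of_dvd_nat (orderOf_pow_dvd i)
      · have := Nat.le_of_dvd (by omega) (huo ▸ orderOf_dvd_of_pow_eq_one e1)
        omega
    have hy : ψ (u ^ 5) v * v ≠ 1 := by
      intro e1
      refine hv (hψ (u ^ 5) (hodd 5 (Or.inr rfl)).1 (hodd 5 (Or.inr rfl)).2 v ?_)
      rw [← hinv v] at e1 ⊢
      rw [mul_inv_eq_one] at e1
      rwa [hinv v] at e1 ⊢
    refine hy (hψ (u ^ 3) (hodd 3 (Or.inl rfl)).1 (hodd 3 (Or.inl rfl)).2 _ ?_)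
    have h := congrArg (ψ (u ^ 4)) (h4 v)
    rw [map_mul, map_mul, ← MulAut.mul_apply, ← MulAut.mul_apply, ← MulAut.mul_apply,
      ← MulAut.mul_apply, ← map_mul, ← map_mul, ← map_mul, ← map_mul, mul_inv_cancel, map_one,
      MulAut.one_apply, ← pow_add, ← pow_succ] at h
    rw [show u ^ 4 * u⁻¹ = u ^ 3 by group] at h
    simp only [Nat.reduceAdd] at h
    rw [map_mul, ← MulAut.mul_apply, ← map_mul, ← pow_add]
    simp only [Nat.reduceAdd]
    calc ψ (u ^ 8) v * ψ (u ^ 3) v = (ψ (u ^ 8) v * v) * (v * ψ (u ^ 3) v) := by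
          rw [mul_assoc, ← mul_assoc v, hV, one_mul]
      _ = (ψ (u ^ 5) v * ψ (u ^ 3) v) * (v * ψ (u ^ 3) v) := by rw [h]
      _ = ψ (u ^ 5) v * v * (ψ (u ^ 3) v * ψ (u ^ 3) v) := by rw [mul_mul_mul_comm]
      _ = _ := by rw [hV, mul_one]

end Cfsg.Agent.CIT
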