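import Cfsg.Agent.CIT.Natural

/-!
# Essential subgroups of CIT-groups
-/

set_option autoImplicit false
set_option linter.style.haveILetI false

namespace Cfsg.Agent.CIT

open Subgroup

universe u

/-- The induction hypothesis: smaller groups with a fixed-point-free module have TI Sylow
`2`-subgroups. -/
def Good (m : ℕ) : Prop :=
  ∀ (H : Type u) [Group H] [Finite H], Nat.card H < m → IsCIT H → Cfsg.pCore 2 H = ⊥ →
    ∀ (V : Type u) [CommGroup V] [Finite V] [Nontrivial V] (φ : H →* MulAut V),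
      (∀ v : V, v * v = 1) → OddFpf φ → TI H

theorem Good.mono {m n : ℕ} (h : Good.{u} m) (hnm : n ≤ m) : Good.{u} n :=
  fun H _ _ hH => h H (lt_of_lt_of_le hH hnm)

variable {G : Type u} [Group G]

/-- `Q` is its own largest normal `2`-subgroup in its normaliser, contains its centraliser, and
is not a Sylow `2`-subgroup of the normaliser. -/
structure Ess (Q : Subgroup G) : Prop where
  two : IsPGroup 2 Q
  cent : centralizer (Q : Set G) ≤ Q
  core : ∀ R : Subgroup G, Q ≤ R → R ≤ normalizer (Q : Set G) → IsPGroup 2 R →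
    normalizer (Q : Set G) ≤ normalizer (R : Set G) → R = Q
  even : 2 ∣ Q.relIndex (normalizer (Q : Set G))

/-- The normaliser modulo the subgroup. -/
abbrev Out (Q : Subgroup G) : Type u :=
  ↥(normalizer (Q : Set G)) ⧸ Q.subgroupOf (normalizer (Q : Set G))

/-- The quotient map. -/
abbrev toOut (Q : Subgroup G) : ↥(normalizer (Q : Set G)) →* Out Q :=
  QuotientGroup.mk' _

theorem toOut_surjective (Q : Subgroup G) : Function.Surjective (toOut Q) :=
  QuotientGroup.mk'_surjective _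

theorem toOut_eq_one {Q : Subgroup G} {g : ↥(normalizer (Q : Set G))} :
    toOut Q g = 1 ↔ (g : G) ∈ Q :=
  (QuotientGroup.eq_one_iff g).trans mem_subgroupOf

theorem toOut_ker (Q : Subgroup G) :
    (toOut Q).ker = Q.subgroupOf (normalizer (Q : Set G)) :=
  QuotientGroup.ker_mk' _

instance omegaComm (Q : Subgroup G) : CommGroup ↥(omega Q) :=
  { (omega Q).toGroup with
    mul_comm := fun a b => Subtype.ext (omega_comm a.2 (omega_le Q b.2)) }

theorem omega_sq {Q : Subgroup G} (v : ↥(omega Q)) : v * v = 1 := Subtype.ext v.2.2.1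

theorem conj_mem_omega {Q : Subgroup G} {g x : G} (hg : g ∈ normalizer (Q : Set G))
    (hx : x ∈ omega Q) : g * x * g⁻¹ ∈ omega Q := by
  have h : (omega Q).map (MulAut.conj g).toMonoidHom = omega Q := by
    rw [omega_map]
    congr 1
    ext y
    constructor
    · rintro ⟨z, hz, rfl⟩
      exact (mem_normalizer_iff.1 hg z).1 hz
    · intro hy
      refine ⟨g⁻¹ * y * g, (mem_normalizer_iff.1 hg _).2 ?_, ?_⟩
      · rw [show g * (g⁻¹ * y * g) * g⁻¹ = y by group]; exact hy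
      · show g * (g⁻¹ * y * g) * g⁻¹ = y
        group
  rw [← h]
  exact ⟨x, hx, rfl⟩

/-- The conjugation action of the normaliser on `omega Q`. -/
def actNor (Q : Subgroup G) : ↥(normalizer (Q : Set G)) →* MulAut ↥(omega Q) where
  toFun g :=
    { toFun := fun v => ⟨(g : G) * v * (g : G)⁻¹, conj_mem_omega g.2 v.2⟩
      invFun := fun v => ⟨(g : G)⁻¹ * v * (g : G), by
        have := conj_mem_omega (inv_mem g.2) v.2
        rwa [inv_inv] at this⟩
      left_inv := fun v => Subtype.ext (by simp [mul_assoc])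
      right_inv := fun v => Subtype.ext (by simp [mul_assoc])
      map_mul' := fun a b => Subtype.ext (by simp [mul_assoc]) }
  map_one' := MulEquiv.ext fun v => Subtype.ext (by simp)
  map_mul' g h := MulEquiv.ext fun v => Subtype.ext (by simp [mul_assoc])

/-- The action of `Out Q` on `omega Q`. -/
def act (Q : Subgroup G) : Out Q →* MulAut ↥(omega Q) :=
  QuotientGroup.lift _ (actNor Q) fun g hg => MulEquiv.ext fun v => Subtype.ext (by
    show (g : G) * v * (g : G)⁻¹ = v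
    rw [← (omega_comm v.2 (mem_subgroupOf.1 hg)).eq, mul_inv_cancel_right])

theorem coe_act {Q : Subgroup G} (g : ↥(normalizer (Q : Set G))) (v : ↥(omega Q)) :
    (act Q (toOut Q g) v : G) = (g : G) * v * (g : G)⁻¹ := rfl

theorem act_eq_iff {Q : Subgroup G} (g : ↥(normalizer (Q : Set G))) (v : ↥(omega Q)) :
    act Q (toOut Q g) v = v ↔ Commute (g : G) (v : G) := by
  rw [← Subtype.coe_inj, coe_act]
  exact mul_inv_eq_iff_eq_mul

theorem act_eq_iff' {Q : Subgroup G} (g : ↥(normalizer (Q : Set G))) (v : ↥(omega Q)) :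
    act Q (toOut Q g) v = v ↔ (g : G) ∈ centralizer ({(v : G)} : Set G) := by
  rw [act_eq_iff, mem_centralizer_singleton_iff]
  exact ⟨fun h => h.eq, fun h => h⟩

variable [Finite G]

theorem exists_odd_lift {Q : Subgroup G} {x : Out Q} (ho : Odd (orderOf x)) :
    ∃ g : ↥(normalizer (Q : Set G)), toOut Q g = x ∧ Odd (orderOf (g : G)) := by
  obtain ⟨g, hg⟩ := toOut_surjective Q x
  obtain ⟨k, m, hm, hkm⟩ := Nat.exists_eq_two_pow_mul_odd (orderOf_pos g).ne'
  have hcop : Nat.Coprime (2 ^ k) (orderOf x) :=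
    (Nat.coprime_two_left.2 ho).pow_left k
  obtain ⟨j, hj⟩ := exists_pow_eq_self_of_coprime hcop
  refine ⟨(g ^ 2 ^ k) ^ j, by rw [map_pow, map_pow, hg, hj], ?_⟩
  rw [Subgroup.orderOf_coe]
  refine (show Odd (orderOf (g ^ 2 ^ k)) from ?_).of_dvd_nat (orderOf_pow_dvd j)
  rw [orderOf_pow, hkm, Nat.gcd_eq_right (Dvd.intro _ rfl),
    Nat.mul_div_cancel_left _ (pow_pos two_pos k)]
  exact hm

theorem act_fpf (hG : IsCIT G) (Q : Subgroup G) : OddFpf (act Q) := by
  intro x ho hx v hv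
  obtain ⟨g, rfl, hgo⟩ := exists_odd_lift ho
  by_contra hv1
  have h1 := hG.eq_one_of_commute (t := (v : G))
    (orderOf_of_mul_self v.2.2.1 fun e => hv1 (Subtype.ext e)) hgo ((act_eq_iff g v).1 hv)
  exact hx (toOut_eq_one.2 (by rw [h1]; exact one_mem Q))

theorem out_cit (hG : IsCIT G) {Q : Subgroup G} (hQ : IsPGroup 2 Q) : IsCIT (Out Q) :=
  (hG.subgroup _).quotient _ (hQ.comap_subtype)

theorem pCore_out_of_core {Q : Subgroup G} (hQ : IsPGroup 2 Q)
    (hcore : ∀ R : Subgroup G, Q ≤ R → R ≤ normalizer (Q : Set G) → IsPGroup 2 R →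
      normalizer (Q : Set G) ≤ normalizer (R : Set G) → R = Q) :
    Cfsg.pCore 2 (Out Q) = ⊥ := by
  haveI : Fact (Nat.Prime 2) := ⟨Nat.prime_two⟩
  set N := normalizer (Q : Set G)
  set P := (Cfsg.pCore 2 (Out Q)).comap (toOut Q) with hP
  haveI hPn : P.Normal := (inferInstance : (Cfsg.pCore 2 (Out Q)).Normal).comap _
  have hP2 : IsPGroup 2 P := Thompson.isPGroup_pCore.comap_of_ker_isPGroup _
    (by rw [toOut_ker]; exact hQ.comap_subtype)
  have hR := hcore (P.map N.subtype) (fun x hx => ?_) (map_subtype_le _) (hP2.map _) ?_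
  · refine (Subgroup.eq_bot_iff_forall _).2 fun y hy => ?_
    obtain ⟨g, rfl⟩ := toOut_surjective Q y
    exact toOut_eq_one.2 (hR.le ⟨g, hy, rfl⟩)
  · exact ⟨⟨x, le_normalizer hx⟩, by
      show toOut Q ⟨x, le_normalizer hx⟩ ∈ Cfsg.pCore 2 (Out Q)
      rw [toOut_eq_one.2 (show ((⟨x, le_normalizer hx⟩ : N) : G) ∈ Q from hx)]
      exact one_mem _, rfl⟩
  · refine le_trans ?_ (le_normalizer_map N.subtype)
    intro g hg
    exact ⟨⟨g, hg⟩, by rw [normalizer_eq_top]; exact mem_top _, rfl⟩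

theorem card_out_lt_of_ne_bot {Q : Subgroup G} (hQ : Q ≠ ⊥) :
    Nat.card (Out Q) < Nat.card G := by
  haveI := (Q.nontrivial_iff_ne_bot.2 hQ)
  have h1 := card_eq_card_quotient_mul_card_subgroup (Q.subgroupOf (normalizer (Q : Set G)))
  rw [Nat.card_congr (subgroupOfEquivOfLe le_normalizer).toEquiv] at h1
  have h2 : 1 < Nat.card Q := Finite.one_lt_card
  have h3 : Nat.card ↥(normalizer (Q : Set G)) ≤ Nat.card G := Subgroup.card_le_card_group _
  have h4 : 0 < Nat.card (Out Q) := Nat.card_pos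
  calc Nat.card (Out Q) = Nat.card (Out Q) * 1 := (mul_one _).symm
    _ < Nat.card (Out Q) * Nat.card Q := Nat.mul_lt_mul_of_pos_left h2 h4
    _ ≤ Nat.card G := h1 ▸ h3

theorem out_ti_of_core (hG : IsCIT G) (hgood : Good.{u} (Nat.card G)) {Q : Subgroup G}
    (hQ : IsPGroup 2 Q) (hne : Q ≠ ⊥)
    (hcore : ∀ R : Subgroup G, Q ≤ R → R ≤ normalizer (Q : Set G) → IsPGroup 2 R →
      normalizer (Q : Set G) ≤ normalizer (R : Set G) → R = Q) : TI (Out Q) := by
  haveI := (omega Q).nontrivial_iff_ne_bot.2 (omega_ne_bot hQ hne)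
  exact hgood (Out Q) (card_out_lt_of_ne_bot hne) (out_cit hG hQ) (pCore_out_of_core hQ hcore)
    ↥(omega Q) (act Q) omega_sq (act_fpf hG Q)

namespace Ess

variable {Q : Subgroup G}

theorem ne_bot (hQ : Ess Q) : Q ≠ ⊥ := by
  intro h
  have h1 : normalizer (Q : Set G) ≤ Q := fun x _ => hQ.cent (by
    subst h
    exact mem_centralizer_iff.2 fun y hy => by rw [mem_bot.1 hy, one_mul, mul_one])
  have h2 := hQ.even
  rw [relIndex_eq_one.2 h1] at h2
  omega

theorem omega_nontrivial (hQ : Ess Q) : Nontrivial ↥(omega Q) :=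
  (omega Q).nontrivial_iff_ne_bot.2 (omega_ne_bot hQ.two hQ.ne_bot)

theorem pCore_out (hQ : Ess Q) : Cfsg.pCore 2 (Out Q) = ⊥ :=
  pCore_out_of_core hQ.two hQ.core

theorem card_out_lt (hQ : Ess Q) : Nat.card (Out Q) < Nat.card G :=
  card_out_lt_of_ne_bot hQ.ne_bot

theorem out_ti (hQ : Ess Q) (hG : IsCIT G) (hgood : Good.{u} (Nat.card G)) : TI (Out Q) :=
  out_ti_of_core hG hgood hQ.two hQ.ne_bot hQ.core

/-- An elementary offender on `omega Q` gives the natural module. -/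
theorem natural (hQ : Ess Q) (hG : IsCIT G) (hgood : Good.{u} (Nat.card G)) {A : Subgroup (Out Q)}
    (hA : ∀ a ∈ A, a * a = 1) (hA1 : A ≠ ⊥)
    (hoff : Nat.card ↥(omega Q) ≤ Nat.card A * Nat.card (fix (act Q) A)) :
    ∃ (F : Type) (_ : Field F) (_ : Fintype F), Nonempty (Natural (act Q) A F) := by
  haveI := hQ.omega_nontrivial
  exact exists_natural (out_cit hG hQ.two) hQ.pCore_out (hQ.out_ti hG hgood) (act_fpf hG Q)
    omega_sq A hA hA1 hoff

end Ess

/-- In a `2`-group a proper subgroup is properly contained in its normaliser. -/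
theorem exists_mem_normalizer_not_mem {S Q : Subgroup G} (hS : IsPGroup 2 S) (h : Q ≤ S)
    (hne : Q ≠ S) : ∃ x ∈ S, x ∈ normalizer (Q : Set G) ∧ x ∉ Q := by
  haveI : Fact (Nat.Prime 2) := ⟨Nat.prime_two⟩
  haveI : Group.IsNilpotent S := hS.isNilpotent
  have hlt : Q.subgroupOf S < ⊤ := lt_top_iff_ne_top.2 fun e =>
    hne (le_antisymm h (subgroupOf_eq_top.1 e))
  obtain ⟨⟨x, hxS⟩, hx, hxQ⟩ :=
    SetLike.exists_of_lt (Group.normalizerCondition_of_isNilpotent (G := S) _ hlt)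
  refine ⟨x, hxS, mem_normalizer_iff.2 fun y => ⟨fun hy => ?_, fun hy => ?_⟩,
    fun hq => hxQ (mem_subgroupOf.2 hq)⟩
  · exact (mem_normalizer_iff.1 hx ⟨y, h hy⟩).1 (mem_subgroupOf.2 hy)
  · have hyS : y ∈ S := by
      have h1 := S.mul_mem (S.mul_mem (inv_mem hxS) (h hy)) hxS
      rwa [show x⁻¹ * (x * y * x⁻¹) * x = y by group] at h1
    exact (mem_normalizer_iff.1 hx ⟨y, hyS⟩).2 (mem_subgroupOf.2 hy)

theorem sylow_sup_exists {O W : Subgroup G} (hO : IsPGroup 2 O) (hW : IsPGroup 2 W)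
    (h : W ≤ normalizer (O : Set G)) : ∃ R : Sylow 2 G, O ≤ (R : Subgroup G) ∧ W ≤ (R : Subgroup G) := by
  obtain ⟨R, hR⟩ := (hO.to_sup_of_normal_left' hW h).exists_le_sylow
  exact ⟨R, le_sup_left.trans hR, le_sup_right.trans hR⟩

/-- A maximal intersection of inequivalent Sylow `2`-subgroups is essential. -/
theorem ess_of_max (hG : IsCIT G) {r : Sylow 2 G → Sylow 2 G → Prop} (hr : Equivalence r)
    {S R : Sylow 2 G} (hSR : ¬ r S R) (hne : (S : Subgroup G) ⊓ R ≠ ⊥)
    (hmax : ∀ S' R' : Sylow 2 G, ¬ r S' R' →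
      Nat.card ↥((S' : Subgroup G) ⊓ R') ≤ Nat.card ↥((S : Subgroup G) ⊓ R)) :
    Ess ((S : Subgroup G) ⊓ R) := by
  haveI : Fact (Nat.Prime 2) := ⟨Nat.prime_two⟩
  set Q := (S : Subgroup G) ⊓ R with hQ
  have hQ2 : IsPGroup 2 Q := S.2.to_le inf_le_left
  have hne' : (S : Subgroup G) ≠ R := fun e => hSR (by rw [Sylow.ext e]; exact hr.refl _)
  have hQS : Q ≠ S := fun e =>
    hne' (S.is_maximal' R.2 (e ▸ inf_le_right)).symm
  have hQR : Q ≠ R := fun e => hne' (R.is_maximal' S.2 (e ▸ inf_le_left))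
  obtain ⟨a, haS, haN, haQ⟩ := exists_mem_normalizer_not_mem S.2 inf_le_left hQS
  obtain ⟨b, hbR, hbN, hbQ⟩ := exists_mem_normalizer_not_mem R.2 inf_le_right hQR
  set N := normalizer (Q : Set G) with hN
  have hlt : ∀ (T : Sylow 2 G) (c : G) (W : Sylow 2 G), Q ≤ (T : Subgroup G) →
      c ∈ (T : Subgroup G) → c ∉ Q → Q ≤ (W : Subgroup G) → c ∈ (W : Subgroup G) → r T W := by
    intro T c W hQT hcT hcQ hQW hcW
    by_contra h
    refine (Set.ncard_lt_ncard (SetLike.coe_ssubset_coe.2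
      (lt_of_le_of_ne (le_inf hQT hQW) fun e => hcQ (e ▸ (⟨hcT, hcW⟩ : c ∈ (T : Subgroup G) ⊓ W))))
      (Set.toFinite _)).not_ge ?_
    rw [← Nat.card_coe_set_eq, ← Nat.card_coe_set_eq]
    exact hmax T W h
  have hC2 : IsPGroup 2 ↥(centralizer (Q : Set G)) := hG.centralizer_isPGroup hQ2 hne
  have key : ∀ O : Subgroup G, Q ≤ O → O ≤ N → IsPGroup 2 O → N ≤ normalizer (O : Set G) →
      O = Q := by
    intro O hQO hON hO2 hnorm
    obtain ⟨R1, hR1, hR1'⟩ := sylow_sup_exists hO2 (S.2.to_le inf_le_left :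
      IsPGroup 2 ↥((S : Subgroup G) ⊓ N)) (inf_le_right.trans hnorm)
    obtain ⟨R2, hR2, hR2'⟩ := sylow_sup_exists hO2 (R.2.to_le inf_le_left :
      IsPGroup 2 ↥((R : Subgroup G) ⊓ N)) (inf_le_right.trans hnorm)
    have h1 : r S R1 := hlt S a R1 inf_le_left haS haQ (hQO.trans hR1) (hR1' ⟨haS, haN⟩)
    have h2 : r R R2 := hlt R b R2 inf_le_right hbR hbQ (hQO.trans hR2) (hR2' ⟨hbR, hbN⟩)
    have h3 : ¬ r R1 R2 := fun h => hSR (hr.trans h1 (hr.trans h (hr.symm h2)))
    exact (Subgroup.eq_of_le_of_card_ge hQO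
      ((Subgroup.card_le_of_le (le_inf hR1 hR2)).trans (hmax R1 R2 h3))).symm
  refine ⟨hQ2, ?_, key, ?_⟩
  · set C := centralizer (Q : Set G) with hC
    have hCN : C ≤ N := centralizer_le_normalizer _
    have hQC : IsPGroup 2 ↥(Q ⊔ C) :=
      hQ2.to_sup_of_normal_left' hC2 hCN
    have h := key (Q ⊔ C) le_sup_left (sup_le le_normalizer hCN) hQC ?_
    · exact le_sup_right.trans h.le
    · intro g hg
      have hQg : Q.map (MulAut.conj g).toMonoidHom = Q := by
        ext y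
        constructor
        · rintro ⟨z, hz, rfl⟩
          exact (mem_normalizer_iff.1 hg z).1 hz
        · intro hy
          exact ⟨g⁻¹ * y * g, (mem_normalizer_iff.1 hg _).2
            (by rwa [show g * (g⁻¹ * y * g) * g⁻¹ = y by group]),
            show g * (g⁻¹ * y * g) * g⁻¹ = y by group⟩
      have hC1 : ∀ g ∈ N, ∀ z ∈ C, g * z * g⁻¹ ∈ C := by
        intro g hg z hz
        refine mem_centralizer_iff.2 fun q hq => ?_
        have hq' : g⁻¹ * q * g ∈ Q := (mem_normalizer_iff.1 hg _).2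
          (by rwa [show g * (g⁻¹ * q * g) * g⁻¹ = q by group])
        calc q * (g * z * g⁻¹) = g * (g⁻¹ * q * g * z) * g⁻¹ := by group
          _ = g * (z * (g⁻¹ * q * g)) * g⁻¹ := by rw [mem_centralizer_iff.1 hz _ hq']
          _ = g * z * g⁻¹ * q := by group
      have hCg : C.map (MulAut.conj g).toMonoidHom = C := by
        ext y
        constructor
        · rintro ⟨z, hz, rfl⟩
          exact hC1 g hg z hz
        · intro hy
          refine ⟨g⁻¹ * y * g, ?_, show g * (g⁻¹ * y * g) * g⁻¹ = y by group⟩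
          have := hC1 g⁻¹ (inv_mem hg) y hy
          rwa [inv_inv] at this
      refine mem_normalizer_iff_map_conj_eq.2 ?_
      exact (Subgroup.map_sup _ _ _).trans (congrArg₂ (· ⊔ ·) hQg hCg)
  · have hdvd : Q.relIndex ((S : Subgroup G) ⊓ N) ∣ Q.relIndex N := by
      rw [← relIndex_mul_relIndex Q _ N (le_inf inf_le_left le_normalizer) inf_le_right]
      exact dvd_mul_right _ _
    refine dvd_trans ?_ hdvd
    obtain ⟨k, hk⟩ := (S.2.to_le inf_le_left :
      IsPGroup 2 ↥((S : Subgroup G) ⊓ N)).index (Q.subgroupOf ((S : Subgroup G) ⊓ N))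
    rcases k with _ | k
    · exfalso
      have h1 : Q.relIndex ((S : Subgroup G) ⊓ N) = 1 := by simpa [relIndex] using hk
      exact haQ (relIndex_eq_one.1 h1 ⟨haS, haN⟩)
    · rw [relIndex, hk, pow_succ]
      exact dvd_mul_left _ _

/-- A group without TI Sylow `2`-subgroups has an essential subgroup. -/
theorem exists_ess (hG : IsCIT G) (h : ¬ TI G) : ∃ Q : Subgroup G, Ess Q := by
  classical
  rw [TI] at h
  push Not at h
  obtain ⟨S, R, hSR, hne⟩ := h
  obtain ⟨⟨S', R'⟩, hS', hmax⟩ := Set.exists_max_image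
    {p : Sylow 2 G × Sylow 2 G | p.1 ≠ p.2}
    (fun p => Nat.card ↥((p.1 : Subgroup G) ⊓ p.2)) (Set.toFinite _) ⟨(S, R), hSR⟩
  refine ⟨_, ess_of_max hG ⟨fun _ => rfl, Eq.symm, Eq.trans⟩ hS' ?_ fun a b hab => hmax (a, b) hab⟩
  intro e
  have h1 := hmax (S, R) hSR
  rw [show ((S', R').1 : Subgroup G) ⊓ (S', R').2 = ⊥ from e, card_bot] at h1
  exact hne (Subgroup.eq_bot_of_card_le _ h1)

end Cfsg.Agent.CIT
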