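import Cfsg.Agent.CIT.Out

/-!
# Invariant `2`-subgroups and essential subgroups
-/

set_option autoImplicit false
set_option linter.style.haveILetI false

namespace Cfsg.Agent.CIT.Ess

open Subgroup

universe u

variable {G : Type u} [Group G] [Finite G] {Q : Subgroup G}

/-- A `2`-subgroup normalised by `N(Q)` lies in `Q`. -/
theorem le_of_normalized (hQ : Ess Q) {C : Subgroup G} (hC : IsPGroup 2 C)
    (h : normalizer (Q : Set G) ≤ normalizer (C : Set G)) : C ≤ Q := by
  haveI : Fact (Nat.Prime 2) := ⟨Nat.prime_two⟩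
  by_contra hle
  have hQC : IsPGroup 2 ↥(C ⊔ Q) :=
    hC.to_sup_of_normal_left' hQ.two (le_normalizer.trans h)
  obtain ⟨x, hx, hxN, hxQ⟩ := exists_mem_normalizer_not_mem hQC le_sup_right
    fun e => hle (le_sup_left.trans e.ge)
  have h1 := hQ.core ((C ⊔ Q) ⊓ normalizer (Q : Set G)) (le_inf le_sup_right le_normalizer)
    inf_le_right (hQC.to_le inf_le_left) ?_
  · exact hxQ (h1 ▸ (⟨hx, hxN⟩ : x ∈ (C ⊔ Q) ⊓ normalizer (Q : Set G)))
  · intro f hf
    have h1 : f ∈ normalizer ((C ⊔ Q : Subgroup G) : Set G) :=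
      normalizer_inf_normalizer_le_normalizer_sup _ _ ⟨h hf, hf⟩
    refine mem_normalizer_iff.2 fun y => ?_
    rw [mem_inf, mem_inf, ← mem_normalizer_iff.1 h1 y,
      ← mem_normalizer_iff.1 (le_normalizer hf) y]

/-- No proper core subgroup of `Q` is normalised by `N(Q)`. -/
theorem false_of_invariant (hQ : Ess Q) (hG : IsCIT G) (hgood : Good.{u} (Nat.card G))
    {C : Subgroup G} (hC1 : C ≠ ⊥) (hCQ : C ≤ Q) (hne : C ≠ Q)
    (hnorm : normalizer (Q : Set G) ≤ normalizer (C : Set G))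
    (hcore : ∀ R : Subgroup G, C ≤ R → R ≤ normalizer (C : Set G) → IsPGroup 2 R →
      normalizer (C : Set G) ≤ normalizer (R : Set G) → R = C) : False := by
  haveI : Fact (Nat.Prime 2) := ⟨Nat.prime_two⟩
  have hC2 : IsPGroup 2 C := hQ.two.to_le hCQ
  have hTI := out_ti_of_core hG hgood hC2 hC1 hcore
  -- a maximal `2`-subgroup of `N(Q)`
  obtain ⟨P⟩ : Nonempty (Sylow 2 ↥(normalizer (Q : Set G))) := inferInstance
  set Y := (P : Subgroup ↥(normalizer (Q : Set G))).map (normalizer (Q : Set G)).subtype with hYdef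
  have hY : Y ≤ normalizer (Q : Set G) := map_subtype_le _
  have hY2 : IsPGroup 2 Y := P.2.map _
  have hmax : ∀ R : Subgroup G, Y ≤ R → R ≤ normalizer (Q : Set G) → IsPGroup 2 R → R = Y := by
    intro R hYR hR hR2
    have h1 : R.subgroupOf (normalizer (Q : Set G)) = P := P.is_maximal' hR2.comap_subtype
      fun y hy => mem_subgroupOf.2 (hYR ⟨y, hy, rfl⟩)
    rw [hYdef, ← h1, map_subgroupOf_eq_of_le hR]
  have hQY : Q ≤ Y := le_sup_right.trans (hmax (Y ⊔ Q) le_sup_left (sup_le hY le_normalizer)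
    (hY2.to_sup_of_normal_right' hQ.two hY)).le
  obtain ⟨k, hk, hkY⟩ : ∃ k ∈ normalizer (Q : Set G), k ∉ normalizer (Y : Set G) := by
    by_contra h
    push Not at h
    have h1 : Y = Q := hQ.core Y hQY hY hY2 h
    have hidx : ¬ 2 ∣ Q.relIndex (normalizer (Q : Set G)) := by
      have h2 := P.not_dvd_index
      rwa [show (P : Subgroup ↥(normalizer (Q : Set G))) = Q.subgroupOf (normalizer (Q : Set G)) from
        ((Subgroup.comap_map_eq_self_of_injective (subtype_injective _) _).symm.trans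
          (congrArg (fun W : Subgroup G => W.subgroupOf (normalizer (Q : Set G))) h1))] at h2
    exact hidx hQ.even
  set Y' := Y.map (MulAut.conj k).toMonoidHom with hY'
  have hQY' : Q ≤ Y' := by
    rw [← mem_normalizer_iff_map_conj_eq.1 hk]
    exact Subgroup.map_mono hQY
  have hY'N : Y' ≤ normalizer (Q : Set G) := by
    rintro _ ⟨y, hy, rfl⟩
    exact mul_mem (mul_mem hk (hY hy)) (inv_mem hk)
  obtain ⟨T₁, hT₁⟩ := (img_isPGroup (Q := C) hY2).exists_le_sylow
  obtain ⟨T₂, hT₂⟩ := (img_isPGroup (Q := C) (hY2.map (MulAut.conj k).toMonoidHom)).exists_le_sylow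
  by_cases he : T₁ = T₂
  · have hle1 : Y ≤ pre C T₁ := (le_pre_img (hY.trans hnorm)).trans (pre_mono hT₁)
    have hle2 : Y' ≤ pre C T₁ :=
      (le_pre_img (hY'N.trans hnorm)).trans (pre_mono (he ▸ hT₂))
    have h2 := hmax (pre C T₁ ⊓ normalizer (Q : Set G)) (le_inf hle1 hY) inf_le_right
      ((pre_isPGroup hC2 T₁.2).to_le inf_le_left)
    refine hkY (mem_normalizer_iff_map_conj_eq.2 (eq_of_le_of_card_ge
      ((le_inf hle2 hY'N).trans h2.le) ?_))
    rw [← Nat.card_congr (equivMapOfInjective Y _ (MulAut.conj k).injective).toEquiv]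
  · have h1 := hTI T₁ T₂ he
    have h2 : img C Q ≤ ⊥ :=
      h1 ▸ le_inf ((img_mono hQY).trans hT₁) ((img_mono hQY').trans hT₂)
    exact hne (le_antisymm hCQ
      ((img_eq_bot_iff (le_normalizer.trans hnorm)).1 (le_bot_iff.1 h2)))

end Cfsg.Agent.CIT.Ess
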