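import Cfsg.Agent.CIT.Natural
import Cfsg.Agent.LocalEven61.PSLSylow

/-!
# The Sylow subgroup of a natural module
-/

set_option autoImplicit false
set_option linter.style.haveILetI false

namespace Cfsg.Agent.CIT.Natural

open Subgroup
open scoped MatrixGroups
open Cfsg.Agent.PLocalB (upper lower)

variable {X V : Type*} [Group X] [CommGroup V] {φ : X →* MulAut V} {A : Subgroup X} {F : Type}
  [Field F] [Fintype F] (N : Natural φ A F)

/-- The isomorphism with `SL(2, F)`. -/
noncomputable def equiv : SL(2, F) ≃* X := MulEquiv.ofBijective N.ψ N.bij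

/-- The isomorphism with `PSL(2, F)`. -/
noncomputable def pslEquiv : X ≃* Matrix.ProjectiveSpecialLinearGroup (Fin 2) F :=
  haveI := N.char2
  haveI : Fact (Nat.Prime 2) := ⟨Nat.prime_two⟩
  N.equiv.symm.trans (MulEquiv.ofBijective (LocalEven61.pslMap (F := F))
    ⟨(injective_iff_map_eq_one _).2 fun _ hz => LocalEven61.eq_one_of_mem_ker_of_two rfl hz,
      LocalEven61.pslMap_surjective⟩)

include N

theorem isPGroup : IsPGroup 2 A := by
  obtain ⟨n, -, hn⟩ := N.card_eq_two_pow
  exact IsPGroup.of_card (n := n) (by rw [N.card_A, hn])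

theorem map_upper : (LocalEven61.upperGroup F).map N.equiv.toMonoidHom = A := by
  ext x
  rw [N.mem x]
  constructor
  · rintro ⟨_, ⟨a, rfl⟩, rfl⟩
    exact ⟨Multiplicative.toAdd a, rfl⟩
  · rintro ⟨t, rfl⟩
    exact ⟨upper t, ⟨Multiplicative.ofAdd t, rfl⟩, rfl⟩

/-- The root group as a Sylow subgroup of `SL(2, F)`, moved to `X`. -/
theorem exists_sylow [Finite X] : ∃ S : Sylow 2 X, (S : Subgroup X) = A := by
  haveI : Fact (Nat.Prime 2) := ⟨Nat.prime_two⟩
  haveI := N.char2
  have hs : Function.Surjective N.equiv.toMonoidHom := N.equiv.surjective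
  refine ⟨(LocalEven61.upperSylow : Sylow 2 SL(2, F)).mapSurjective hs, ?_⟩
  rw [Sylow.coe_mapSurjective, LocalEven61.coe_upperSylow, N.map_upper]

/-- The normaliser of `A` is the only maximal subgroup containing `A`. -/
theorem le_normalizer_or_eq_top [Finite X] {M : Subgroup X} (h : A ≤ M) :
    M = ⊤ ∨ M ≤ normalizer (A : Set X) := by
  haveI : Fact (Nat.Prime 2) := ⟨Nat.prime_two⟩
  haveI := N.char2
  by_cases hM : M ≤ normalizer (A : Set X)
  · exact Or.inr hM
  refine Or.inl ?_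
  obtain ⟨m, hm, hmA⟩ := SetLike.not_le_iff_exists.1 hM
  obtain ⟨g, rfl⟩ := N.equiv.surjective m
  set S₀ : Sylow 2 SL(2, F) := LocalEven61.upperSylow
  have hne : S₀ ≠ g • S₀ := fun e => hmA (by
    have h1 : g ∈ normalizer ((S₀ : Subgroup SL(2, F)) : Set SL(2, F)) :=
      Sylow.smul_eq_iff_mem_normalizer.1 e.symm
    rw [LocalEven61.coe_upperSylow] at h1
    have h2 := le_normalizer_map N.equiv.toMonoidHom ⟨g, h1, rfl⟩
    rw [N.map_upper] at h2
    exact h2)
  have htop := congrArg (Subgroup.map N.equiv.toMonoidHom)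
    (LinearGroup.sylow_sup_eq_top_SL_two 2 S₀ (g • S₀) hne)
  rw [Subgroup.map_sup, LocalEven61.coe_upperSylow, N.map_upper,
    Subgroup.map_top_of_surjective N.equiv.toMonoidHom N.equiv.surjective] at htop
  rw [eq_top_iff, ← htop, sup_le_iff]
  refine ⟨h, ?_⟩
  rw [Sylow.coe_subgroup_smul]
  rintro _ ⟨_, ⟨u, hu, rfl⟩, rfl⟩
  show N.equiv (MulAut.conj g u) ∈ M
  rw [MulAut.conj_apply, map_mul, map_mul, map_inv]
  refine M.mul_mem (M.mul_mem hm (h ?_)) (M.inv_mem hm)
  exact N.map_upper.le ⟨u, hu, rfl⟩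

theorem normalizer_ne_top [Finite X] (hO : Cfsg.pCore 2 X = ⊥) :
    normalizer (A : Set X) ≠ ⊤ := by
  intro h
  haveI : A.Normal := normalizer_eq_top_iff.1 h
  have h1 : A ≤ ⊥ := hO ▸ Thompson.le_pCore inferInstance N.isPGroup
  have h2 := N.card_A
  rw [le_bot_iff.1 h1, card_bot] at h2
  have := Fintype.one_lt_card (α := F)
  omega

end Cfsg.Agent.CIT.Natural
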