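import Cfsg.Agent.CIT.Pair
import Cfsg.Agent.CIT.Invariant
import Cfsg.Agent.CIT.NaturalSylow
import Cfsg.Agent.PushUp62.Extra
import Cfsg.Agent.Lib.Thompson.Replacement
import Cfsg.Agent.Lib.PGroup.Basic

/-!
# An essential subgroup whose Sylow subgroup has a larger normaliser
-/

set_option autoImplicit false
set_option linter.style.haveILetI false

namespace Cfsg.Agent.CIT

open Subgroup
open scoped MatrixGroups commutatorElement Pointwise

universe u

variable {G : Type u} [Group G]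

theorem Ess.map {Q : Subgroup G} (hQ : Ess Q) (e : G ≃* G) : Ess (Q.map e.toMonoidHom) := by
  refine ⟨hQ.two.map _, fun x hx => ?_, fun R hQR hR hR2 hN => ?_, ?_⟩
  · refine ⟨e.symm x, hQ.cent (mem_centralizer_iff.2 fun y hy => e.injective ?_), by simp⟩
    rw [map_mul, map_mul, e.apply_symm_apply]
    exact mem_centralizer_iff.1 hx _ ⟨y, hy, rfl⟩
  · have hid : ∀ S : Subgroup G, (S.map e.toMonoidHom).map e.symm.toMonoidHom = S := fun S => by
      rw [Subgroup.map_map]
      convert Subgroup.map_id S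
      ext x
      simp
    have hid' : (R.map e.symm.toMonoidHom).map e.toMonoidHom = R := by
      rw [Subgroup.map_map]
      convert Subgroup.map_id R
      ext x
      simp
    rw [← hQ.core (R.map e.symm.toMonoidHom) ((hid Q).ge.trans (Subgroup.map_mono hQR)) ?_
      (hR2.map _) ?_, hid']
    · refine (Subgroup.map_mono hR).trans ?_
      rw [map_equiv_normalizer_eq, hid]
    · rw [← hid (normalizer (Q : Set G)), map_equiv_normalizer_eq Q e,
        ← map_equiv_normalizer_eq R e.symm]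
      exact Subgroup.map_mono hN
  · rw [← map_equiv_normalizer_eq, relIndex_map_map_of_injective _ _ e.injective]
    exact hQ.even

variable [Finite G]

/-- No subgroup of `Y` is invariant under both `N(Y)` and `N(Q)`, unless `N(Y) ≤ N(Q)`. -/
theorem no_invariant (hG : IsCIT G) (hgood : Good.{u} (Nat.card G)) {Q Y : Subgroup G}
    (hQ : Ess Q) (hQY : Q ≤ Y) (hY : Y ≤ normalizer (Q : Set G)) (hY2 : IsPGroup 2 Y)
    (hmax : ∀ R : Subgroup G, Y ≤ R → R ≤ normalizer (Q : Set G) → IsPGroup 2 R → R = Y)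
    (hg : ¬ normalizer (Y : Set G) ≤ normalizer (Q : Set G)) {C : Subgroup G} (hC1 : C ≠ ⊥)
    (hCY : C ≤ Y) (hCYn : normalizer (Y : Set G) ≤ normalizer (C : Set G))
    (hCQn : normalizer (Q : Set G) ≤ normalizer (C : Set G)) : False := by
  classical
  haveI : Fact (Nat.Prime 2) := ⟨Nat.prime_two⟩
  let P : Subgroup G → Prop := fun W =>
    IsPGroup 2 W ∧ normalizer (Y : Set G) ≤ normalizer (W : Set G) ∧
      normalizer (Q : Set G) ≤ normalizer (W : Set G)
  obtain ⟨C', ⟨⟨hC'2, hC'Y, hC'Q⟩, hCC'⟩, hC'max⟩ := Set.exists_max_image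
    {W : Subgroup G | P W ∧ C ≤ W} (fun W => Nat.card W) (Set.toFinite _)
    ⟨C, ⟨hY2.to_le hCY, hCYn, hCQn⟩, le_rfl⟩
  have hne : C' ≠ ⊥ := fun e => hC1 (le_bot_iff.1 (e ▸ hCC'))
  have hle : C' ≤ Q := hQ.le_of_normalized hC'2 hC'Q
  refine hQ.false_of_invariant hG hgood hne hle (fun e => hg (e ▸ hC'Y)) hC'Q
    fun R hR _ hR2 hn => ?_
  exact (eq_of_le_of_card_ge hR
    (hC'max R ⟨⟨hR2, hC'Y.trans hn, hC'Q.trans hn⟩, hCC'.trans hR⟩)).symm

/-- An elementary subgroup of `Y` outside `Q` which is an offender on `omega Q`. -/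
theorem exists_offender (hG : IsCIT G) (hgood : Good.{u} (Nat.card G)) {Q Y : Subgroup G}
    (hQ : Ess Q) (hQY : Q ≤ Y) (hY : Y ≤ normalizer (Q : Set G)) (hY2 : IsPGroup 2 Y)
    (hmax : ∀ R : Subgroup G, Y ≤ R → R ≤ normalizer (Q : Set G) → IsPGroup 2 R → R = Y)
    (hg : ¬ normalizer (Y : Set G) ≤ normalizer (Q : Set G)) :
    ∃ A : Subgroup G, A ≤ Y ∧ (∀ a ∈ A, a * a = 1) ∧ ¬ A ≤ Q ∧
      Nat.card ↥(omega Q) * Nat.card ↥(A ⊓ Q) ≤
        Nat.card A * Nat.card ↥(omega Q ⊓ centralizer (A : Set G)) := by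
  classical
  let El : Set (Subgroup G) := {A | A ≤ Y ∧ ∀ a ∈ A, a * a = 1}
  have hEl : ∀ A ∈ El, ∀ f : G, f ∈ normalizer (Y : Set G) →
      A.map (MulAut.conj f).toMonoidHom ∈ El := fun A hA f hf =>
    ⟨(Subgroup.map_mono hA.1).trans (mem_normalizer_iff_map_conj_eq.1 hf).le, by
      rintro _ ⟨a, ha, rfl⟩; rw [← map_mul, hA.2 a ha, map_one]⟩
  obtain ⟨A₀, hA₀, hA₀max⟩ := Set.exists_max_image El (fun A => Nat.card A) (Set.toFinite _)
    ⟨⊥, bot_le, fun a ha => by rw [mem_bot.1 ha, one_mul]⟩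
  set M := Nat.card A₀ with hM
  by_cases hall : ∀ A ∈ El, Nat.card A = M → A ≤ Q
  · exfalso
    set C := ⨆ A ∈ {A | A ∈ El ∧ Nat.card A = M}, A with hC
    have hCle : C ≤ Q := iSup₂_le fun A hA => hall A hA.1 hA.2
    have hC1 : C ≠ ⊥ := by
      intro e
      have h1 : A₀ ≤ C := le_iSup₂_of_le A₀ ⟨hA₀, rfl⟩ le_rfl
      rw [e, le_bot_iff] at h1
      have h2 : Nat.card ↥(omega Q) ≤ M :=
        hA₀max (omega Q) ⟨(omega_le Q).trans hQY, fun a ha => ha.2.1⟩
      rw [hM, h1, card_bot] at h2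
      exact omega_ne_bot hQ.two hQ.ne_bot (eq_bot_of_card_le _ h2)
    have hinv : ∀ f : G, (∀ A ∈ El, Nat.card A = M → A.map (MulAut.conj f).toMonoidHom ≤ Y) →
        C.map (MulAut.conj f).toMonoidHom ≤ C := by
      intro f hf
      rw [hC, Subgroup.map_iSup]
      simp only [Subgroup.map_iSup]
      refine iSup₂_le fun A hA => le_iSup₂_of_le (A.map (MulAut.conj f).toMonoidHom)
        ⟨⟨hf A hA.1 hA.2, by rintro _ ⟨a, ha, rfl⟩; rw [← map_mul, hA.1.2 a ha, map_one]⟩, ?_⟩
        le_rfl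
      rw [← hA.2]
      exact (Nat.card_congr (equivMapOfInjective A _ (MulAut.conj f).injective).toEquiv).symm
    have hmem : ∀ f : G, C.map (MulAut.conj f).toMonoidHom ≤ C →
        f ∈ normalizer (C : Set G) := fun f h =>
      mem_normalizer_iff_map_conj_eq.2 (eq_of_le_of_card_ge h
        (Nat.card_congr (equivMapOfInjective C _ (MulAut.conj f).injective).toEquiv).le)
    refine no_invariant hG hgood hQ hQY hY hY2 hmax hg hC1 (hCle.trans hQY)
      (fun f hf => hmem f (hinv f fun A hA _ => (hEl A hA f hf).1))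
      (fun f hf => hmem f (hinv f fun A hA hAM => ?_))
    exact ((Subgroup.map_mono (hall A hA hAM)).trans
      (mem_normalizer_iff_map_conj_eq.1 hf).le).trans hQY
  · push Not at hall
    obtain ⟨A, hA, hAM, hAQ⟩ := hall
    refine ⟨A, hA.1, hA.2, hAQ, ?_⟩
    have hcent : ∀ x ∈ A ⊓ Q, ∀ y ∈ omega Q, Commute x y := fun x hx y hy =>
      (omega_comm hy hx.2).symm
    have hB : (A ⊓ Q) ⊔ omega Q ∈ El := by
      refine ⟨sup_le (inf_le_left.trans hA.1) ((omega_le Q).trans hQY), fun a ha => ?_⟩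
      have ha' : a ∈ (((A ⊓ Q : Subgroup G) : Set G) * (omega Q : Set G)) := by
        rw [← coe_mul_of_left_le_normalizer_right]
        · exact ha
        · exact fun x hx => centralizer_le_normalizer _
            (mem_centralizer_iff.2 fun y hy => (hcent x hx y hy).eq.symm)
      obtain ⟨x, hx, y, hy, rfl⟩ := Set.mem_mul.1 ha'
      calc x * y * (x * y) = x * (y * x) * y := by group
        _ = x * x * (y * y) := by rw [← (hcent x hx y hy).eq]; group
        _ = 1 := by rw [hA.2 x hx.1, hy.2.1, one_mul]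
    have h1 := hA₀max _ hB
    rw [← hAM] at h1
    have h2 := Thompson.card_sup_mul_card_inf (H := A ⊓ Q) (K := omega Q) fun y hy =>
      centralizer_le_normalizer _ (mem_centralizer_iff.2 fun x hx => (hcent x hx y hy).eq)
    rw [mul_comm, ← h2]
    refine Nat.mul_le_mul h1 (Subgroup.card_le_of_le (le_inf inf_le_right ?_))
    exact fun x hx => mem_centralizer_iff.2 fun a ha => mulComm_of_sq hA.2 ha hx.1.1

end Cfsg.Agent.CIT
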