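import Cfsg.Agent.CIT.FPair
import Cfsg.Agent.CIT.Invariant
import Cfsg.Agent.CIT.Push

/-!
# The case in which Sylow normalisers lie in the normalisers of essential subgroups
-/

set_option autoImplicit false
set_option linter.style.haveILetI false

namespace Cfsg.Agent.CIT

open Subgroup

universe u

variable {G : Type u} [Group G]

/-- Two essential subgroups normalised by a common Sylow subgroup. -/
def Adj (a b : Subgroup G) : Prop :=
  Ess a ∧ Ess b ∧ a ≠ b ∧ ∃ S : Sylow 2 G,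
    (S : Subgroup G) ≤ normalizer (a : Set G) ∧ (S : Subgroup G) ≤ normalizer (b : Set G)

/-- There is a path of the given length. -/
def Reach : ℕ → Subgroup G → Subgroup G → Prop
  | 0, a, b => a = b
  | n + 1, a, c => ∃ b, Reach n a b ∧ Adj b c

theorem Adj.symm {a b : Subgroup G} (h : Adj a b) : Adj b a :=
  ⟨h.2.1, h.1, Ne.symm h.2.2.1, h.2.2.2.choose, h.2.2.2.choose_spec.2, h.2.2.2.choose_spec.1⟩

theorem reach_cons {n : ℕ} : ∀ {a b c : Subgroup G}, Adj a b → Reach n b c → Reach (n + 1) a c := by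
  induction n with
  | zero => rintro a b c h rfl; exact ⟨a, rfl, h⟩
  | succ n ih => rintro a b c h ⟨d, hd, hdc⟩; exact ⟨d, ih h hd, hdc⟩

theorem reach_symm {n : ℕ} : ∀ {a b : Subgroup G}, Reach n a b → Reach n b a := by
  induction n with
  | zero => rintro a b rfl; rfl
  | succ n ih => rintro a b ⟨d, hd, hdb⟩; exact reach_cons hdb.symm (ih hd)

theorem reach_trans {m n : ℕ} : ∀ {a b c : Subgroup G}, Reach n a b → Reach m b c →
    Reach (n + m) a c := by
  induction m with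
  | zero => rintro a b c h rfl; exact h
  | succ m ih => rintro a b c h ⟨d, hd, hdc⟩; exact ⟨d, ih h hd, hdc⟩

variable [Finite G]

theorem Adj.map {a b : Subgroup G} (h : Adj a b) (g : G) :
    Adj (a.map (MulAut.conj g).toMonoidHom) (b.map (MulAut.conj g).toMonoidHom) := by
  obtain ⟨ha, hb, hne, S, hSa, hSb⟩ := h
  refine ⟨ha.map _, hb.map _, fun e => hne (map_injective (MulAut.conj g).injective e), g • S, ?_, ?_⟩
  all_goals
    rw [Sylow.coe_subgroup_smul, ← map_equiv_normalizer_eq]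
    refine Subgroup.map_mono ?_
    assumption

theorem reach_map {n : ℕ} (g : G) : ∀ {a b : Subgroup G}, Reach n a b →
    Reach n (a.map (MulAut.conj g).toMonoidHom) (b.map (MulAut.conj g).toMonoidHom) := by
  induction n with
  | zero => rintro a b rfl; rfl
  | succ n ih => rintro a b ⟨d, hd, hdb⟩; exact ⟨_, ih hd, hdb.map g⟩

section

variable (hG : IsCIT G) (hgood : Good.{u} (Nat.card G)) (hF : FCond G)
  (hno : ¬ ∃ D E : Subgroup G, Pair D E)
include hG hgood hF hno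

/-- Along paths, omegas lie in the other vertex. -/
theorem omega_le_of_reach {n : ℕ} : ∀ {a c : Subgroup G}, Ess a → Reach n a c →
    Ess c ∧ omega a ≤ c := by
  induction n with
  | zero => rintro a c ha rfl; exact ⟨ha, omega_le a⟩
  | succ n ih =>
    rintro a c ha ⟨b, hab, hbc⟩
    obtain ⟨hb, hc, -, S, hSb, hSc⟩ := id hbc
    have h1 : omega a ≤ normalizer (c : Set G) :=
      ((ih ha hab).2.trans (FCond.le_sylow hb hSb)).trans hSc
    obtain ⟨b', hcb', hb'a⟩ := reach_symm (show Reach (n + 1) a c from ⟨b, hab, hbc⟩)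
    obtain ⟨hb', -, -, T, hTb', hTa⟩ := hb'a
    have h2 : omega c ≤ normalizer (a : Set G) :=
      ((ih hc hcb').2.trans (FCond.le_sylow hb' hTb')).trans hTa
    have h3 := commute_or_pair hG hgood hF hno ha hc h1 h2
    refine ⟨hc, fun x hx => hc.mem_of_centralizes hG (h1 hx) (mem_centralizer_iff.2 fun y hy => ?_)⟩
    exact (mem_centralizer_iff.1 (h3 hy) x hx).symm

/-- No two essential subgroups are normalised by a common Sylow subgroup. -/
theorem not_adj (a₀ b₀ : Subgroup G) : ¬ Adj a₀ b₀ := by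
  classical
  intro h0
  haveI : Fact (Nat.Prime 2) := ⟨Nat.prime_two⟩
  let comp : Set (Subgroup G) := {a | ∃ n, Reach n a₀ a}
  have hess : ∀ a ∈ comp, Ess a := fun a ⟨n, hn⟩ => (omega_le_of_reach hG hgood hF hno h0.1 hn).1
  have hall : ∀ a ∈ comp, ∀ c ∈ comp, omega a ≤ c := fun a ⟨n, hn⟩ c ⟨m, hm⟩ =>
    (omega_le_of_reach hG hgood hF hno (hess a ⟨n, hn⟩) (reach_trans (reach_symm hn) hm)).2
  set W : Subgroup G := ⨆ a ∈ comp, omega a with hW
  have hWle : ∀ c ∈ comp, W ≤ c := fun c hc => iSup₂_le fun a ha => hall a ha c hc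
  have hW1 : W ≠ ⊥ := fun e => omega_ne_bot h0.1.two h0.1.ne_bot
    (le_bot_iff.1 (e ▸ (le_iSup₂_of_le a₀ ⟨0, rfl⟩ le_rfl : omega a₀ ≤ W)))
  have hWn : ∀ c ∈ comp, normalizer (c : Set G) ≤ normalizer (W : Set G) := by
    rintro c ⟨n, hn⟩ g hg
    have hg' := mem_normalizer_iff_map_conj_eq.1 hg
    have h1 : Reach (n + n) a₀ (a₀.map (MulAut.conj g).toMonoidHom) := by
      refine reach_trans hn ?_
      have := reach_map g (reach_symm hn)
      rwa [show c.map (MulAut.conj g).toMonoidHom = c from hg'] at this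
    refine mem_normalizer_iff_map_conj_eq.2 (eq_of_le_of_card_ge ?_
      (Nat.card_congr (equivMapOfInjective W _ (MulAut.conj g).injective).toEquiv).le)
    rw [hW, Subgroup.map_iSup]
    simp only [Subgroup.map_iSup]
    refine iSup₂_le fun a ha => le_iSup₂_of_le (a.map (MulAut.conj g).toMonoidHom) ?_ ?_
    · obtain ⟨m, hm⟩ := ha
      exact ⟨_, reach_trans h1 (reach_map g hm)⟩
    · exact (omega_map a (MulAut.conj g)).le
  obtain ⟨C, ⟨hC2, hWC, hCn⟩, hCmax⟩ := Set.exists_max_image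
    {C : Subgroup G | IsPGroup 2 C ∧ W ≤ C ∧
      ∀ c ∈ comp, normalizer (c : Set G) ≤ normalizer (C : Set G)}
    (fun C => Nat.card C) (Set.toFinite _)
    ⟨W, h0.1.two.to_le (hWle a₀ ⟨0, rfl⟩), le_rfl, hWn⟩
  obtain ⟨b, hb, hbC⟩ : ∃ b ∈ comp, b ≠ C := by
    by_cases h : a₀ = C
    · exact ⟨b₀, ⟨1, a₀, rfl, h0⟩, fun e => h0.2.2.1 (h.trans e.symm)⟩
    · exact ⟨a₀, ⟨0, rfl⟩, h⟩
  refine (hess b hb).false_of_invariant hG hgood (fun e => hW1 (le_bot_iff.1 (e ▸ hWC)))
    ((hess b hb).le_of_normalized hC2 (hCn b hb)) (Ne.symm hbC) (hCn b hb) fun R hR _ hR2 hn => ?_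
  exact (eq_of_le_of_card_ge hR
    (hCmax R ⟨hR2, hWC.trans hR, fun c hc => (hCn c hc).trans hn⟩)).symm

/-- An intersecting Sylow subgroup lies in the same normaliser. -/
theorem le_normalizer_of_inf_ne_bot {D : Subgroup G} (hD : Ess D) {S R : Sylow 2 G}
    (hS : (S : Subgroup G) ≤ normalizer (D : Set G)) (hne : (S : Subgroup G) ⊓ R ≠ ⊥) :
    (R : Subgroup G) ≤ normalizer (D : Set G) := by
  classical
  let r : Sylow 2 G → Sylow 2 G → Prop := fun S R => ∀ D : Subgroup G, Ess D →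
    ((S : Subgroup G) ≤ normalizer (D : Set G) ↔ (R : Subgroup G) ≤ normalizer (D : Set G))
  have hr : Equivalence r := ⟨fun _ _ _ => Iff.rfl, fun h D hD => (h D hD).symm,
    fun h h' D hD => (h D hD).trans (h' D hD)⟩
  suffices hall : ∀ S R : Sylow 2 G, (S : Subgroup G) ⊓ R ≠ ⊥ → r S R from (hall S R hne D hD).1 hS
  by_contra hbad
  push Not at hbad
  obtain ⟨S₁, R₁, hne₁, hr₁⟩ := hbad
  obtain ⟨⟨S', R'⟩, hS', hmax⟩ := Set.exists_max_image
    {p : Sylow 2 G × Sylow 2 G | ¬ r p.1 p.2}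
    (fun p => Nat.card ↥((p.1 : Subgroup G) ⊓ p.2)) (Set.toFinite _) ⟨(S₁, R₁), hr₁⟩
  have hne' : (S' : Subgroup G) ⊓ R' ≠ ⊥ := fun e => by
    have h1 := hmax (S₁, R₁) hr₁
    rw [show ((S', R').1 : Subgroup G) ⊓ (S', R').2 = ⊥ from e, card_bot] at h1
    exact hne₁ (eq_bot_of_card_le _ h1)
  have hQ : Ess ((S' : Subgroup G) ⊓ R') :=
    ess_of_max hG hr hS' hne' fun a b hab => hmax (a, b) hab
  have hle : ∀ T : Sylow 2 G, (S' : Subgroup G) ⊓ R' ≤ (T : Subgroup G) →
      (S' : Subgroup G) ⊓ R' ≠ (T : Subgroup G) →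
      (T : Subgroup G) ≤ normalizer (((S' : Subgroup G) ⊓ R' : Subgroup G) : Set G) := by
    intro T hQT hQTne
    obtain ⟨x, hxT, hxN, hxQ⟩ := exists_mem_normalizer_not_mem T.2 hQT hQTne
    obtain ⟨U, hU, hUN⟩ := hF.exists_sylow_ge hQ
      (T.2.to_le inf_le_left : IsPGroup 2 ↥((T : Subgroup G) ⊓
        normalizer (((S' : Subgroup G) ⊓ R' : Subgroup G) : Set G))) inf_le_right
    have hrTU : r T U := by
      by_contra h
      have h1 : (S' : Subgroup G) ⊓ R' ≤ (T : Subgroup G) ⊓ U :=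
        le_inf hQT (le_trans (le_inf hQT le_normalizer) hU)
      have h2 := eq_of_le_of_card_ge h1 (hmax (T, U) h)
      exact hxQ (h2.ge ⟨hxT, hU ⟨hxT, hxN⟩⟩)
    exact (hrTU _ hQ).2 hUN
  have hS'Q : (S' : Subgroup G) ⊓ R' ≠ (S' : Subgroup G) := fun e =>
    hS' (by
      rw [show S' = R' from Sylow.ext (S'.is_maximal' R'.2 (e ▸ inf_le_right)).symm]
      exact hr.refl R')
  have hR'Q : (S' : Subgroup G) ⊓ R' ≠ (R' : Subgroup G) := fun e =>
    hS' (by
      rw [show S' = R' from Sylow.ext (R'.is_maximal' S'.2 (e ▸ inf_le_left))]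
      exact hr.refl R')
  have hS'N := hle S' inf_le_left hS'Q
  have hR'N := hle R' inf_le_right hR'Q
  have huniq : ∀ T : Sylow 2 G,
      (T : Subgroup G) ≤ normalizer (((S' : Subgroup G) ⊓ R' : Subgroup G) : Set G) →
      ∀ D : Subgroup G, Ess D → (T : Subgroup G) ≤ normalizer (D : Set G) →
      D = (S' : Subgroup G) ⊓ R' := by
    intro T hT D hD hTD
    by_contra hne
    exact not_adj hG hgood hF hno D _ ⟨hD, hQ, hne, T, hTD, hT⟩
  refine hS' fun D hD => ⟨fun h => ?_, fun h => ?_⟩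
  · rw [huniq S' hS'N D hD h]; exact hR'N
  · rw [huniq R' hR'N D hD h]; exact hS'N

end

end Cfsg.Agent.CIT
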