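import Cfsg.Agent.CIT.Out
import Cfsg.Agent.Lib.Involution.Dihedral

/-!
# The normaliser of an essential subgroup is not strongly embedded
-/

set_option autoImplicit false
set_option linter.style.haveILetI false

namespace Cfsg.Agent.CIT

open Subgroup
open scoped Pointwise

universe u

variable {G : Type u} [Group G] [Finite G]

/-- The normaliser of an essential subgroup contains an involution outside it. -/
theorem Ess.exists_involution_not_mem (hG : IsCIT G) {D : Subgroup G} (hD : Ess D) :
    ∃ z ∈ normalizer (D : Set G), orderOf z = 2 ∧ z ∉ D := by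
  classical
  haveI : Fact (Nat.Prime 2) := ⟨Nat.prime_two⟩
  set N := normalizer (D : Set G) with hN
  have h2 : 2 ∣ Nat.card (Out D) := by
    have h := hD.even
    rwa [relIndex, Subgroup.index_eq_card] at h
  obtain ⟨t, ht⟩ := exists_prime_orderOf_dvd_card' 2 h2
  obtain ⟨f₀, hf₀, hf₀1, hinv₀⟩ := exists_inverted_odd hD.pCore_out ht
  obtain ⟨p, hp, hpd⟩ := Nat.exists_prime_and_dvd (n := orderOf f₀)
    fun e => hf₀1 (orderOf_eq_one_iff.1 e)
  set f := f₀ ^ (orderOf f₀ / p) with hf
  have hfo : orderOf f = p := orderOf_pow_orderOf_div (orderOf_pos f₀).ne' hpd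
  have hinv : t * f * t⁻¹ = f⁻¹ := by rw [hf, ← conj_pow, hinv₀, inv_pow]
  have hpodd : Odd p := hf₀.of_dvd_nat hpd
  obtain ⟨g, hg, hgo⟩ := exists_odd_lift (Q := D) (x := f) (hfo ▸ hpodd)
  haveI : Fact p.Prime := ⟨hp⟩
  have hgp : g ^ p = 1 := by
    have h1 : ((g ^ p : N) : G) ∈ D :=
      toOut_eq_one.1 (by rw [map_pow, hg, ← hfo, pow_orderOf_eq_one])
    refine Subtype.ext ?_
    refine eq_one_of_odd_mem hD.two h1 ?_
    rw [SubmonoidClass.coe_pow]
    exact hgo.of_dvd_nat (orderOf_pow_dvd p)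
  have hg1 : g ≠ 1 := fun e => by
    rw [e, map_one] at hg
    rw [← hg, orderOf_one] at hfo
    exact hp.one_lt.ne hfo
  have hgo' : orderOf g = p := orderOf_eq_prime hgp hg1
  have htf : f * t * f = t := by
    have h1 : t * f = f⁻¹ * t := by rw [← hinv]; group
    rw [mul_assoc, h1, mul_inv_cancel_left]
  obtain ⟨a, ha⟩ := toOut_surjective D t
  -- `g` permutes the coset of `a` by `z ↦ g z g`
  let T : Set N := {z | toOut D z = t}
  have hpow : ∀ j : ℤ, f ^ j * t * f ^ j = t := by
    intro j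
    have h1 : t * f ^ j * t⁻¹ = f ^ (-j) := by rw [← conj_zpow, hinv, inv_zpow, ← zpow_neg]
    calc f ^ j * t * f ^ j = f ^ j * (t * f ^ j * t⁻¹) * t := by group
      _ = t := by rw [h1, ← zpow_add, add_neg_cancel, zpow_zero, one_mul]
  let act : MulAction (zpowers g) T :=
    { smul := fun k z => ⟨(k : N) * z * (k : N), by
        obtain ⟨j, hj⟩ := mem_zpowers_iff.1 k.2
        show toOut D ((k : N) * z * (k : N)) = t
        rw [map_mul, map_mul, ← hj, map_zpow, hg, show toOut D (z : N) = t from z.2, hpow]⟩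
      one_smul := fun z => Subtype.ext (by show (1 : N) * z * (1 : N) = z; simp)
      mul_smul := fun k l z => Subtype.ext (by
        show ((k * l : zpowers g) : N) * z * ((k * l : zpowers g) : N) =
          (k : N) * ((l : N) * z * (l : N)) * (k : N)
        obtain ⟨i, hi⟩ := mem_zpowers_iff.1 k.2
        obtain ⟨i', hi'⟩ := mem_zpowers_iff.1 l.2
        rw [Subgroup.coe_mul, ← hi, ← hi']
        group) }
  have hcard : Nat.card T = Nat.card (D.subgroupOf N) := by
    refine Nat.card_congr
      { toFun := fun z => ⟨a⁻¹ * z, by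
          rw [← toOut_ker, MonoidHom.mem_ker, map_mul, map_inv, ha,
            show toOut D (z : N) = t from z.2, inv_mul_cancel]⟩
        invFun := fun q => ⟨a * q, by
          have hq : toOut D (q : N) = 1 := toOut_eq_one.2 (mem_subgroupOf.1 q.2)
          show toOut D (a * q) = t
          rw [map_mul, ha, hq, mul_one]⟩
        left_inv := fun z => by simp
        right_inv := fun q => by simp }
  obtain ⟨⟨z, hz⟩, hfix⟩ : (MulAction.fixedPoints (zpowers g) T).Nonempty := by
    refine (IsPGroup.of_card (n := 1) (by rw [Nat.card_zpowers, hgo', pow_one]) :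
      IsPGroup p (zpowers g)).nonempty_fixed_point_of_prime_not_dvd_card T ?_
    obtain ⟨j, hj⟩ := IsPGroup.iff_card.1 (hD.two.comap_subtype (K := N))
    rw [hcard]
    show ¬ p ∣ Nat.card ↥(D.subgroupOf N)
    rw [subgroupOf, hj]
    intro h
    rw [(Nat.prime_dvd_prime_iff_eq hp Nat.prime_two).1 (hp.dvd_of_dvd_pow h)] at hpodd
    exact absurd hpodd (by decide)
  have hfixg : g * z * g = z := congrArg Subtype.val (hfix ⟨g, mem_zpowers g⟩)
  have hz2 : ((z * z : N) : G) ∈ D :=
    toOut_eq_one.1 (by rw [map_mul, show toOut D z = t from hz]; exact mul_self_of ht)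
  have hcomm : Commute g (z * z) := by
    have h1 : z * g = g⁻¹ * z := by rw [eq_inv_mul_iff_mul_eq, ← mul_assoc, hfixg]
    have h2 : z * g⁻¹ = g * z := by
      rw [mul_inv_eq_iff_eq_mul]
      exact hfixg.symm
    show g * (z * z) = z * z * g
    rw [mul_assoc, h1, ← mul_assoc, ← mul_assoc, h2]
  have hzz : ((z * z : N) : G) = 1 := by
    by_contra h
    obtain ⟨j, hj⟩ := two_pow_of_isPGroup hD.two hz2
    refine hg1 (Subtype.ext ?_)
    exact hG.eq_one_of_commute' h hj hgo (hcomm.map N.subtype)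
  have hzD : (z : G) ∉ D := fun h => by
    have h1 := toOut_eq_one.2 h
    rw [show toOut D z = t from hz] at h1
    rw [h1, orderOf_one] at ht
    omega
  exact ⟨z, z.2, orderOf_of_mul_self hzz fun e => hzD (e ▸ one_mem D), hzD⟩

/-- The normaliser of an essential subgroup is not strongly embedded. -/
theorem no_strongly_embedded (hG : IsCIT G) (hO : Cfsg.pCore 2 G = ⊥) {D : Subgroup G} (hD : Ess D)
    (hS : ∃ S : Sylow 2 G, (S : Subgroup G) ≤ normalizer (D : Set G))
    (hN : ∀ S : Sylow 2 G, (S : Subgroup G) ≤ normalizer (D : Set G) →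
      normalizer ((S : Subgroup G) : Set G) ≤ normalizer (D : Set G))
    (hstrong : ∀ S R : Sylow 2 G, (S : Subgroup G) ≤ normalizer (D : Set G) →
      (S : Subgroup G) ⊓ R ≠ ⊥ → (R : Subgroup G) ≤ normalizer (D : Set G)) : False := by
  classical
  haveI : Fact (Nat.Prime 2) := ⟨Nat.prime_two⟩
  haveI := Fintype.ofFinite G
  set M := normalizer (D : Set G) with hM
  have hMtop : M ≠ ⊤ := fun e => by
    haveI : D.Normal := normalizer_eq_top_iff.1 e
    have h := Thompson.le_pCore (N := D) inferInstance hD.two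
    rw [hO, le_bot_iff] at h
    exact hD.ne_bot h
  obtain ⟨S₀, hS₀⟩ := hS
  -- Sylow subgroups of `M`
  have hsyl : ∀ x ∈ M, orderOf x = 2 → ∃ S : Sylow 2 G, (S : Subgroup G) ≤ M ∧
      x ∈ (S : Subgroup G) := by
    intro x hx ho
    have hp : IsPGroup 2 (zpowers (⟨x, hx⟩ : M)) :=
      IsPGroup.of_card (n := 1) (by rw [Nat.card_zpowers, Subgroup.orderOf_mk, ho, pow_one])
    obtain ⟨T, hT⟩ := hp.exists_le_sylow
    obtain ⟨m, hm⟩ := MulAction.exists_smul_eq M (S₀.subtype hS₀) T
    rw [Sylow.smul_subtype hS₀ m] at hm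
    refine ⟨m • S₀, ?_, ?_⟩
    · exact Sylow.smul_le hS₀ m
    · have h1 : (⟨x, hx⟩ : M) ∈ (T : Subgroup M) := hT (mem_zpowers _)
      rw [← hm] at h1
      exact h1
  have hne : ∀ {x : G} {A B : Subgroup G}, orderOf x = 2 → x ∈ A → x ∈ B → A ⊓ B ≠ ⊥ := by
    intro x A B ho hA hB e
    have h := (e ▸ ⟨hA, hB⟩ : x ∈ (⊥ : Subgroup G))
    rw [mem_bot.1 h, orderOf_one] at ho
    omega
  have hcent : ∀ x ∈ M, orderOf x = 2 → centralizer ({x} : Set G) ≤ M := by
    intro x hx ho
    obtain ⟨S, hSM, hxS⟩ := hsyl x hx ho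
    obtain ⟨R, hxR, hR⟩ := exists_involution_le_sylow (hG x ho)
      (mem_centralizer_singleton_iff.2 rfl : x ∈ centralizer ({x} : Set G))
    exact hR.trans (hstrong S R hSM (hne ho hxS hxR))
  have hfus : ∀ g x : G, x ∈ M → orderOf x = 2 → g * x * g⁻¹ ∈ M → g ∈ M := by
    intro g x hx ho hgx
    obtain ⟨S, hSM, hxS⟩ := hsyl x hx ho
    have ho' : orderOf (g * x * g⁻¹) = 2 := by rw [Involution.orderOf_conj, ho]
    obtain ⟨S', hS'M, hxS'⟩ := hsyl _ hgx ho'
    have hxg : g * x * g⁻¹ ∈ ((g • S : Sylow 2 G) : Subgroup G) := by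
      rw [Sylow.coe_subgroup_smul]
      exact ⟨x, hxS, rfl⟩
    have hgS := hstrong S' (g • S) hS'M (hne ho' hxS' hxg)
    obtain ⟨m, hm⟩ := MulAction.exists_smul_eq M (S.subtype hSM) ((g • S).subtype hgS)
    rw [Sylow.smul_subtype hSM m] at hm
    have h1 : (m : G) • S = g • S := Sylow.subtype_injective hm
    have h2 : ((m : G)⁻¹ * g) • S = S := by rw [mul_smul, ← h1, inv_smul_smul]
    have h3 := hN S hSM (Sylow.smul_eq_iff_mem_normalizer.1 h2)
    have h4 := M.mul_mem m.2 h3
    rwa [mul_inv_cancel_left] at h4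
  obtain ⟨z₀, hz₀M, hz₀, hz₀D⟩ := hD.exists_involution_not_mem hG
  -- an involution outside `M`, and a single class
  obtain ⟨y, hy, hyM⟩ : ∃ y, orderOf y = 2 ∧ y ∉ M := by
    by_contra h
    push Not at h
    exact hMtop (eq_top_iff.2 fun g _ => hfus g z₀ hz₀M hz₀
      (h _ (by rw [Involution.orderOf_conj, hz₀])))
  have hcross : ∀ x w : G, orderOf x = 2 → orderOf w = 2 → x ∈ M → w ∉ M → IsConj x w := by
    intro x w hx hw hxM hwM
    refine Involution.isConj_of_odd hx hw (Nat.not_even_iff_odd.1 fun he => hwM ?_)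
    have hc1 := Involution.commute_pow_half_left (mul_self_of hx) (mul_self_of hw) he
    have hc2 := Involution.commute_pow_half_right (mul_self_of hx) (mul_self_of hw) he
    have ho := Involution.orderOf_pow_half he (orderOf_pos _).ne'
    have h1 := hcent x hxM hx (mem_centralizer_singleton_iff.2 hc1.eq)
    exact hcent _ h1 ho (mem_centralizer_singleton_iff.2 hc2.symm.eq)
  have hclass : ∀ w : G, orderOf w = 2 → ∃ g, g * z₀ * g⁻¹ = w := by
    intro w hw
    by_cases hwM : w ∈ M
    · exact isConj_iff.1 ((hcross z₀ y hz₀ hy hz₀M hyM).trans (hcross w y hw hy hwM hyM).symm)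
    · exact isConj_iff.1 (hcross z₀ w hz₀ hw hz₀M hwM)
  -- counting
  let I := {w : G // orderOf w = 2}
  let J := {w : G // orderOf w = 2 ∧ w ∈ M}
  let Φ : (G ⧸ M) × J → I := fun p =>
    ⟨p.1.out * p.2 * p.1.out⁻¹, by rw [Involution.orderOf_conj, p.2.2.1]⟩
  have hΦ : Function.Bijective Φ := by
    constructor
    · rintro ⟨c, u⟩ ⟨d, v⟩ h
      have h' : c.out * (u : G) * c.out⁻¹ = d.out * (v : G) * d.out⁻¹ := congrArg Subtype.val h
      have hcd : c = d := by
        refine (Quotient.out_eq c).symm.trans ((QuotientGroup.eq.2 ?_).trans (Quotient.out_eq d))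
        have h1 : d.out⁻¹ * c.out ∈ M := by
          refine hfus _ u u.2.2 u.2.1 ?_
          rw [show d.out⁻¹ * c.out * (u : G) * (d.out⁻¹ * c.out)⁻¹ =
            d.out⁻¹ * (c.out * (u : G) * c.out⁻¹) * d.out by group, h',
            show d.out⁻¹ * (d.out * (v : G) * d.out⁻¹) * d.out = (v : G) by group]
          exact v.2.2
        have h2 := M.inv_mem h1
        rwa [mul_inv_rev, inv_inv] at h2
      subst hcd
      exact Prod.ext rfl (Subtype.ext (mul_left_cancel (mul_right_cancel h')))
    · rintro ⟨w, hw⟩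
      obtain ⟨g, hg⟩ := hclass w hw
      obtain ⟨m, hm⟩ := QuotientGroup.mk_out_eq_mul M g
      refine ⟨⟨(g : G ⧸ M), ⟨(m : G)⁻¹ * z₀ * m, ?_, ?_⟩⟩, Subtype.ext ?_⟩
      · have := Involution.orderOf_conj (m : G)⁻¹ z₀
        rw [inv_inv] at this
        rw [this, hz₀]
      · exact M.mul_mem (M.mul_mem (M.inv_mem m.2) hz₀M) m.2
      · show (g : G ⧸ M).out * ((m : G)⁻¹ * z₀ * m) * ((g : G ⧸ M).out)⁻¹ = w
        rw [hm, ← hg]
        group
  have hI : Nat.card I = M.index * Nat.card J := by
    rw [← Nat.card_congr (Equiv.ofBijective Φ hΦ), Nat.card_prod, Subgroup.index_eq_card]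
  have hfpf : OddFpf (actNor D) := by
    intro g hgo hg1 v hv
    by_contra hv1
    refine hg1 (Subtype.ext (hG.eq_one_of_commute (t := (v : G))
      (orderOf_of_mul_self v.2.2.1 fun e => hv1 (Subtype.ext e))
      (by rwa [Subgroup.orderOf_coe]) ?_))
    exact mul_inv_eq_iff_eq_mul.1 (congrArg Subtype.val hv)
  haveI := hD.omega_nontrivial
  set W := Nat.card ↥(omega D) with hW
  have hW2 : 2 ≤ W := pos_of_nontrivial
  set Iout : Finset G := Finset.univ.filter fun w => orderOf w = 2 ∧ w ∉ M
  have hsplit : Nat.card I = Nat.card J + Iout.card := by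
    rw [Nat.card_eq_fintype_card, Nat.card_eq_fintype_card, Fintype.card_subtype,
      Fintype.card_subtype, ← Finset.card_union_of_disjoint]
    · congr 1
      ext w
      simp only [Iout, Finset.mem_filter, Finset.mem_union, Finset.mem_univ, true_and]
      tauto
    · rw [Finset.disjoint_filter]
      rintro w - ⟨-, h1⟩ ⟨-, h2⟩
      exact h2 h1
  have hout : Iout.card ≤ (W - 1) * (M.index - 1) := by
    haveI := Fintype.ofFinite (G ⧸ M)
    refine (Finset.card_le_mul_card_image (f := fun w : G => (w : G ⧸ M)) Iout (W - 1) ?_).trans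
      (Nat.mul_le_mul_left _ ?_)
    · intro c hc
      obtain ⟨u, hu, rfl⟩ := Finset.mem_image.1 hc
      simp only [Iout, Finset.mem_filter, Finset.mem_univ, true_and] at hu
      set D₀ := M ⊓ M.map (MulAut.conj u).toMonoidHom with hD₀
      have hodd : Odd (Nat.card ↥(D₀.subgroupOf M)) := by
        rw [Nat.card_congr (subgroupOfEquivOfLe inf_le_left).toEquiv]
        refine Nat.not_even_iff_odd.1 fun he => ?_
        obtain ⟨m, hm⟩ := exists_prime_orderOf_dvd_card' 2 (even_iff_two_dvd.1 he)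
        obtain ⟨hmM, m', hm', hme⟩ := mem_inf.1 m.2
        have hmo : orderOf (m : G) = 2 := by rw [Subgroup.orderOf_coe, hm]
        have hm'o : orderOf m' = 2 := by
          rw [← hmo, ← hme]
          exact (Involution.orderOf_conj u m').symm
        refine hu.2 (hfus u m' hm' hm'o ?_)
        rw [← MulAut.conj_apply]
        exact hme ▸ hmM
      have hD₀le : Nat.card D₀ ≤ W - 1 := by
        rw [← Nat.card_congr (subgroupOfEquivOfLe (inf_le_left : D₀ ≤ M)).toEquiv]
        exact Nat.le_of_dvd (by omega) (card_dvd_of_odd hfpf _ hodd)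
      refine le_trans ?_ hD₀le
      rw [Nat.card_eq_fintype_card, ← Finset.card_univ]
      refine Finset.card_le_card_of_injOn (fun w => if h : u * w ∈ D₀ then ⟨_, h⟩ else 1)
        (fun w _ => Finset.mem_univ _) ?_
      have hmem : ∀ w ∈ Iout.filter fun w : G => (w : G ⧸ M) = (u : G ⧸ M), u * w ∈ D₀ := by
        intro w hw
        simp only [Iout, Finset.mem_filter, Finset.mem_univ, true_and] at hw
        have h1 : u * w ∈ M := by
          have h2 := QuotientGroup.eq.1 hw.2.symm
          rwa [inv_eq_of_mul_eq_one_right (mul_self_of hu.1)] at h2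
        refine mem_inf.2 ⟨h1, (u * w)⁻¹, M.inv_mem h1, ?_⟩
        show MulAut.conj u (u * w)⁻¹ = u * w
        rw [MulAut.conj_apply, mul_inv_rev, inv_eq_of_mul_eq_one_right (mul_self_of hw.1.1),
          inv_eq_of_mul_eq_one_right (mul_self_of hu.1), mul_assoc (u), mul_assoc w,
          mul_self_of hu.1, mul_one]
      intro w hw w' hw' he
      simp only [Finset.mem_coe] at hw hw'
      simp only [dif_pos (hmem w hw), dif_pos (hmem w' hw')] at he
      exact mul_left_cancel (congrArg Subtype.val he)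
    · rw [Subgroup.index_eq_card, Nat.card_eq_fintype_card,
        show Fintype.card (G ⧸ M) - 1 = (Finset.univ.erase ((1 : G) : G ⧸ M)).card by
          rw [Finset.card_erase_of_mem (Finset.mem_univ _), Finset.card_univ]]
      refine Finset.card_le_card fun c hc => ?_
      obtain ⟨u, hu, rfl⟩ := Finset.mem_image.1 hc
      simp only [Iout, Finset.mem_filter, Finset.mem_univ, true_and] at hu
      refine Finset.mem_erase.2 ⟨fun e => hu.2 ?_, Finset.mem_univ _⟩
      simpa using M.inv_mem (QuotientGroup.eq.1 e)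
  have hJ : W ≤ Nat.card J := by
    refine Nat.card_le_card_of_injective (fun v : ↥(omega D) => if h : (v : G) = 1 then
      (⟨z₀, hz₀, hz₀M⟩ : J) else ⟨v, orderOf_of_mul_self v.2.2.1 h,
        le_normalizer (omega_le D v.2)⟩) ?_
    intro v v' he
    dsimp only at he
    split_ifs at he with h1 h2 h2
    · exact Subtype.ext (h1.trans h2.symm)
    · exact absurd (congrArg Subtype.val he) fun e : z₀ = v' => hz₀D (e ▸ omega_le D v'.2)
    · exact absurd (congrArg Subtype.val he) fun e : (v : G) = z₀ => hz₀D (e ▸ omega_le D v.2)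
    · exact Subtype.ext (congrArg (Subtype.val : J → G) he)
  have hn : 2 ≤ M.index := by
    have h1 : M.index ≠ 1 := fun e => hMtop (index_eq_one.1 e)
    have h2 : M.index ≠ 0 := Subgroup.index_ne_zero_of_finite
    omega
  obtain ⟨j, hj⟩ : ∃ j, M.index = j + 2 := ⟨M.index - 2, by omega⟩
  rw [hI, hj] at hsplit
  rw [hj, show j + 2 - 1 = j + 1 by omega] at hout
  have h3 : (W - 1) * (j + 1) < Nat.card J * (j + 1) :=
    Nat.mul_lt_mul_of_pos_right (by omega) (by omega)
  have h4 : (j + 2) * Nat.card J = Nat.card J + Nat.card J * (j + 1) := by ring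
  omega

end Cfsg.Agent.CIT
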