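import Cfsg.Agent.CIT.NCase
import Cfsg.Agent.CIT.FCase
import Cfsg.Agent.CIT.StrongEmb

/-!
# CIT-groups without TI Sylow `2`-subgroups contain a pair
-/

set_option autoImplicit false
set_option linter.style.haveILetI false

namespace Cfsg.Agent.CIT

open Subgroup

universe u

/-- A CIT-group without TI Sylow `2`-subgroups contains a pair. -/
theorem exists_pair {G : Type u} [Group G] [Finite G] (hG : IsCIT G) (hO : Cfsg.pCore 2 G = ⊥)
    (hgood : Good.{u} (Nat.card G)) (h : ¬ TI G) : ∃ D E : Subgroup G, Pair D E := by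
  by_contra hno
  by_cases hF : FCond G
  · obtain ⟨Q, hQ⟩ := exists_ess hG h
    obtain ⟨S, -, hS⟩ := hF.exists_sylow_ge hQ hQ.two le_normalizer
    exact no_strongly_embedded hG hO hQ ⟨S, hS⟩ (fun T hT => hF.normalizer_le hQ hT)
      fun T R hT hne => le_normalizer_of_inf_ne_bot hG hgood hF hno hQ hT hne
  · rw [FCond] at hF
    push Not at hF
    obtain ⟨Q, hQ, Y, hY, hY2, hmax, hg⟩ := hF
    exact hno (exists_pair_of_normalizer hG hgood hQ hY hY2 hmax hg)

end Cfsg.Agent.CIT
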