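import Cfsg.Agent.CIT.Out

/-!
# A pair of elementary essential subgroups normalising each other
-/

set_option autoImplicit false
set_option linter.style.haveILetI false

namespace Cfsg.Agent.CIT

open Subgroup

universe u

variable {G : Type u} [Group G]

/-- Two distinct elementary essential subgroups of the same order normalising each other. -/
structure Pair (D E : Subgroup G) : Prop where
  ne : D ≠ E
  essD : Ess D
  essE : Ess E
  sqD : ∀ x ∈ D, x * x = 1
  sqE : ∀ x ∈ E, x * x = 1
  card_eq : Nat.card D = Nat.card E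
  leD : E ≤ normalizer (D : Set G)
  leE : D ≤ normalizer (E : Set G)

/-- The two natural modules of a pair. -/
structure PairNat {D E : Subgroup G} (h : Pair D E) (F : Type) [Field F] [Fintype F] : Prop where
  natD : Nonempty (Natural (act D) (img D E) F)
  card_D : Nat.card D = Fintype.card F ^ 2
  card_inf : Nat.card ↥(D ⊓ E) = Fintype.card F
  card_sup : Nat.card ↥(D ⊔ E) = Fintype.card F ^ 3

namespace Pair

variable {D E : Subgroup G} (h : Pair D E)
include h

theorem symm : Pair E D :=
  ⟨h.ne.symm, h.essE, h.essD, h.sqE, h.sqD, h.card_eq.symm, h.leE, h.leD⟩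

variable [Finite G]

theorem comm_D {x y : G} (hx : x ∈ D) (hy : y ∈ D) : Commute x y := mulComm_of_sq h.sqD hx hy

theorem not_le : ¬ E ≤ D := fun hle =>
  h.ne (eq_of_le_of_card_ge hle h.card_eq.le).symm

theorem omega_D : omega D = D := h.essD.omega_eq_self h.sqD

theorem centralizer_D : centralizer (D : Set G) = D := h.essD.centralizer_eq_self h.sqD

theorem exists_pairNat (hG : IsCIT G) (hgood : Good.{u} (Nat.card G)) :
    ∃ (F : Type) (_ : Field F) (_ : Fintype F), PairNat h F := by
  have hDC : D ⊓ E ≤ omega D ⊓ centralizer (E : Set G) := by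
    rw [h.omega_D]
    exact le_inf inf_le_left fun x hx =>
      mem_centralizer_iff.2 fun y hy => h.symm.comm_D hy hx.2
  obtain ⟨F, iF, iT, ⟨N⟩⟩ := h.essD.natural_img hG hgood h.leD h.sqE h.not_le (by
    rw [h.omega_D, ← h.card_eq, inf_comm E D]
    refine Nat.mul_le_mul_left _ (Subgroup.card_le_of_le ?_)
    rw [h.omega_D] at hDC
    exact hDC)
  have hc : Nat.card D = Fintype.card F ^ 2 := by rw [← N.card_V, h.omega_D]
  have h1 := card_img_mul (Q := D) h.leD
  rw [N.card_A, inf_comm, ← h.card_eq, hc, pow_two] at h1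
  have hq : Nat.card ↥(D ⊓ E) = Fintype.card F := Nat.eq_of_mul_eq_mul_left Fintype.card_pos h1
  refine ⟨F, iF, iT, ⟨⟨N⟩, hc, hq, ?_⟩⟩
  have h2 : Nat.card ↥(D ⊔ E) = Nat.card (img D E) * Nat.card D := by
    rw [← card_pre, show pre D (img D E) = D ⊔ E from ?_]
    refine le_antisymm ?_ (sup_le (le_pre _) (le_pre_img h.leD))
    intro x hx
    obtain ⟨hx1, g, hg, e⟩ := mem_pre.1 hx
    have h3 : ((⟨x, hx1⟩ * g⁻¹ : ↥(normalizer (D : Set G))) : G) ∈ D :=
      toOut_eq_one.1 (by rw [map_mul, map_inv, e, mul_inv_cancel])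
    have h4 := Subgroup.mul_mem_sup h3 (show (g : G) ∈ E from hg)
    simpa using h4
  rw [h2, N.card_A, hc]
  ring

end Pair

end Cfsg.Agent.CIT
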