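import Cfsg.Agent.CIT.FratMod
import Cfsg.Agent.CIT.NaturalSylow
import Cfsg.Agent.CIT.Pair

/-!
# Two essential subgroups with non-commuting mutually normalised omegas
-/

set_option autoImplicit false
set_option linter.style.haveILetI false

namespace Cfsg.Agent.CIT

open Subgroup

universe u

variable {G : Type u} [Group G]

namespace Natural

variable {X V : Type*} [Group X] [CommGroup V] {φ : X →* MulAut V} {A : Subgroup X} {F : Type}
  [Field F] [Fintype F] (N : Natural φ A F)

include N in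
/-- The natural module is irreducible. -/
theorem irreducible [Finite X] [Finite V] (hO : Cfsg.pCore 2 X = ⊥) (hfpf : OddFpf φ)
    (hV : ∀ v : V, v * v = 1) {B : Subgroup V} (hB : ∀ x : X, ∀ v ∈ B, φ x v ∈ B) (hne : B ≠ ⊥) :
    B = ⊤ := by
  obtain ⟨⟨v, hv⟩, hv1⟩ := Subgroup.ne_bot_iff_exists_ne_one.1 hne
  obtain ⟨x, hx⟩ := exists_conj_mem N hO hfpf hV v
  have hz1 : φ x v ≠ 1 := fun e => hv1 (Subtype.ext ((φ x).injective (e.trans (map_one _).symm)))
  have hfix : ∀ z ∈ fix φ A, z ∈ B := by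
    intro z hz
    by_cases h : z = 1
    · rw [h]; exact one_mem B
    obtain ⟨a, ha⟩ := exists_h_eq N hfpf hx hz hz1 h
    rw [← ha]
    exact hB _ _ (hB x v hv)
  refine eq_top_iff.2 fun w _ => ?_
  obtain ⟨a, ha, b, hb, rfl⟩ := exists_split N hfpf w
  exact mul_mem (hfix a ha) (hB _ _ (hfix b hb))

end Natural

variable [Finite G]

/-- All maximal `2`-subgroups of normalisers of essential subgroups keep their normalisers. -/
def FCond (G : Type u) [Group G] : Prop :=
  ∀ Q : Subgroup G, Ess Q → ∀ Y : Subgroup G, Y ≤ normalizer (Q : Set G) → IsPGroup 2 Y →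
    (∀ R : Subgroup G, Y ≤ R → R ≤ normalizer (Q : Set G) → IsPGroup 2 R → R = Y) →
    normalizer (Y : Set G) ≤ normalizer (Q : Set G)

theorem exists_max_two (Q : Subgroup G) {W : Subgroup G} (hW : IsPGroup 2 W)
    (hWN : W ≤ normalizer (Q : Set G)) :
    ∃ Y : Subgroup G, W ≤ Y ∧ Y ≤ normalizer (Q : Set G) ∧ IsPGroup 2 Y ∧
      ∀ R : Subgroup G, Y ≤ R → R ≤ normalizer (Q : Set G) → IsPGroup 2 R → R = Y := by
  obtain ⟨Y, ⟨hWY, hYN, hY2⟩, hmax⟩ := Set.exists_max_image
    {Y : Subgroup G | W ≤ Y ∧ Y ≤ normalizer (Q : Set G) ∧ IsPGroup 2 Y}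
    (fun Y => Nat.card Y) (Set.toFinite _) ⟨W, le_rfl, hWN, hW⟩
  exact ⟨Y, hWY, hYN, hY2, fun R hR hRN hR2 =>
    (eq_of_le_of_card_ge hR (hmax R ⟨hWY.trans hR, hRN, hR2⟩)).symm⟩

namespace FCond

variable (hF : FCond G) {Q : Subgroup G} (hQ : Ess Q)
include hF hQ

/-- A maximal `2`-subgroup of `N(Q)` is a Sylow subgroup. -/
theorem max_sylow {Y : Subgroup G} (hY : Y ≤ normalizer (Q : Set G)) (hY2 : IsPGroup 2 Y)
    (hmax : ∀ R : Subgroup G, Y ≤ R → R ≤ normalizer (Q : Set G) → IsPGroup 2 R → R = Y) :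
    ∃ S : Sylow 2 G, (S : Subgroup G) = Y := by
  obtain ⟨S, hS⟩ := hY2.exists_le_sylow
  refine ⟨S, ?_⟩
  by_contra hne
  obtain ⟨x, hxS, hxN, hxY⟩ := exists_mem_normalizer_not_mem S.2 hS (Ne.symm hne)
  have hxQ := hF Q hQ Y hY hY2 hmax hxN
  have h1 := hmax ((S : Subgroup G) ⊓ normalizer (Q : Set G)) (le_inf hS hY) inf_le_right
    (S.2.to_le inf_le_left)
  exact hxY (h1 ▸ (⟨hxS, hxQ⟩ : x ∈ (S : Subgroup G) ⊓ normalizer (Q : Set G)))

theorem exists_sylow_ge {W : Subgroup G} (hW : IsPGroup 2 W) (hWN : W ≤ normalizer (Q : Set G)) :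
    ∃ S : Sylow 2 G, W ≤ (S : Subgroup G) ∧ (S : Subgroup G) ≤ normalizer (Q : Set G) := by
  obtain ⟨Y, hWY, hY, hY2, hmax⟩ := exists_max_two Q hW hWN
  obtain ⟨S, hS⟩ := hF.max_sylow hQ hY hY2 hmax
  exact ⟨S, hS ▸ hWY, hS ▸ hY⟩

theorem normalizer_le {S : Sylow 2 G} (hS : (S : Subgroup G) ≤ normalizer (Q : Set G)) :
    normalizer ((S : Subgroup G) : Set G) ≤ normalizer (Q : Set G) :=
  hF Q hQ S hS S.2 fun _ hR _ hR2 => S.is_maximal' hR2 hR

omit hF in
theorem le_sylow {S : Sylow 2 G} (hS : (S : Subgroup G) ≤ normalizer (Q : Set G)) :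
    Q ≤ (S : Subgroup G) := by
  haveI : Fact (Nat.Prime 2) := ⟨Nat.prime_two⟩
  exact le_sup_right.trans (S.is_maximal' (S.2.to_sup_of_normal_right' hQ.two hS) le_sup_left).le

end FCond

/-- An element of `N(Q)` centralising `omega Q` lies in `Q`. -/
theorem Ess.mem_of_centralizes (hG : IsCIT G) {Q : Subgroup G} (hQ : Ess Q) {x : G}
    (hxN : x ∈ normalizer (Q : Set G)) (hx : x ∈ centralizer (omega Q : Set G)) : x ∈ Q := by
  haveI := hQ.omega_nontrivial
  refine (toOut_eq_one (g := ⟨x, hxN⟩)).1 (injective_of_fpf (act_fpf hG Q) hQ.pCore_out ?_)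
  rw [map_one]
  refine MulEquiv.ext fun v => ?_
  exact (act_eq_iff ⟨x, hxN⟩ v).2 (mem_centralizer_iff.1 hx v v.2).symm

theorem omega_inf_eq (hG : IsCIT G) {a c : Subgroup G} (ha : Ess a)
    (h : omega c ≤ normalizer (a : Set G)) :
    omega c ⊓ a = omega c ⊓ centralizer (omega a : Set G) :=
  le_antisymm (le_inf inf_le_left fun _ hx => le_centralizer_omega a hx.2)
    (le_inf inf_le_left fun _ hx => ha.mem_of_centralizes hG (h hx.1) hx.2)

/-- `a` is elementary in the non-commuting mutual situation. -/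
theorem eq_omega_of_mutual (hG : IsCIT G) {a c : Subgroup G} (ha : Ess a) {F : Type} [Field F]
    [Fintype F] (N : Natural (act a) (img a (omega c)) F)
    (hcard : Nat.card a = Nat.card ↥(a ⊓ c) * Fintype.card F)
    (hdec : ∀ x ∈ a, ∃ k ∈ a ⊓ c, ∃ v ∈ omega a, x = k * v) : omega a = a := by
  classical
  letI := fmodComm a ha.two
  haveI := ha.omega_nontrivial
  have hO := ha.pCore_out
  set π := QuotientGroup.mk' (frattini ↥a) with hπ
  set K1 := (a ⊓ c).subgroupOf a with hK1
  set U := K1.map π with hU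
  set A := img a (omega c) with hA
  haveI := N.char2
  have hUfix : U ≤ fix (fmodAct a ha.two) (zpowers (N.u 1)) := by
    rintro _ ⟨k, hk, rfl⟩
    rw [mem_fix_zpowers]
    obtain ⟨g, hg, hgu⟩ := mem_img.1 (N.u_mem 1)
    rw [← hgu, show π k = QuotientGroup.mk k from rfl, fmodAct_mk]
    congr 1
    refine Subtype.ext ?_
    show (g : G) * k * (g : G)⁻¹ = k
    rw [(omega_comm hg (mem_inf.1 (mem_subgroupOf.1 hk)).2).eq, mul_inv_cancel_right]
  have hu : N.u 1 * N.u 1 = 1 := by
    rw [N.u_mul, CharTwo.add_self_eq_zero, Natural.u, PLocalB.upper_zero, map_one]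
  obtain ⟨f, hf, hf1, hinv⟩ :=
    exists_inverted_odd hO (orderOf_of_mul_self hu (N.u_ne_one one_ne_zero))
  have hhalf := (half (fmodAct_fpf hG a ha.two) (fmod_sq a ha.two) hu hf hf1 hinv).1
  have hW : Nat.card (FMod a) ≤ Fintype.card F * Nat.card U := by
    have h1 : (π.comp K1.subtype).range = U := by
      rw [MonoidHom.range_comp, range_subtype]
    have h2 : Nat.card K1 = Nat.card ↥(a ⊓ c) :=
      Nat.card_congr (subgroupOfEquivOfLe inf_le_left).toEquiv
    have h3 := card_eq_card_quotient_mul_card_subgroup (π.comp K1.subtype).ker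
    rw [Nat.card_congr (QuotientGroup.quotientKerEquivRange _).toEquiv, h1, h2] at h3
    have h4 : Nat.card (π.comp K1.subtype).ker ≤ Nat.card (frattini ↥a) := by
      refine Nat.card_le_card_of_injective
        (fun k => (⟨(k.1 : ↥a), (QuotientGroup.eq_one_iff _).1 k.2⟩ : frattini ↥a)) ?_
      intro x y hxy
      exact Subtype.ext (Subtype.ext (congrArg (fun w : frattini ↥a => (w : ↥a)) hxy))
    have h5 := card_eq_card_quotient_mul_card_subgroup (frattini ↥a)
    rw [hcard, h3] at h5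
    refine Nat.le_of_mul_le_mul_right ?_ (show 0 < Nat.card (frattini ↥a) from Nat.card_pos)
    rw [← h5, mul_comm (Fintype.card F), mul_right_comm]
    exact Nat.mul_le_mul_left _ h4
  have hWle : Nat.card (FMod a) ≤ Fintype.card F ^ 2 := by
    have h1 : Nat.card U ≤ Nat.card (fix (fmodAct a ha.two) (zpowers (N.u 1))) :=
      Subgroup.card_le_of_le hUfix
    have h2 := hW.trans (Nat.mul_le_mul_left _ h1)
    rw [← hhalf, pow_two] at h2
    have h3 := Nat.le_of_mul_le_mul_right h2 Nat.card_pos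
    rw [← hhalf, pow_two, pow_two]
    exact Nat.mul_le_mul h3 h3
  -- the image of `omega a`
  set ι := π.comp (inclusion (omega_le a)) with hι
  have hinvB : ∀ x : Out a, ∀ v ∈ ι.ker, act a x v ∈ ι.ker := by
    intro x v hv
    obtain ⟨g, rfl⟩ := toOut_surjective a x
    rw [MonoidHom.mem_ker] at hv ⊢
    have h1 := fmodAct_mk a ha.two g (inclusion (omega_le a) v)
    rw [show (QuotientGroup.mk (inclusion (omega_le a) v) : FMod a) = 1 from hv, map_one] at h1
    exact h1.symm
  have hinj : ι.ker = ⊥ := by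
    by_contra hne
    have htop := N.irreducible hO (act_fpf hG a) omega_sq hinvB hne
    have hsup : K1 ⊔ frattini ↥a = ⊤ := by
      refine eq_top_iff.2 fun x _ => ?_
      obtain ⟨k, hk, v, hv, e⟩ := hdec x x.2
      have hxe : x = ⟨k, (mem_inf.1 hk).1⟩ * ⟨v, omega_le a hv⟩ := Subtype.ext e
      rw [hxe]
      refine mul_mem_sup (mem_subgroupOf.2 hk) ?_
      have h2 : (⟨v, hv⟩ : ↥(omega a)) ∈ ι.ker := htop ▸ mem_top _
      exact (QuotientGroup.eq_one_iff _).1 h2
    have h3 : a ⊓ c = a := le_antisymm inf_le_left fun x hx => by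
      have := (frattini_nongenerating hsup).ge (mem_top (⟨x, hx⟩ : ↥a))
      exact mem_subgroupOf.1 this
    rw [h3] at hcard
    have h4 := Fintype.one_lt_card (α := F)
    have h5 : 0 < Nat.card a := Nat.card_pos
    have h6 := Nat.mul_lt_mul_of_pos_left h4 h5
    omega
  have hsurj : ι.range = ⊤ := by
    refine eq_top_of_le_card _ ?_
    rw [← Nat.card_congr (MonoidHom.ofInjective ((MonoidHom.ker_eq_bot_iff ι).1 hinj)).toEquiv,
      N.card_V]
    exact hWle
  refine le_antisymm (omega_le a) fun x hx => ?_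
  have hsup : (omega a).subgroupOf a ⊔ frattini ↥a = ⊤ := by
    refine eq_top_iff.2 fun y _ => ?_
    obtain ⟨v, hv⟩ := hsurj.ge (mem_top (π y))
    have h1 : (inclusion (omega_le a) v)⁻¹ * y ∈ frattini ↥a := QuotientGroup.eq.1 hv
    have h2 := mul_mem_sup (S := (omega a).subgroupOf a)
      (show inclusion (omega_le a) v ∈ _ from mem_subgroupOf.2 v.2) h1
    simpa using h2
  exact mem_subgroupOf.1 ((frattini_nongenerating hsup).ge (mem_top (⟨x, hx⟩ : ↥a)))

/-- The non-commuting mutual situation gives a pair. -/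
theorem pair_of_offender (hG : IsCIT G) (hgood : Good.{u} (Nat.card G)) (hF : FCond G)
    {a c : Subgroup G} (ha : Ess a) (hc : Ess c) (hac : omega a ≤ normalizer (c : Set G))
    (hca : omega c ≤ normalizer (a : Set G)) (hne : ¬ omega c ≤ centralizer (omega a : Set G))
    (hoff : Nat.card ↥(omega a) * Nat.card ↥(omega c ⊓ a) ≤
      Nat.card ↥(omega c) * Nat.card ↥(omega a ⊓ centralizer (omega c : Set G))) :
    ∃ D E : Subgroup G, Pair D E := by
  haveI : Fact (Nat.Prime 2) := ⟨Nat.prime_two⟩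
  have hsym : ¬ omega a ≤ centralizer (omega c : Set G) := fun h => hne fun x hx =>
    mem_centralizer_iff.2 fun y hy => (mem_centralizer_iff.1 (h hy) x hx).symm
  obtain ⟨F, iF, iT, ⟨N⟩⟩ := ha.natural_img hG hgood hca (fun x hx => hx.2.1)
    (fun h => hne (h.trans (le_centralizer_omega a))) hoff
  have eA := card_img_mul (Q := a) hca
  rw [N.card_A] at eA
  have efix := N.card_fix
  rw [card_fix_img hca] at efix
  have eV := N.card_V
  obtain ⟨F', iF', iT', ⟨N'⟩⟩ := hc.natural_img hG hgood hac (fun x hx => hx.2.1)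
    (fun h => hsym (h.trans (le_centralizer_omega c))) (by
      rw [omega_inf_eq hG hc hac, ← omega_inf_eq hG ha hca, efix, eV, ← eA, pow_two]
      exact le_of_eq (by ring))
  have eA' := card_img_mul (Q := c) hac
  rw [N'.card_A, omega_inf_eq hG hc hac, efix, eV, pow_two] at eA'
  have hqq : Fintype.card F' = Fintype.card F := Nat.eq_of_mul_eq_mul_right Fintype.card_pos eA'
  -- a common element
  obtain ⟨w, hw, hwa⟩ := SetLike.not_le_iff_exists.1 hne
  obtain ⟨v, hv, hvw⟩ : ∃ v ∈ omega a, v * w ≠ w * v := by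
    by_contra h
    push Not at h
    exact hwa (mem_centralizer_iff.2 h)
  set c₀ := v * w * v⁻¹ * w⁻¹ with hc₀
  have hc₀a : c₀ ∈ omega a := by
    rw [hc₀, show v * w * v⁻¹ * w⁻¹ = v * (w * v⁻¹ * w⁻¹) by group]
    exact mul_mem hv (conj_mem_omega (hca hw) (inv_mem hv))
  have hc₀c : c₀ ∈ omega c := mul_mem (conj_mem_omega (hac hv) hw) (inv_mem hw)
  have hc₀1 : c₀ ≠ 1 := by
    rw [hc₀]
    intro e
    exact hvw (mul_inv_eq_iff_eq_mul.1 (mul_inv_eq_one.1 e))
  have hC := hG c₀ (orderOf_of_mul_self hc₀a.2.1 hc₀1)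
  have key : ∀ (x y : Subgroup G) (K : Type) [Field K] [Fintype K], Ess x →
      omega y ≤ normalizer (x : Set G) → c₀ ∈ omega x → c₀ ∈ omega y →
      Natural (act x) (img x (omega y)) K →
      pre x (img x (omega y)) = centralizer ({c₀} : Set G) := by
    intro x y K _ _ hx hyx hcx hcy M
    have hpre2 := pre_isPGroup hx.two M.isPGroup
    obtain ⟨Y, hY0, hY, hY2, hmax⟩ := exists_max_two x hpre2 (pre_le_normalizer _)
    have hYeq : Y = pre x (img x (omega y)) := by
      obtain ⟨T, hT⟩ := M.exists_sylow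
      have h1 : img x Y = img x (omega y) := by
        rw [← hT]
        refine T.is_maximal' (img_isPGroup hY2) ?_
        rw [hT]
        exact le_trans (le_of_eq (img_pre _).symm) (img_mono hY0)
      rw [← h1, pre_img ((le_pre _).trans hY0) hY]
    obtain ⟨S, hS⟩ := hF.max_sylow hx hY hY2 hmax
    rw [← hYeq, ← hS]
    refine (S.is_maximal' hC fun s hs => ?_).symm
    rw [hS, hYeq] at hs
    obtain ⟨hs1, g, hg, e⟩ := mem_pre.1 hs
    have h2 : ((⟨s, hs1⟩ * g⁻¹ : ↥(normalizer (x : Set G))) : G) ∈ x :=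
      toOut_eq_one.1 (by rw [map_mul, map_inv, e, mul_inv_cancel])
    have h3 : (g : G) ∈ centralizer ({c₀} : Set G) :=
      mem_centralizer_singleton_iff.2 (omega_comm hcy (omega_le y hg)).symm.eq
    have h4 := mul_mem (mem_centralizer_singleton_iff.2 (omega_comm hcx h2).symm.eq :
      _ ∈ centralizer ({c₀} : Set G)) h3
    simpa using h4
  have hRa := key a c F ha hca hc₀a hc₀c N
  have hRc := key c a F' hc hac hc₀c hc₀a N'
  have hcard : Nat.card a = Nat.card c := by
    have h1 := card_pre (Q := a) (img a (omega c))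
    have h2 := card_pre (Q := c) (img c (omega a))
    rw [hRa, N.card_A] at h1
    rw [hRc, N'.card_A, hqq, h1] at h2
    exact Nat.eq_of_mul_eq_mul_left Fintype.card_pos h2
  have haN : a ≤ normalizer (c : Set G) :=
    (le_pre _).trans ((hRa.trans hRc.symm).le.trans (pre_le_normalizer _))
  have hcN : c ≤ normalizer (a : Set G) :=
    (le_pre _).trans ((hRc.trans hRa.symm).le.trans (pre_le_normalizer _))
  have himg : ∀ (x y : Subgroup G), pre x (img x (omega y)) = centralizer ({c₀} : Set G) →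
      y ≤ centralizer ({c₀} : Set G) → img x y = img x (omega y) := by
    intro x y h1 h2
    refine le_antisymm ?_ (img_mono (omega_le y))
    exact (img_mono (h2.trans h1.ge)).trans (img_pre _).le
  have hyc : ∀ (x : Subgroup G), c₀ ∈ omega x → x ≤ centralizer ({c₀} : Set G) := fun x hx z hz =>
    mem_centralizer_singleton_iff.2 (omega_comm hx hz).symm.eq
  have hia := himg a c hRa (hyc c hc₀c)
  have hic := himg c a hRc (hyc a hc₀a)
  have hcard1 : Nat.card a = Nat.card ↥(a ⊓ c) * Fintype.card F := by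
    have := card_img_mul (Q := a) hcN
    rw [hia, N.card_A, inf_comm c a] at this
    rw [hcard, ← this, mul_comm]
  have hdec : ∀ (x y : Subgroup G), x ≤ normalizer (y : Set G) → img y x = img y (omega x) →
      ∀ z ∈ x, ∃ k ∈ x ⊓ y, ∃ w ∈ omega x, z = k * w := by
    intro x y hxy hi z hz
    obtain ⟨g, hg, e⟩ := mem_img.1 (hi ▸ toOut_mem_img (g := ⟨z, hxy hz⟩) hz)
    have h2 : z * (g : G)⁻¹ ∈ y := (toOut_eq_one (g := ⟨z, hxy hz⟩ * g⁻¹)).1
      (by rw [map_mul, map_inv, e, mul_inv_cancel])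
    exact ⟨z * (g : G)⁻¹, ⟨x.mul_mem hz (x.inv_mem (omega_le x hg)), h2⟩, g, hg, by group⟩
  have haΩ := eq_omega_of_mutual hG ha N hcard1 (hdec a c haN hic)
  have hcΩ := eq_omega_of_mutual hG hc N' (by rw [hqq, inf_comm, ← hcard, hcard1])
    (hdec c a hcN hia)
  refine ⟨a, c, ⟨fun e => hne ?_, ha, hc, fun x hx => (haΩ.ge hx).2.1,
    fun x hx => (hcΩ.ge hx).2.1, hcard, hcN, haN⟩⟩
  subst e
  exact (omega_le a).trans (le_centralizer_omega a)

/-- Mutually normalising omegas of essential subgroups commute unless there is a pair. -/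
theorem commute_or_pair (hG : IsCIT G) (hgood : Good.{u} (Nat.card G)) (hF : FCond G)
    (hno : ¬ ∃ D E : Subgroup G, Pair D E)
    {a c : Subgroup G} (ha : Ess a) (hc : Ess c) (hac : omega a ≤ normalizer (c : Set G))
    (hca : omega c ≤ normalizer (a : Set G)) : omega c ≤ centralizer (omega a : Set G) := by
  by_contra hne
  rcases le_total (Nat.card ↥(omega a) * Nat.card ↥(omega c ⊓ a))
      (Nat.card ↥(omega c) * Nat.card ↥(omega a ⊓ centralizer (omega c : Set G))) with h | h
  · exact hno (pair_of_offender hG hgood hF ha hc hac hca hne h)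
  · refine hno (pair_of_offender hG hgood hF hc ha hca hac ?_ ?_)
    · exact fun h' => hne fun x hx => mem_centralizer_iff.2 fun y hy =>
        (mem_centralizer_iff.1 (h' hy) x hx).symm
    · rwa [omega_inf_eq hG hc hac, ← omega_inf_eq hG ha hca]

end Cfsg.Agent.CIT
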