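import Cfsg.Agent.CIT.FourConj

/-!
# `SL(2, 4)` inside the natural situation
-/

set_option autoImplicit false
set_option linter.style.haveILetI false

namespace Cfsg.Agent.CIT

open Subgroup
open scoped MatrixGroups
open Cfsg.Agent.PLocalB (upper lower)

section

variable {F : Type*} [Field F]

/-- What commutes with a diagonal matrix that is not central is diagonal. -/
theorem eq_dg_of_commute {g : SL(2, F)} {a : Fˣ} (ha : a * a ≠ 1) (h : g * dg a = dg a * g) :
    ∃ c : Fˣ, g = dg c := by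
  have hne : (a : F) - ((a⁻¹ : Fˣ) : F) ≠ 0 := fun e => ha (by
    rw [sub_eq_zero, Units.val_inj] at e
    exact mul_eq_one_iff_eq_inv.2 e)
  have hM := congrArg (fun x : SL(2, F) => x.1) h
  simp only [Matrix.SpecialLinearGroup.coe_mul, coe_dg] at hM
  have e01 := congrFun (congrFun hM 0) 1
  have e10 := congrFun (congrFun hM 1) 0
  simp [Matrix.mul_apply, Fin.sum_univ_two] at e01 e10
  have h01 : g.1 0 1 = 0 := by
    refine (mul_eq_zero.1 (?_ : g.1 0 1 * ((a : F) - ((a⁻¹ : Fˣ) : F)) = 0)).resolve_right hne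
    rw [Units.val_inv_eq_inv_val]
    linear_combination -e01
  have h10 : g.1 1 0 = 0 := by
    refine (mul_eq_zero.1 (?_ : g.1 1 0 * ((a : F) - ((a⁻¹ : Fˣ) : F)) = 0)).resolve_right hne
    rw [Units.val_inv_eq_inv_val]
    linear_combination e10
  have hdet := g.2
  rw [Matrix.det_fin_two, h10, mul_zero, sub_zero] at hdet
  refine ⟨Units.mkOfMulEqOne _ _ hdet, Subtype.ext ?_⟩
  rw [coe_dg]
  ext i j
  fin_cases i <;> fin_cases j <;> simp [Units.mkOfMulEqOne, h10, h01]

end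

namespace Natural

variable {X V : Type*} [Group X] [CommGroup V] {φ : X →* MulAut V} {A : Subgroup X} {F : Type}
  [Field F] [Fintype F] (N : Natural φ A F)

theorem mul_self_ne_one (hF : Fintype.card F = 4) {a : Fˣ} (ha : a ≠ 1) : a * a ≠ 1 := by
  classical
  intro h
  have h3 := pow_card_eq_one (G := Fˣ) (x := a)
  rw [Fintype.card_units, hF, show 4 - 1 = 2 + 1 from rfl, pow_succ, pow_two, h, one_mul] at h3
  exact ha h3

theorem h_one : N.h 1 = 1 := by rw [h, dg_one, map_one]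

theorem h_pow (a : Fˣ) (n : ℕ) : N.h a ^ n = N.h (a ^ n) := by rw [h, h, ← map_pow, dg_pow]

theorem h_cube (hF : Fintype.card F = 4) (a : Fˣ) : N.h a ^ 3 = 1 := by
  classical
  rw [h_pow, show 3 = Fintype.card Fˣ by rw [Fintype.card_units, hF], pow_card_eq_one, h_one]

theorem h_ne_one {a : Fˣ} (ha : a ≠ 1) : N.h a ≠ 1 := fun e =>
  ha (dg_injective (N.bij.1 (by rw [dg_one, map_one]; exact e)))

theorem orderOf_h (hF : Fintype.card F = 4) {a : Fˣ} (ha : a ≠ 1) : orderOf (N.h a) = 3 :=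
  haveI : Fact (Nat.Prime 3) := ⟨Nat.prime_three⟩
  orderOf_eq_prime (N.h_cube hF a) (N.h_ne_one ha)

omit N in
theorem exists_ne_one (hF : Fintype.card F = 4) : ∃ a : Fˣ, a ≠ 1 := by
  classical
  haveI : Nontrivial Fˣ := Fintype.one_lt_card_iff_nontrivial.1 (by
    rw [Fintype.card_units, hF]; norm_num)
  exact exists_ne 1

include N in
theorem card_X (hF : Fintype.card F = 4) : Nat.card X = 60 := by
  rw [← Nat.card_congr (Equiv.ofBijective N.ψ N.bij), LinearGroup.card_SL_two,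
    Nat.card_eq_fintype_card, hF]
  norm_num

include N in
theorem card_normalizer [Finite X] (hF : Fintype.card F = 4) :
    Nat.card ↥(normalizer (A : Set X)) = 12 := by
  classical
  have hmem : ∀ p : F × Fˣ, N.u p.1 * N.h p.2 ∈ normalizer (A : Set X) := fun p =>
    mem_normalizer_of_forall fun x hx => by
      obtain ⟨t, rfl⟩ := (N.mem x).1 hx
      have h1 : N.u p.1 * N.h p.2 * N.u t * (N.u p.1 * N.h p.2)⁻¹ =
          N.u p.1 * N.u ((p.2 : F) * p.2 * t) * (N.u p.1)⁻¹ := by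
        rw [mul_inv_rev, mul_assoc (N.u p.1), N.h_u, ← mul_assoc, ← mul_assoc,
          mul_inv_cancel_right]
      show N.u p.1 * N.h p.2 * N.u t * (N.u p.1 * N.h p.2)⁻¹ ∈ A
      rw [h1]
      exact A.mul_mem (A.mul_mem (N.u_mem _) (N.u_mem _)) (A.inv_mem (N.u_mem _))
  let f : F × Fˣ → ↥(normalizer (A : Set X)) := fun p => ⟨N.u p.1 * N.h p.2, hmem p⟩
  have hinj : Function.Injective f := fun p q e => by
    have e1 : upper p.1 * dg p.2 = upper q.1 * dg q.2 := N.bij.1 (by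
      rw [map_mul, map_mul]; exact congrArg Subtype.val e)
    have hM := congrArg (fun x : SL(2, F) => x.1) e1
    simp only [Matrix.SpecialLinearGroup.coe_mul, coe_dg, PLocalB.coe_upper,
      Matrix.mul_fin_two] at hM
    have e00 := congrFun (congrFun hM 0) 0
    have e01 := congrFun (congrFun hM 0) 1
    simp at e00 e01
    rw [e00] at e01
    exact Prod.ext (mul_right_cancel₀ (inv_ne_zero (Units.ne_zero _)) e01) (Units.ext e00)
  have hsurj : Function.Surjective f := by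
    rintro ⟨g, hg⟩
    obtain ⟨M, rfl⟩ := N.bij.2 g
    obtain ⟨t, ht⟩ := (N.mem _).1 ((mem_normalizer_iff.1 hg _).1 (N.u_mem 1))
    haveI := N.char2
    obtain ⟨s, a, hM⟩ := exists_upper_dg (N.bij.1 (show N.ψ (M * upper 1 * M⁻¹) = N.ψ (upper t) by
      rw [ht, map_mul, map_mul, map_inv]; rfl))
    exact ⟨(s, a), Subtype.ext (show N.u s * N.h a = N.ψ M by rw [hM, map_mul]; rfl)⟩
  rw [← Nat.card_congr (Equiv.ofBijective f ⟨hinj, hsurj⟩), Nat.card_prod, Nat.card_units,
    Nat.card_eq_fintype_card, hF]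

include N in
/-- Elements of orders three and five do not commute. -/
theorem not_commute_three_five [Finite X] (hF : Fintype.card F = 4) {f k : X} (hf : orderOf f = 3)
    (hk : orderOf k = 5) : ¬ Commute f k := by
  intro hc
  haveI : Fact (Nat.Prime 3) := ⟨Nat.prime_three⟩
  obtain ⟨a, ha⟩ := exists_ne_one hF
  obtain ⟨m, -, hm⟩ := exists_cnj_le (H := (⊤ : Subgroup X)) (S := zpowers (N.h a))
    (P := zpowers f) (p := 3) le_top le_top
    (IsPGroup.of_card (n := 1) (by rw [Nat.card_zpowers, hf, pow_one]))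
    (a := 1) (b := 20) (by rw [Nat.card_zpowers, N.orderOf_h hF ha, pow_one])
    (by rw [card_top, N.card_X hF]; norm_num) (by norm_num)
  obtain ⟨i, hi⟩ := mem_zpowers_iff.1 (mem_cnj.1 (hm (mem_zpowers f)))
  obtain ⟨M, hM⟩ := N.bij.2 (m⁻¹ * k * m)
  have hdg : ∀ b : Fˣ, ∀ j : ℤ, N.h b ^ j = N.h (b ^ j) := fun b j =>
    ((N.ψ.comp ⟨⟨dg, dg_one⟩, fun x y => (dg_mul x y).symm⟩).map_zpow b j).symm
  rw [hdg] at hi
  have hb : a ^ i ≠ 1 := fun e => by
    rw [e, N.h_one] at hi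
    have h3 : f = 1 := conj_eq_one_iff.1 (show m⁻¹ * f * m⁻¹⁻¹ = 1 by rw [inv_inv, ← hi])
    rw [h3, orderOf_one] at hf
    norm_num at hf
  have hcomm : M * dg (a ^ i) = dg (a ^ i) * M := by
    refine N.bij.1 ?_
    rw [map_mul, map_mul, hM, show N.ψ (dg (a ^ i)) = N.h (a ^ i) from rfl, hi]
    calc m⁻¹ * k * m * (m⁻¹ * f * m) = m⁻¹ * (k * f) * m := by group
      _ = m⁻¹ * (f * k) * m := by rw [hc.eq]
      _ = m⁻¹ * f * m * (m⁻¹ * k * m) := by group
  obtain ⟨c, hc'⟩ := eq_dg_of_commute (mul_self_ne_one hF hb) hcomm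
  have h3 : (m⁻¹ * k * m) ^ 3 = 1 := by
    rw [← hM, hc', show N.ψ (dg c) = N.h c from rfl, N.h_cube hF]
  have h4 : k ^ 3 = 1 := by
    have : (m⁻¹ * k * m) ^ 3 = m⁻¹ * k ^ 3 * m := by simp [pow_succ, mul_assoc]
    rw [this] at h3
    exact conj_eq_one_iff.1 (show m⁻¹ * k ^ 3 * m⁻¹⁻¹ = 1 by rwa [inv_inv])
  have h5 := orderOf_dvd_of_pow_eq_one h4
  rw [hk] at h5
  norm_num at h5

end Natural

end Cfsg.Agent.CIT
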