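import Cfsg.Agent.CIT.QLeFour
import Cfsg.Agent.CIT.FourSL2

/-!
# A pair of elementary essential subgroups of order sixteen: local structure
-/

set_option autoImplicit false
set_option linter.style.haveILetI false

namespace Cfsg.Agent.CIT

open Subgroup

universe u

variable {G : Type u} [Group G]

/-- A pair of elementary essential subgroups of order sixteen, with both natural modules. -/
structure Four (D E : Subgroup G) : Prop where
  cit : IsCIT G
  pair : Pair D E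
  natD : ∃ (F : Type) (_ : Field F) (_ : Fintype F),
    Fintype.card F = 4 ∧ Nonempty (Natural (act D) (img D E) F)
  natE : ∃ (F : Type) (_ : Field F) (_ : Fintype F),
    Fintype.card F = 4 ∧ Nonempty (Natural (act E) (img E D) F)
  cardD : Nat.card D = 16
  card_inf : Nat.card ↥(D ⊓ E) = 4
  card_sup : Nat.card ↥(D ⊔ E) = 64

theorem Pair.four [Finite G] {D E : Subgroup G} (h : Pair D E) (hG : IsCIT G)
    (hgood : Good.{u} (Nat.card G)) (hD : Nat.card D = 16) : Four D E := by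
  obtain ⟨F, iF, iT, hP⟩ := h.exists_pairNat hG hgood
  obtain ⟨F', iF', iT', hP'⟩ := h.symm.exists_pairNat hG hgood
  have hF : Fintype.card F = 4 :=
    Nat.pow_left_injective two_ne_zero (show Fintype.card F ^ 2 = 4 ^ 2 by
      rw [← hP.card_D, hD])
  have hF' : Fintype.card F' = 4 :=
    Nat.pow_left_injective two_ne_zero (show Fintype.card F' ^ 2 = 4 ^ 2 by
      rw [← hP'.card_D, ← h.card_eq, hD])
  exact ⟨hG, h, ⟨F, iF, iT, hF, hP.natD⟩, ⟨F', iF', iT', hF', hP'.natD⟩, hD,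
    hP.card_inf.trans hF, by rw [hP.card_sup, hF]; norm_num⟩

namespace Four

variable {D E : Subgroup G} (h : Four D E)
include h

theorem symm : Four E D :=
  ⟨h.cit, h.pair.symm, h.natE, h.natD, h.pair.card_eq ▸ h.cardD, by rw [inf_comm, h.card_inf],
    by rw [sup_comm, h.card_sup]⟩

theorem cardE : Nat.card E = 16 := h.pair.card_eq ▸ h.cardD

theorem sup_le_D : D ⊔ E ≤ normalizer (D : Set G) := sup_le le_normalizer h.pair.leD

theorem sup_le_E : D ⊔ E ≤ normalizer (E : Set G) := sup_le h.pair.leE le_normalizer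

theorem two_sup : IsPGroup 2 ↥(D ⊔ E) := IsPGroup.of_card (n := 6) (by rw [h.card_sup]; norm_num)

theorem two_D : IsPGroup 2 D := h.pair.essD.two

variable [Finite G]

theorem comm_inf {z y : G} (hz : z ∈ D ⊓ E) (hy : y ∈ D ⊔ E) : Commute y z := by
  obtain ⟨d, hd, e, he, rfl⟩ := exists_mul_of_mem_sup h.pair hy
  exact (h.pair.comm_D hd hz.1).mul_left (h.pair.symm.comm_D he hz.2)

theorem card_normalizer : Nat.card ↥(normalizer (D : Set G)) = 960 := by
  obtain ⟨F, iF, iT, hF, ⟨N⟩⟩ := h.natD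
  rw [card_eq_card_quotient_mul_card_subgroup (D.subgroupOf (normalizer (D : Set G))),
    Nat.card_congr (subgroupOfEquivOfLe le_normalizer).toEquiv, h.cardD]
  rw [show Nat.card (↥(normalizer (D : Set G)) ⧸ D.subgroupOf (normalizer (D : Set G))) = 60 from
    N.card_X hF]

theorem inf_normalizer_eq :
    normalizer (D : Set G) ⊓ normalizer (E : Set G) =
      pre D (normalizer (img D E : Set (Out D))) := by
  obtain ⟨F, iF, iT, hF, ⟨N⟩⟩ := h.natD
  ext g
  constructor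
  · rintro ⟨hgD, hgE⟩
    refine mem_pre.2 ⟨hgD, mem_normalizer_of_forall ?_⟩
    rintro _ ⟨e, he, rfl⟩
    rw [← map_inv, ← map_mul, ← map_mul]
    exact toOut_mem_img ((mem_normalizer_iff.1 hgE _).1 he)
  · intro hg
    obtain ⟨hg1, hg2⟩ := mem_pre.1 hg
    exact ⟨hg1, mem_normalizer_right h.pair N hg1 fun x hx => (mem_normalizer_iff.1 hg2 x).1 hx⟩

theorem card_normalizer_inf :
    Nat.card ↥(normalizer (D : Set G) ⊓ normalizer (E : Set G)) = 192 := by
  obtain ⟨F, iF, iT, hF, ⟨N⟩⟩ := h.natD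
  rw [h.inf_normalizer_eq, card_pre, N.card_normalizer hF, h.cardD]

theorem exists_le_cnj {P : Subgroup G} (hP : IsPGroup 2 P) (hle : P ≤ normalizer (D : Set G)) :
    ∃ m ∈ normalizer (D : Set G), P ≤ cnj m (D ⊔ E) :=
  haveI : Fact (Nat.Prime 2) := ⟨Nat.prime_two⟩
  exists_cnj_le h.sup_le_D hle hP (a := 6) (b := 15) (by rw [h.card_sup]; norm_num)
    (by rw [h.card_normalizer]; norm_num) (by norm_num)

theorem eq_sup_of_le {R : Subgroup G} (hR : IsPGroup 2 R) (h1 : D ⊔ E ≤ R)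
    (h2 : R ≤ normalizer (D : Set G)) : R = D ⊔ E := by
  obtain ⟨m, -, hm⟩ := h.exists_le_cnj hR h2
  exact (Subgroup.eq_of_le_of_card_ge h1
    ((Subgroup.card_le_of_le hm).trans (card_cnj m _).le)).symm

theorem le_or_le {W : Subgroup G} (hW : W ≤ D ⊔ E) (hW2 : ∀ x ∈ W, x * x = 1) :
    W ≤ D ∨ W ≤ E := by
  obtain ⟨F, iF, iT, hF, ⟨N⟩⟩ := h.natD
  by_contra hcon
  push Not at hcon
  obtain ⟨a, ha, haD⟩ := SetLike.not_le_iff_exists.1 hcon.1
  obtain ⟨b, hb, hbE⟩ := SetLike.not_le_iff_exists.1 hcon.2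
  have haE := (mem_of_sq_eq_one h.pair N (hW ha) (hW2 a ha)).resolve_left haD
  have hbD := (mem_of_sq_eq_one h.pair N (hW hb) (hW2 b hb)).resolve_right hbE
  rcases mem_of_sq_eq_one h.pair N (hW (W.mul_mem ha hb)) (hW2 _ (W.mul_mem ha hb)) with h1 | h1
  · exact haD (by simpa using D.mul_mem h1 (D.inv_mem hbD))
  · exact hbE (by simpa using E.mul_mem (E.inv_mem haE) h1)

theorem eq_or_eq {W : Subgroup G} (hW : W ≤ D ⊔ E) (hW2 : ∀ x ∈ W, x * x = 1)
    (hc : Nat.card W = 16) : W = D ∨ W = E := by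
  obtain ⟨F, iF, iT, hF, ⟨N⟩⟩ := h.natD
  exact eq_or_eq_of_le_sup h.pair N hW hW2 (by rw [hc, h.cardD])

theorem mem_or_mem {y : G} (hy : y ∈ D ⊔ E) (hy2 : y * y = 1) : y ∈ D ∨ y ∈ E := by
  obtain ⟨F, iF, iT, hF, ⟨N⟩⟩ := h.natD
  exact mem_of_sq_eq_one h.pair N hy hy2

theorem not_commute {d e : G} (hd : d ∈ D) (hdE : d ∉ E) (he : e ∈ E) (heD : e ∉ D) :
    ¬ Commute e d := by
  intro hc
  obtain ⟨F, iF, iT, hF, ⟨N⟩⟩ := h.natD
  have hdo : d ∈ omega D := by rw [h.pair.omega_D]; exact hd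
  refine hdE ?_
  rw [← h.pair.symm.centralizer_D]
  refine (mem_fix_img (v := ⟨d, hdo⟩) h.pair.leD).1 ?_
  rw [← N.fix_eq _ (toOut_mem_img (g := ⟨e, h.pair.leD he⟩) he)
    (fun e' => heD (toOut_eq_one.1 e')), mem_fix_zpowers, act_eq_iff]
  exact hc

theorem cnj_cases {g : G} (hg : g ∈ normalizer ((D ⊔ E : Subgroup G) : Set G)) :
    (cnj g D = D ∧ cnj g E = E) ∨ (cnj g D = E ∧ cnj g E = D) := by
  have hY : cnj g (D ⊔ E) = D ⊔ E := cnj_eq_iff.2 hg
  have key : ∀ W ≤ D ⊔ E, (∀ x ∈ W, x * x = 1) → Nat.card W = 16 →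
      cnj g W = D ∨ cnj g W = E := fun W hW hW2 hWc =>
    h.eq_or_eq ((cnj_le_cnj_iff.2 hW).trans hY.le) (cnj_sq g hW2) (by rw [card_cnj, hWc])
  rcases key D le_sup_left h.pair.sqD h.cardD with h1 | h1 <;>
    rcases key E le_sup_right h.pair.sqE h.cardE with h2 | h2
  · exact absurd (cnj_injective g (h1.trans h2.symm)) h.pair.ne
  · exact Or.inl ⟨h1, h2⟩
  · exact Or.inr ⟨h1, h2⟩
  · exact absurd (cnj_injective g (h1.trans h2.symm)) h.pair.ne

theorem isConj_inf {v z : G} (hv : v ∈ D) (hv1 : v ≠ 1) (hz : z ∈ D ⊓ E) (hz1 : z ≠ 1) :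
    IsConj v z := by
  obtain ⟨F, iF, iT, hF, ⟨N⟩⟩ := h.natD
  have hfix : ∀ x : ↥(omega D), x ∈ fix (act D) (img D E) ↔ (x : G) ∈ E := fun x => by
    rw [mem_fix_img h.pair.leD, h.pair.symm.centralizer_D]
  haveI := h.pair.essD.omega_nontrivial
  obtain ⟨x, hx⟩ := Natural.exists_conj_mem N h.pair.essD.pCore_out (act_fpf h.cit D) omega_sq
    (⟨v, by rw [h.pair.omega_D]; exact hv⟩ : ↥(omega D))
  have hzf : (⟨z, by rw [h.pair.omega_D]; exact hz.1⟩ : ↥(omega D)) ∈ fix (act D) (img D E) :=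
    (hfix _).2 hz.2
  obtain ⟨a, ha⟩ := N.exists_h_eq (act_fpf h.cit D) hx hzf
    (fun e => hv1 (congrArg Subtype.val ((act D x).injective (e.trans (map_one _).symm))))
    (fun e => hz1 (congrArg Subtype.val e))
  rw [← MulAut.mul_apply, ← map_mul] at ha
  obtain ⟨g, hg⟩ := toOut_surjective D (N.h a * x)
  rw [← hg] at ha
  exact isConj_iff.2 ⟨g, congrArg Subtype.val ha⟩

/-- All involutions of `D ⊔ E` are conjugate to the given element of `D ⊓ E`. -/
theorem isConj_sup {y z : G} (hy : y ∈ D ⊔ E) (hy2 : y * y = 1) (hy1 : y ≠ 1)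
    (hz : z ∈ D ⊓ E) (hz1 : z ≠ 1) : IsConj y z := by
  rcases h.mem_or_mem hy hy2 with h1 | h1
  · exact h.isConj_inf h1 hy1 hz hz1
  · exact h.symm.isConj_inf h1 hy1 (by rwa [inf_comm]) hz1

/-- A torus element and an involution of `N(D)` inverting it. -/
theorem exists_torus :
    ∃ t w : G, t ∈ normalizer (D : Set G) ∧ t ∈ normalizer (E : Set G) ∧ orderOf t = 3 ∧
      w ∈ normalizer (D : Set G) ∧ w ∉ D ∧ orderOf w = 2 ∧ w * t * w⁻¹ = t⁻¹ := by
  obtain ⟨F, iF, iT, hF, ⟨N⟩⟩ := h.natD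
  haveI : Fact (Nat.Prime 3) := ⟨Nat.prime_three⟩
  obtain ⟨a, ha⟩ := Natural.exists_ne_one hF
  obtain ⟨t, ht, hto⟩ := exists_odd_lift (N.h_odd a)
  have htE : (t : G) ∈ normalizer (E : Set G) := mem_normalizer_right h.pair N t.2 fun x hx => by
    obtain ⟨s, rfl⟩ := (N.mem x).1 hx
    show toOut D t * N.u s * (toOut D t)⁻¹ ∈ _
    rw [ht, Natural.h_u, mul_inv_cancel_right]
    exact N.u_mem _
  have ht1 : (t : G) ≠ 1 := fun e => N.h_ne_one ha (by
    rw [← ht]; exact toOut_eq_one.2 (by rw [e]; exact one_mem D))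
  have ht3 : orderOf (t : G) = 3 := by
    refine orderOf_eq_prime ?_ ht1
    exact eq_one_of_odd_mem h.two_D (toOut_eq_one.1
      (show toOut D (t ^ 3) = 1 by rw [map_pow, ht, N.h_cube hF]))
      (hto.of_dvd_nat (orderOf_pow_dvd 3))
  obtain ⟨g, hg⟩ := toOut_surjective D N.w
  -- `g t g⁻¹ t` lies in `D`
  have hd' : (g : G) * t * (g : G)⁻¹ * t ∈ D := toOut_eq_one.1 (show toOut D (g * t * g⁻¹ * t) = 1 by
    rw [map_mul, map_mul, map_mul, map_inv, hg, ht, N.w_h, mul_inv_cancel_right, N.h_mul,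
      inv_mul_cancel, N.h_one])
  -- every element of `D` is a commutator with `t⁻¹`
  let f : D → D := fun d => ⟨(d : G) * ((t : G)⁻¹ * (d : G) * t), D.mul_mem d.2 (by
    have h1 := (mem_normalizer_iff.1 (inv_mem t.2) (d : G)).1 d.2
    rwa [inv_inv] at h1)⟩
  have hf : Function.Injective f := fun c d e => by
    have e1 : (c : G) * ((t : G)⁻¹ * c * t) = d * ((t : G)⁻¹ * d * t) := congrArg Subtype.val e
    have hcd : (c : G) * d ∈ D := D.mul_mem c.2 d.2
    have e2 : (c : G) * d * ((t : G)⁻¹ * (c * d) * t) = 1 := by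
      have hc' : (t : G)⁻¹ * c * t ∈ D := by
        have h1 := (mem_normalizer_iff.1 (inv_mem t.2) (c : G)).1 c.2
        rwa [inv_inv] at h1
      calc (c : G) * d * ((t : G)⁻¹ * (c * d) * t)
          = c * (d * ((t : G)⁻¹ * c * t)) * ((t : G)⁻¹ * d * t) := by group
        _ = c * (((t : G)⁻¹ * c * t) * d) * ((t : G)⁻¹ * d * t) := by
          rw [(h.pair.comm_D d.2 hc').eq]
        _ = (c * ((t : G)⁻¹ * c * t)) * (d * ((t : G)⁻¹ * d * t)) := by group
        _ = 1 := by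
          rw [e1]
          exact h.pair.sqD _ (f d).2
    have e3 : Commute (t : G) ((c : G) * d) := by
      have e4 : (t : G)⁻¹ * (c * d) * t = c * d := by
        rw [← mul_left_cancel_iff (a := (c : G) * d), e2, h.pair.sqD _ hcd]
      show (t : G) * (c * d) = c * d * t
      conv_lhs => rw [← e4]
      group
    by_contra hne
    refine ht1 (h.cit.eq_one_of_commute (orderOf_of_mul_self (h.pair.sqD _ hcd) ?_) hto e3)
    intro e4
    exact hne (Subtype.ext ((eq_inv_of_mul_eq_one_left e4).trans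
      (inv_eq_of_mul_eq_one_right (h.pair.sqD _ d.2))))
  obtain ⟨⟨d, hd⟩, hdd⟩ := (Finite.injective_iff_surjective.1 hf) ⟨_, hd'⟩
  have hdd' : d * ((t : G)⁻¹ * d * t) = (g : G) * t * (g : G)⁻¹ * t := congrArg Subtype.val hdd
  set w : G := d * (g : G) with hw
  have hwN : w ∈ normalizer (D : Set G) := mul_mem (le_normalizer hd) g.2
  have hd2 : d⁻¹ = d := inv_eq_of_mul_eq_one_right (h.pair.sqD d hd)
  have hwt : w * t * w⁻¹ = (t : G)⁻¹ := by
    have e1 : (g : G) * t * (g : G)⁻¹ = d * (t : G)⁻¹ * d := by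
      rw [← mul_left_inj ((t : G)), ← hdd']
      group
    calc w * t * w⁻¹ = d * ((g : G) * t * (g : G)⁻¹) * d⁻¹ := by rw [hw]; group
      _ = d * d * (t : G)⁻¹ * (d * d) := by rw [e1, hd2]; group
      _ = (t : G)⁻¹ := by rw [h.pair.sqD d hd, one_mul, mul_one]
  have hwout : toOut D ⟨w, hwN⟩ = N.w := by
    rw [show (⟨w, hwN⟩ : ↥(normalizer (D : Set G))) = ⟨d, le_normalizer hd⟩ * g from rfl, map_mul,
      toOut_eq_one.2 (show ((⟨d, le_normalizer hd⟩ : ↥(normalizer (D : Set G))) : G) ∈ D from hd),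
      one_mul, hg]
  have hwD : w ∉ D := fun e => by
    have h1 : toOut D ⟨w, hwN⟩ = 1 := toOut_eq_one.2 e
    have h2 := N.w_h a
    rw [← hwout, h1, one_mul, mul_one] at h2
    have h3 : a = a⁻¹ := dg_injective (N.bij.1 h2)
    exact Natural.mul_self_ne_one hF ha (eq_inv_iff_mul_eq_one.1 h3)
  have hww : w * w ∈ D := toOut_eq_one.1
    (show toOut D (⟨w, hwN⟩ * ⟨w, hwN⟩) = 1 by rw [map_mul, hwout, N.w_mul_w])
  have hw2 : w * w = 1 := by
    by_contra hne
    refine ht1 (h.cit.eq_one_of_commute (orderOf_of_mul_self (h.pair.sqD _ hww) hne) hto ?_)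
    have h1 : w * (w * t * w⁻¹) * w⁻¹ = (t : G) := by
      rw [hwt, show w * (t : G)⁻¹ * w⁻¹ = (w * t * w⁻¹)⁻¹ by group, hwt, inv_inv]
    show (t : G) * (w * w) = w * w * t
    conv_lhs => rw [← h1]
    group
  exact ⟨t, w, t.2, htE, ht3, hwN, hwD,
    orderOf_of_mul_self hw2 (fun e => hwD (e ▸ one_mem D)), hwt⟩

/-- An element swapping `D` and `E` does not lie in `D ⊔ E`. -/
theorem not_mem_of_swap {g : G} (hg : cnj g D = E) : g ∉ D ⊔ E := fun hgY =>
  h.pair.ne ((cnj_eq_iff.2 (h.sup_le_D hgY)).symm.trans hg)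

/-- `D ⊔ E` is a Sylow `2`-subgroup. -/
theorem eq_sup_of_two_group {R : Subgroup G} (hR : IsPGroup 2 R) (hYR : D ⊔ E ≤ R) :
    R = D ⊔ E := by
  haveI : Fact (Nat.Prime 2) := ⟨Nat.prime_two⟩
  haveI : Fact (Nat.Prime 3) := ⟨Nat.prime_three⟩
  by_contra hne
  obtain ⟨x, hxR, hxN, hxY⟩ := exists_mem_normalizer_not_mem hR hYR (Ne.symm hne)
  rcases h.cnj_cases hxN with ⟨hxD, -⟩ | ⟨hxD, hxE⟩
  · exact hxY ((h.eq_sup_of_le (hR.to_le inf_le_left) (le_inf hYR h.sup_le_D) inf_le_right).le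
      ⟨hxR, cnj_eq_iff.1 hxD⟩)
  obtain ⟨t, w, htD, htE, ht3, hwD, hwnD, hw2, hwt⟩ := h.exists_torus
  have hto : Odd (orderOf t) := by rw [ht3]; decide
  have ht1 : t ≠ 1 := fun e => by rw [e, orderOf_one] at ht3; norm_num at ht3
  -- conjugate `x` into the normaliser of `⟨t⟩`
  have hxt : x * t * x⁻¹ ∈ normalizer (D : Set G) ⊓ normalizer (E : Set G) := by
    constructor
    · show x * t * x⁻¹ ∈ normalizer (D : Set G)
      rw [← hxE, mem_normalizer_cnj]
      simpa [mul_assoc] using htE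
    · show x * t * x⁻¹ ∈ normalizer (E : Set G)
      rw [← hxD, mem_normalizer_cnj]
      simpa [mul_assoc] using htD
  obtain ⟨m, hm, hmle⟩ := exists_cnj_le (p := 3) (Subgroup.zpowers_le.2 (⟨htD, htE⟩ :
      t ∈ normalizer (D : Set G) ⊓ normalizer (E : Set G))) (Subgroup.zpowers_le.2 hxt)
    (IsPGroup.of_card (n := 1) (by
      rw [Nat.card_zpowers, pow_one, ← ht3]; exact orderOf_injective (MulAut.conj x).toMonoidHom (MulAut.conj x).injective t))
    (a := 1) (b := 64) (by rw [Nat.card_zpowers, ht3, pow_one])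
    (by rw [h.card_normalizer_inf]; norm_num) (by norm_num)
  set x1 : G := m⁻¹ * x with hx1
  clear_value x1
  have h1D : cnj x1 D = E := by rw [hx1, cnj_mul, hxD, cnj_eq_iff]; exact inv_mem hm.2
  have h1E : cnj x1 E = D := by rw [hx1, cnj_mul, hxE, cnj_eq_iff]; exact inv_mem hm.1
  have h1t : x1 ∈ normalizer (zpowers t : Set G) := mem_normalizer_of_forall fun y hy => by
    obtain ⟨j, rfl⟩ := mem_zpowers_iff.1 hy
    rw [← conj_zpow]
    refine zpow_mem (K := zpowers t) ?_ j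
    have h2 := mem_cnj.1 (hmle (mem_zpowers (x * t * x⁻¹)))
    rw [hx1]
    simpa [mul_assoc] using h2
  -- its `2`-part
  obtain ⟨k, o, ho, hko⟩ := Nat.exists_eq_two_pow_mul_odd (orderOf_pos x1).ne'
  set s : G := x1 ^ o with hs
  clear_value s
  have hsk : orderOf s = 2 ^ k := by
    rw [hs, orderOf_pow' x1 (by rintro rfl; exact absurd ho (by decide)), hko,
      Nat.gcd_mul_left_left, Nat.mul_div_cancel _ (by exact ho.pos)]
  obtain ⟨hsD, hsE⟩ : cnj s D = E ∧ cnj s E = D := by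
    obtain ⟨j, hj⟩ := ho
    have hsq : x1 * x1 ∈ normalizer (D : Set G) ⊓ normalizer (E : Set G) :=
      ⟨cnj_eq_iff.1 (by rw [cnj_mul, h1D, h1E]), cnj_eq_iff.1 (by rw [cnj_mul, h1E, h1D])⟩
    have h2 := pow_mem hsq j
    rw [hs, hj, show x1 ^ (2 * j + 1) = x1 * (x1 * x1) ^ j by rw [pow_succ', pow_mul, pow_two],
      cnj_mul, cnj_mul, cnj_eq_iff.2 h2.1, cnj_eq_iff.2 h2.2]
    exact ⟨h1D, h1E⟩
  have hs1 : s ≠ 1 := fun e => h.pair.ne (by rw [← hsD, e, cnj_one])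
  have hst : s * t * s⁻¹ = t⁻¹ := by
    have h2 : s * t * s⁻¹ ∈ zpowers t :=
      (mem_normalizer_iff.1 (show s ∈ normalizer (zpowers t : Set G) from hs ▸ pow_mem h1t o) t).1
        (mem_zpowers t)
    obtain ⟨j, hj, hj'⟩ : ∃ j < 3, t ^ j = s * t * s⁻¹ := by
      classical
      rw [mem_zpowers_iff_mem_range_orderOf, ht3] at h2
      simpa using h2
    interval_cases j
    · exact absurd (conj_eq_one_iff.1 (hj'.symm.trans (pow_zero t))) ht1
    · refine absurd (h.cit.eq_one_of_commute' hs1 hsk hto ?_) ht1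
      rw [pow_one] at hj'
      exact (mul_inv_eq_iff_eq_mul.1 hj'.symm).symm
    · rw [← hj']
      refine eq_inv_of_mul_eq_one_left ?_
      rw [← pow_succ, show 2 + 1 = orderOf t by rw [ht3], pow_orderOf_eq_one]
  have hss : s * s = 1 := by
    by_contra hne'
    obtain ⟨l, -, hl⟩ := (Nat.dvd_prime_pow Nat.prime_two).1
      (hsk ▸ orderOf_dvd_of_mem_zpowers (mul_mem (mem_zpowers s) (mem_zpowers s)))
    refine ht1 (h.cit.eq_one_of_commute' hne' hl hto ?_)
    have h2 : s * (s * t * s⁻¹) * s⁻¹ = t := by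
      rw [hst, show s * t⁻¹ * s⁻¹ = (s * t * s⁻¹)⁻¹ by group, hst, inv_inv]
    show t * (s * s) = s * s * t
    conv_lhs => rw [← h2]
    group
  have hsi : s⁻¹ = s := inv_eq_of_mul_eq_one_right hss
  have hso : orderOf s = 2 := orderOf_of_mul_self hss hs1
  have hsY : s ∈ normalizer ((D ⊔ E : Subgroup G) : Set G) :=
    cnj_eq_iff.1 (by rw [cnj_sup, hsD, hsE, sup_comm])
  have hsZ : ∀ v ∈ D ⊓ E, s * v * s⁻¹ ∈ D ⊓ E := fun v hv =>
    ⟨hsE.le (conj_mem_cnj hv.2), hsD.le (conj_mem_cnj hv.1)⟩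
  -- `s` is not trivial on `D ⊓ E`
  obtain ⟨ζ, hζ, hζs⟩ : ∃ ζ ∈ D ⊓ E, s * ζ * s⁻¹ ≠ ζ := by
    by_contra hall
    push Not at hall
    haveI : Nontrivial ↥(D ⊓ E) := Finite.one_lt_card_iff_nontrivial.1 (by rw [h.card_inf]; norm_num)
    obtain ⟨⟨v, hv⟩, hv1⟩ := exists_ne (1 : ↥(D ⊓ E))
    have hv2 : t * v * t⁻¹ ∈ D ⊓ E :=
      ⟨(mem_normalizer_iff.1 htD _).1 hv.1, (mem_normalizer_iff.1 htE _).1 hv.2⟩
    have h2 : t * v * t⁻¹ = t⁻¹ * v * t := by
      calc t * v * t⁻¹ = s * (t * v * t⁻¹) * s⁻¹ := (hall _ hv2).symm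
        _ = (s * t * s⁻¹) * (s * v * s⁻¹) * (s * t * s⁻¹)⁻¹ := by group
        _ = t⁻¹ * v * t := by rw [hst, hall v hv, inv_inv]
    have h3 : Commute (t * t) v := by
      show t * t * v = v * (t * t)
      calc t * t * v = t * (t * v * t⁻¹) * t := by group
        _ = t * (t⁻¹ * v * t) * t := by rw [h2]
        _ = v * (t * t) := by group
    refine ht1 ?_
    have h4 := h.cit.eq_one_of_commute (orderOf_of_mul_self (h.pair.sqD v hv.1)
      fun e => hv1 (Subtype.ext e)) (by rw [← pow_two]; exact hto.of_dvd_nat (orderOf_pow_dvd 2)) h3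
    exact eq_one_of_odd_two_pow hto (k := 1)
      (by rw [pow_one]; exact orderOf_eq_prime (by rw [pow_two]; exact h4) ht1)
  have hζ2 : ζ * ζ = 1 := h.pair.sqD ζ hζ.1
  -- a commutator of `D` and `E` fixed by `s`
  obtain ⟨d, hd, hdE⟩ : ∃ d ∈ D, d ∉ E := SetLike.not_le_iff_exists.1 h.pair.symm.not_le
  have hd' : s * d * s⁻¹ ∈ E := hsD.le (conj_mem_cnj hd)
  set d' : G := s * d * s⁻¹ with hd'def
  have hd'D : d' ∉ D := fun e => hdE (by
    rw [← hsE, mem_cnj] at e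
    simpa [hd'def, mul_assoc] using e)
  have hd2 : d * d = 1 := h.pair.sqD d hd
  have hd'2 : d' * d' = 1 := h.pair.sqE d' hd'
  have hdi : d⁻¹ = d := inv_eq_of_mul_eq_one_right hd2
  have hd'i : d'⁻¹ = d' := inv_eq_of_mul_eq_one_right hd'2
  set c : G := d * d' * (d * d') with hc
  have hcD : c ∈ D := by
    rw [show c = d * (d' * d * d'⁻¹) by rw [hd'i, hc]; group]
    exact D.mul_mem hd ((mem_normalizer_iff.1 (h.pair.leD hd') _).1 hd)
  have hcE : c ∈ E := by
    rw [show c = d * d' * d⁻¹ * d' by rw [hdi, hc]; group]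
    exact E.mul_mem ((mem_normalizer_iff.1 (h.pair.leE hd) _).1 hd') hd'
  have hc1 : c ≠ 1 := fun e => h.not_commute hd hdE hd' hd'D (by
    show d' * d = d * d'
    have h2 : (d * d')⁻¹ = d * d' := inv_eq_of_mul_eq_one_right e
    rw [mul_inv_rev, hdi, hd'i] at h2
    exact h2)
  have hc2 : c * c = 1 := h.pair.sqD c hcD
  have hsd' : s * d' * s⁻¹ = d := by
    rw [hd'def, show s * (s * d * s⁻¹) * s⁻¹ = (s * s) * d * (s * s)⁻¹ by group, hss]
    group
  have hd'd : d' * d = c * (d * d') := by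
    calc d' * d = (d * d')⁻¹ := by rw [mul_inv_rev, hd'i, hdi]
      _ = c⁻¹ * (d * d') := by rw [hc]; group
      _ = c * (d * d') := by rw [inv_eq_of_mul_eq_one_right hc2]
  have hcs : s * c * s⁻¹ = c := by
    calc s * c * s⁻¹ = (s * d * s⁻¹) * (s * d' * s⁻¹) * ((s * d * s⁻¹) * (s * d' * s⁻¹)) := by
          rw [hc]; group
      _ = d' * d * (d' * d) := by rw [hsd']
      _ = c⁻¹ := by rw [hc, mul_inv_rev, mul_inv_rev, hdi, hd'i]
      _ = c := inv_eq_of_mul_eq_one_right hc2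
  -- `s` fixes only `c` in `(D ⊓ E) ∖ 1`
  have hζc : s * ζ * s⁻¹ = ζ * c := by
    set K := (D ⊓ E) ⊓ centralizer ({s} : Set G) with hK
    have hKlt : K ≠ D ⊓ E := fun e => hζs (by
      have h2 : ζ ∈ centralizer ({s} : Set G) := (e.symm.le hζ).2
      rw [← mem_centralizer_singleton_iff.1 h2, mul_inv_cancel_right])
    have hKdvd : Nat.card K ∣ 2 ^ 2 := by
      have h2 := Subgroup.card_dvd_of_le (inf_le_left : K ≤ D ⊓ E)
      rwa [h.card_inf] at h2
    obtain ⟨j, hj, hjK⟩ := (Nat.dvd_prime_pow Nat.prime_two).1 hKdvd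
    have hfix : ∀ {v : G}, v ∈ D ⊓ E → s * v * s⁻¹ = v → v ∈ K := fun hv hsv =>
      ⟨hv, mem_centralizer_singleton_iff.2 (mul_inv_eq_iff_eq_mul.1 hsv).symm⟩
    have hce : c ∈ K := hfix ⟨hcD, hcE⟩ hcs
    set e : G := ζ * (s * ζ * s⁻¹) with he
    have hee : e ∈ K := hfix (mul_mem hζ (hsZ ζ hζ)) (by
      calc s * e * s⁻¹ = (s * ζ * s⁻¹) * ((s * s) * ζ * (s * s)⁻¹) := by rw [he]; group
        _ = e := by
          rw [hss, inv_one, one_mul, mul_one, he]
          exact (h.pair.comm_D (hsZ ζ hζ).1 hζ.1).eq)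
    have he1 : e ≠ 1 := fun e1 => hζs (by
      rw [he] at e1
      rw [← inv_eq_of_mul_eq_one_right e1, inv_eq_of_mul_eq_one_right hζ2])
    have hK2 : Nat.card K = 2 := by
      interval_cases j
      · rw [pow_zero] at hjK
        rw [Subgroup.eq_bot_of_card_eq K hjK, mem_bot] at hce
        exact absurd hce hc1
      · exact hjK
      · exact absurd (Subgroup.eq_of_le_of_card_ge inf_le_left (by rw [hjK, h.card_inf]; norm_num))
          hKlt
    obtain ⟨y, -, hy⟩ := (Nat.card_eq_two_iff' (1 : K)).1 hK2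
    have h2 : (⟨e, hee⟩ : K) = ⟨c, hce⟩ := (hy _ fun e' => he1 (congrArg Subtype.val e')).trans
      (hy _ fun e' => hc1 (congrArg Subtype.val e')).symm
    have h3 : e = c := congrArg Subtype.val h2
    calc s * ζ * s⁻¹ = ζ * ζ * (s * ζ * s⁻¹) := by rw [hζ2, one_mul]
      _ = ζ * c := by rw [mul_assoc, ← he, h3]
  -- a square root of `c` centralised by `s`
  set y : G := d * d' * ζ with hy
  have hdd' : d * d' ∈ D ⊔ E := mul_mem (mem_sup_left hd) (mem_sup_right hd')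
  have hys : Commute y s := by
    have h2 : s * y * s⁻¹ = y := by
      calc s * y * s⁻¹ = (s * d * s⁻¹) * (s * d' * s⁻¹) * (s * ζ * s⁻¹) := by rw [hy]; group
        _ = d' * d * (ζ * c) := by rw [hsd', hζc]
        _ = c * ((d * d') * ζ * c) := by rw [hd'd]; group
        _ = c * (c * ((d * d') * ζ)) := by
          rw [(h.comm_inf ⟨hcD, hcE⟩ (mul_mem hdd' (mem_sup_left hζ.1))).eq]
        _ = y := by rw [← mul_assoc, hc2, one_mul]
    exact ((mul_inv_eq_iff_eq_mul.1 h2).symm : y * s = s * y)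
  have hyy : y * y = c := by
    calc y * y = d * d' * (ζ * (d * d')) * ζ := by rw [hy]; group
      _ = d * d' * ((d * d') * ζ) * ζ := by rw [(h.comm_inf hζ hdd').eq]
      _ = c * (ζ * ζ) := by rw [hc]; group
      _ = c := by rw [hζ2, mul_one]
  -- `s` is conjugate to `c`
  have hsw : Odd (orderOf (s * w)) := by
    by_contra hev
    rw [Nat.not_odd_iff_even] at hev
    have h2 := Involution.orderOf_pow_half hev (orderOf_pos _).ne'
    refine ht1 (h.cit.eq_one_of_commute h2 hto (Commute.pow_right ?_ _))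
    have h3 : (s * w) * t * (s * w)⁻¹ = t := by
      calc (s * w) * t * (s * w)⁻¹ = s * (w * t * w⁻¹) * s⁻¹ := by group
        _ = (s * t * s⁻¹)⁻¹ := by rw [hwt]; group
        _ = t := by rw [hst, inv_inv]
    exact ((mul_inv_eq_iff_eq_mul.1 h3).symm : t * (s * w) = s * w * t)
  obtain ⟨g, hg⟩ : ∃ g : G, g * c * g⁻¹ = s := by
    obtain ⟨m', hm'N, hm'⟩ := h.exists_le_cnj (P := zpowers w)
      (IsPGroup.of_card (n := 1) (by rw [Nat.card_zpowers, hw2, pow_one]))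
      (Subgroup.zpowers_le.2 hwD)
    have h2 := mem_cnj.1 (hm' (mem_zpowers w))
    have h3 : IsConj (m'⁻¹ * w * m') c := h.isConj_sup h2
      (by rw [show m'⁻¹ * w * m' * (m'⁻¹ * w * m') = m'⁻¹ * (w * w) * m' by group,
        mul_self_of hw2, mul_one, inv_mul_cancel])
      (fun e => hwnD (by
        rw [conj_eq_one_iff.1 (show m'⁻¹ * w * m'⁻¹⁻¹ = 1 by rwa [inv_inv])]
        exact one_mem D))
      ⟨hcD, hcE⟩ hc1
    have h4 : IsConj w (m'⁻¹ * w * m') := isConj_iff.2 ⟨m'⁻¹, by rw [inv_inv]⟩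
    exact isConj_iff.1 ((Involution.isConj_of_odd hso hw2 hsw).trans (h4.trans h3)).symm
  -- the centraliser of `c`
  set T := centralizer ({c} : Set G) with hT
  have hT2 : IsPGroup 2 T := h.cit c (orderOf_of_mul_self hc2 hc1)
  have hYT : D ⊔ E ≤ T := fun v hv => mem_centralizer_singleton_iff.2 (h.comm_inf ⟨hcD, hcE⟩ hv).eq
  have hsT : s ∈ T := mem_centralizer_singleton_iff.2 (mul_inv_eq_iff_eq_mul.1 hcs)
  have hT1 : ∀ v ∈ T ⊓ normalizer ((D ⊔ E : Subgroup G) : Set G), v ∈ D ⊔ E ∨ v * s ∈ D ⊔ E := by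
    intro v hv
    have hTD := h.eq_sup_of_le (hT2.to_le inf_le_left) (le_inf hYT h.sup_le_D) inf_le_right
    rcases h.cnj_cases hv.2 with ⟨h2, -⟩ | ⟨-, h2⟩
    · exact Or.inl (hTD.le ⟨hv.1, cnj_eq_iff.1 h2⟩)
    · exact Or.inr (hTD.le ⟨T.mul_mem hv.1 hsT, cnj_eq_iff.1 (by rw [cnj_mul, hsD, h2])⟩)
  have hW : ∀ W : Subgroup G, (∀ v ∈ W, v * v = 1) → Nat.card W = 16 →
      (∀ v ∈ W, v ∈ D ⊔ E ∨ v * s ∈ D ⊔ E) → W = D ∨ W = E := by
    intro W hW2 hWc hWT
    refine h.eq_or_eq (fun a ha => ?_) hW2 hWc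
    by_contra haY
    have has := (hWT a ha).resolve_left haY
    have haD : cnj a D = E := by
      rw [show a = (a * s) * s by rw [mul_assoc, hss, mul_one], cnj_mul, hsD, cnj_eq_iff]
      exact h.sup_le_E has
    have haE : cnj a E = D := by
      rw [show a = (a * s) * s by rw [mul_assoc, hss, mul_one], cnj_mul, hsE, cnj_eq_iff]
      exact h.sup_le_D has
    set W0 := W ⊓ (D ⊔ E) with hW0
    have h8 : Nat.card W ≤ Nat.card W0 * 2 := by
      classical
      have hsub : ∀ v : W, (v : G) ∉ D ⊔ E → (v : G) * a⁻¹ ∈ W0 := fun v hv =>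
        ⟨W.mul_mem v.2 (W.inv_mem ha), by
          show (v : G) * a⁻¹ ∈ D ⊔ E
          rw [show (v : G) * a⁻¹ = (v * s) * (a * s)⁻¹ by group]
          exact mul_mem ((hWT v v.2).resolve_left hv) (inv_mem has)⟩
      let f : W → W0 × Bool := fun v =>
        if hv : (v : G) ∈ D ⊔ E then (⟨v, v.2, hv⟩, true) else (⟨_, hsub v hv⟩, false)
      have hf : Function.Injective f := fun p q e => by
        have e1 := congrArg (fun r : W0 × Bool => (r.1 : G)) e
        have e2 := congrArg (fun r : W0 × Bool => r.2) e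
        simp only [f] at e1 e2
        split_ifs at e1 e2
        · exact Subtype.ext e1
        · exact Subtype.ext (mul_right_cancel e1)
      refine (Nat.card_le_card_of_injective f hf).trans ?_
      rw [Nat.card_prod, Nat.card_eq_fintype_card (α := Bool), Fintype.card_bool]
    have hfixed : ∀ v ∈ W0, a * v * a⁻¹ = v := fun v hv => by
      rw [(mulComm_of_sq hW2 ha hv.1).eq, mul_inv_cancel_right]
    have hle : W0 ≤ D ⊓ E := by
      rcases h.le_or_le (inf_le_right : W0 ≤ D ⊔ E) (fun v hv => hW2 v hv.1) with h2 | h2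
      · exact fun v hv => ⟨h2 hv, hfixed v hv ▸ haD.le (conj_mem_cnj (h2 hv))⟩
      · exact fun v hv => ⟨hfixed v hv ▸ haE.le (conj_mem_cnj (h2 hv)), h2 hv⟩
    have h9 := Subgroup.card_le_of_le hle
    rw [h.card_inf] at h9
    omega
  have hTall : ∀ v ∈ T, v ∈ D ⊔ E ∨ v * s ∈ D ⊔ E := by
    intro v hv
    refine hT1 v ?_
    by_contra hv'
    obtain ⟨v', hv'T, hv'N, hv'1⟩ := exists_mem_normalizer_not_mem (Q := T ⊓ normalizer
      ((D ⊔ E : Subgroup G) : Set G)) hT2 inf_le_left (fun e => hv' (e.symm.le hv))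
    refine hv'1 ⟨hv'T, cnj_eq_iff.1 ?_⟩
    have key : ∀ W ≤ D ⊔ E, (∀ x ∈ W, x * x = 1) → Nat.card W = 16 → cnj v' W ≤ D ⊔ E := by
      intro W hWY hW2 hWc
      have h2 : ∀ x ∈ cnj v' W, x ∈ D ⊔ E ∨ x * s ∈ D ⊔ E := fun x hx => hT1 x (by
        rw [← cnj_eq_iff.2 hv'N]
        exact cnj_le_cnj_iff.2 (le_inf (hWY.trans hYT) (hWY.trans le_normalizer)) hx)
      rcases hW _ (cnj_sq v' hW2) (by rw [card_cnj, hWc]) h2 with e | e <;> rw [e]
      exacts [le_sup_left, le_sup_right]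
    refine Subgroup.eq_of_le_of_card_ge ?_ (card_cnj v' _).ge
    rw [cnj_sup]
    exact sup_le (key D le_sup_left h.pair.sqD h.cardD) (key E le_sup_right h.pair.sqE h.cardE)
  -- the contradiction
  set z' : G := g⁻¹ * c * g with hz'
  have hz'Y : z' ∈ D ⊔ E := by
    have hy' : g⁻¹ * y * g ∈ T := by
      rw [← mem_cnj, hT, cnj_centralizer_singleton, hg, mem_centralizer_singleton_iff]
      exact hys.eq
    rw [hz', ← hyy, show g⁻¹ * (y * y) * g = (g⁻¹ * y * g) * (g⁻¹ * y * g) by group]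
    rcases hTall _ hy' with h2 | h2
    · exact mul_mem h2 h2
    · generalize g⁻¹ * y * g = v at h2
      rw [show v * v = (v * s) * (s⁻¹ * (v * s) * s⁻¹⁻¹) * (s * s)⁻¹ by group, hss, inv_one,
        mul_one]
      exact mul_mem h2 ((mem_normalizer_iff.1 (inv_mem hsY) _).1 h2)
  have hcontra : ∀ W : Subgroup G, (∀ v ∈ W, v * v = 1) → Nat.card W = 16 → z' ∈ W → c ∈ W →
      False := by
    intro W hW2 hWc hz hcW
    have hle : cnj g W ≤ T := by
      rintro _ ⟨v, hv, rfl⟩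
      refine mem_centralizer_singleton_iff.2 ?_
      show g * v * g⁻¹ * c = c * (g * v * g⁻¹)
      calc g * v * g⁻¹ * c = g * (v * z') * g⁻¹ := by rw [hz']; group
        _ = g * (z' * v) * g⁻¹ := by rw [(mulComm_of_sq hW2 hv hz).eq]
        _ = c * (g * v * g⁻¹) := by rw [hz']; group
    have hsW : s ∈ cnj g W := hg ▸ conj_mem_cnj hcW
    rcases hW _ (cnj_sq g hW2) (by rw [card_cnj, hWc]) (fun v hv => hTall v (hle hv)) with e | e
    · exact h.not_mem_of_swap hsD (mem_sup_left (e ▸ hsW))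
    · exact h.not_mem_of_swap hsD (mem_sup_right (e ▸ hsW))
  rcases h.mem_or_mem hz'Y (by
    rw [hz', show g⁻¹ * c * g * (g⁻¹ * c * g) = g⁻¹ * (c * c) * g by group, hc2, mul_one,
      inv_mul_cancel]) with h2 | h2
  · exact hcontra D h.pair.sqD h.cardD h2 hcD
  · exact hcontra E h.pair.sqE h.cardE h2 hcE

/-- The centraliser of an involution of `D ⊓ E`. -/
theorem centralizer_inf {z : G} (hz : z ∈ D ⊓ E) (hz1 : z ≠ 1) :
    centralizer ({z} : Set G) = D ⊔ E :=
  h.eq_sup_of_two_group (h.cit z (orderOf_of_mul_self (h.pair.sqD z hz.1) hz1))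
    fun _ hv => mem_centralizer_singleton_iff.2 (h.comm_inf hz hv).eq

theorem exists_inf_ne_one : ∃ z ∈ D ⊓ E, z ≠ 1 := by
  haveI : Nontrivial ↥(D ⊓ E) := Finite.one_lt_card_iff_nontrivial.1 (by rw [h.card_inf]; norm_num)
  obtain ⟨⟨z, hz⟩, hz1⟩ := exists_ne (1 : ↥(D ⊓ E))
  exact ⟨z, hz, fun e => hz1 (Subtype.ext e)⟩

/-- All involutions are conjugate to one in `D ⊓ E`. -/
theorem isConj_involution {z x : G} (hz : z ∈ D ⊓ E) (hz1 : z ≠ 1) (hx : orderOf x = 2) :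
    IsConj x z := by
  haveI : Fact (Nat.Prime 2) := ⟨Nat.prime_two⟩
  obtain ⟨S, hS⟩ := h.two_sup.exists_le_sylow
  obtain ⟨R, hR⟩ := (IsPGroup.of_card (n := 1) (by rw [Nat.card_zpowers, hx, pow_one]) :
    IsPGroup 2 (zpowers x)).exists_le_sylow
  obtain ⟨m, hm⟩ := MulAction.exists_smul_eq G R S
  have h1 : m * x * m⁻¹ ∈ D ⊔ E := by
    rw [← h.eq_sup_of_two_group S.2 hS, ← hm, Sylow.coe_subgroup_smul]
    exact ⟨x, hR (mem_zpowers x), rfl⟩
  have h2 := h.isConj_sup h1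
    (by rw [show m * x * m⁻¹ * (m * x * m⁻¹) = m * (x * x) * m⁻¹ by group, mul_self_of hx,
      mul_one, mul_inv_cancel])
    (fun e => by rw [conj_eq_one_iff.1 e, orderOf_one] at hx; omega) hz hz1
  exact (isConj_iff.2 ⟨m, rfl⟩).trans h2

/-- `D` and `E` are not conjugate. -/
theorem cnj_ne (g : G) : cnj g D ≠ E := by
  intro hg
  haveI : Fact (Nat.Prime 2) := ⟨Nat.prime_two⟩
  have hle : cnj g (D ⊔ E) ≤ normalizer (E : Set G) := by
    rw [show normalizer (E : Set G) = cnj g (normalizer (D : Set G)) by rw [cnj_normalizer, hg],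
      cnj_le_cnj_iff]
    exact h.sup_le_D
  obtain ⟨m, hm, hmle⟩ := h.symm.exists_le_cnj
    (h.two_sup.map (MulAut.conj g).toMonoidHom) hle
  have heq : cnj g (D ⊔ E) = cnj m (D ⊔ E) := by
    rw [sup_comm E D] at hmle
    exact Subgroup.eq_of_le_of_card_ge hmle (by rw [card_cnj, card_cnj])
  set x : G := m⁻¹ * g with hx
  clear_value x
  have hxY : x ∈ normalizer ((D ⊔ E : Subgroup G) : Set G) :=
    cnj_eq_iff.1 (by rw [hx, cnj_mul, heq, cnj_inv_cnj])
  have hxD : cnj x D = E := by rw [hx, cnj_mul, hg]; exact cnj_eq_iff.2 (inv_mem hm)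
  obtain ⟨k, o, ho, hko⟩ := Nat.exists_eq_two_pow_mul_odd (orderOf_pos x).ne'
  set s : G := x ^ o with hs
  clear_value s
  have hsk : orderOf s = 2 ^ k := by
    rw [hs, orderOf_pow' x (by rintro rfl; exact absurd ho (by decide)), hko,
      Nat.gcd_mul_left_left, Nat.mul_div_cancel _ (by exact ho.pos)]
  have hxE : cnj x E = D := by
    rcases h.cnj_cases hxY with ⟨h1, -⟩ | ⟨-, h1⟩
    · exact absurd (h1.symm.trans hxD) h.pair.ne
    · exact h1
  have hsD : cnj s D = E := by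
    obtain ⟨j, hj⟩ := ho
    have hsq : x * x ∈ normalizer (D : Set G) := cnj_eq_iff.1 (by rw [cnj_mul, hxD, hxE])
    rw [hs, hj, show x ^ (2 * j + 1) = x * (x * x) ^ j by rw [pow_succ', pow_mul, pow_two],
      cnj_mul, cnj_eq_iff.2 (pow_mem hsq j), hxD]
  have hR : IsPGroup 2 ↥((D ⊔ E) ⊔ zpowers s) :=
    h.two_sup.to_sup_of_normal_left' (IsPGroup.of_card (n := k) (by rw [Nat.card_zpowers, hsk]))
      (Subgroup.zpowers_le.2 (hs ▸ pow_mem hxY o))
  exact h.not_mem_of_swap hsD ((h.eq_sup_of_two_group hR le_sup_left).le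
    (mem_sup_right (mem_zpowers s)))

/-- Elementary subgroups of order sixteen in `N(D)`. -/
theorem eq_or_exists {W : Subgroup G} (hW : W ≤ normalizer (D : Set G))
    (hW2 : ∀ x ∈ W, x * x = 1) (hc : Nat.card W = 16) :
    W = D ∨ ∃ m ∈ normalizer (D : Set G), W = cnj m E := by
  obtain ⟨m, hm, hle⟩ := h.exists_le_cnj (IsPGroup.of_card (n := 4) (by rw [hc]; norm_num)) hW
  rcases h.eq_or_eq (cnj_le_iff.2 (by rwa [inv_inv]) : cnj m⁻¹ W ≤ D ⊔ E) (cnj_sq _ hW2)
    (by rw [card_cnj, hc]) with e | e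
  · exact Or.inl (by rw [← cnj_cnj_inv m W, e, cnj_eq_iff]; exact hm)
  · exact Or.inr ⟨m, hm, by rw [← cnj_cnj_inv m W, e]⟩

/-- `D` normalises no other conjugate of itself. -/
theorem mem_of_le_normalizer {g : G} (hg : D ≤ normalizer (cnj g D : Set G)) :
    g ∈ normalizer (D : Set G) := by
  rw [← cnj_normalizer, le_cnj_iff] at hg
  rcases h.eq_or_exists hg (cnj_sq _ h.pair.sqD) (by rw [card_cnj, h.cardD]) with e | ⟨m, -, e⟩
  · exact inv_inv g ▸ inv_mem (cnj_eq_iff.1 e)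
  · exact absurd (show cnj (m⁻¹ * g⁻¹) D = E by rw [cnj_mul, e, cnj_inv_cnj]) (h.cnj_ne _)

end Four

end Cfsg.Agent.CIT
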