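import Cfsg.Agent.CIT.FourBase
import Cfsg.Prelude.Def_Sporadic_a

/-!
# A pair of elementary essential subgroups of order sixteen gives a plane of order four
-/

set_option autoImplicit false
set_option linter.style.haveILetI false

namespace Cfsg.Agent.CIT

open Subgroup

universe u

variable {G : Type u} [Group G]

/-- The points: the cosets of the normaliser of `D`. -/
abbrev Pt (D : Subgroup G) : Type u := G ⧸ normalizer (D : Set G)

/-- The points fixed by every element of `E`. -/
def line (D E : Subgroup G) : Set (Pt D) := {p | ∀ e ∈ E, e • p = p}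

theorem smul_mk_eq_iff {D : Subgroup G} {x g : G} :
    x • (g : Pt D) = (g : Pt D) ↔ g⁻¹ * x * g ∈ normalizer (D : Set G) := by
  rw [MulAction.Quotient.smul_mk, eq_comm, QuotientGroup.eq, smul_eq_mul, ← mul_assoc]

theorem mem_line {D E : Subgroup G} {g : G} :
    (g : Pt D) ∈ line D E ↔ E ≤ cnj g (normalizer (D : Set G)) :=
  ⟨fun h e he => mem_cnj.2 (smul_mk_eq_iff.1 (h e he)),
    fun h e he => smul_mk_eq_iff.2 (mem_cnj.1 (h he))⟩

theorem smul_mem_line_iff {D E : Subgroup G} {x : G} {p : Pt D} :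
    x • p ∈ line D (cnj x E) ↔ p ∈ line D E := by
  constructor
  · intro h e he
    have h1 := h _ (conj_mem_cnj (g := x) he)
    rwa [smul_smul, inv_mul_cancel_right, mul_smul, smul_left_cancel_iff] at h1
  · rintro h _ ⟨e, he, rfl⟩
    show (x * e * x⁻¹) • x • p = x • p
    rw [smul_smul, inv_mul_cancel_right, mul_smul, h e he]

theorem line_cnj {D E : Subgroup G} (x : G) :
    line D (cnj x E) = (fun p => x • p) '' line D E := by
  ext p
  constructor
  · intro h
    refine ⟨x⁻¹ • p, (smul_mem_line_iff (x := x)).1 ?_, smul_inv_smul x p⟩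
    rwa [smul_inv_smul]
  · rintro ⟨q, hq, rfl⟩
    exact smul_mem_line_iff.2 hq

theorem cnj_out {D W : Subgroup G} (m : G) (hW : normalizer (D : Set G) ≤ normalizer (W : Set G)) :
    cnj (Quotient.out (m : Pt D)) W = cnj m W := by
  obtain ⟨k, hk⟩ := QuotientGroup.mk_out_eq_mul (normalizer (D : Set G)) m
  rw [hk, cnj_mul, cnj_eq_iff.2 (hW k.2)]

namespace Four

variable {D E : Subgroup G} (h : Four D E) [Finite G]
include h

theorem mk_mem_line {g : G} :
    (g : Pt D) ∈ line D E ↔ ∃ m ∈ normalizer (E : Set G), (m : Pt D) = g := by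
  constructor
  · intro hg
    rw [mem_line, le_cnj_iff] at hg
    rcases h.eq_or_exists hg (cnj_sq _ h.pair.sqE) (by rw [card_cnj, h.cardE]) with e | ⟨m, hm, e⟩
    · exact absurd (by rw [← e, cnj_cnj_inv]) (h.cnj_ne g)
    · refine ⟨g * m, cnj_eq_iff.1 (by rw [cnj_mul, ← e, cnj_cnj_inv]), ?_⟩
      rw [QuotientGroup.eq, mul_inv_rev, inv_mul_cancel_right]
      exact inv_mem hm
  · rintro ⟨m, hm, hmg⟩
    rw [← hmg, mem_line, le_cnj_iff, cnj_eq_iff.2 (inv_mem hm)]
    exact h.pair.leD

theorem ncard_line : (line D E).ncard = 5 := by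
  haveI : Finite (Pt D) := inferInstance
  set o : Pt D := ((1 : G) : Pt D) with ho
  have horb : line D E = MulAction.orbit (normalizer (E : Set G)) o := by
    ext p
    obtain ⟨g, rfl⟩ := QuotientGroup.mk_surjective p
    rw [h.mk_mem_line]
    constructor
    · rintro ⟨m, hm, hmg⟩
      exact ⟨⟨m, hm⟩, by
        show m • o = _
        rw [ho, MulAction.Quotient.smul_mk, smul_eq_mul, mul_one, hmg]⟩
    · rintro ⟨⟨m, hm⟩, hmg⟩
      refine ⟨m, hm, ?_⟩
      rw [← hmg]
      show _ = m • o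
      rw [ho, MulAction.Quotient.smul_mk, smul_eq_mul, mul_one]
  have hstab : MulAction.stabilizer (normalizer (E : Set G)) o =
      (normalizer (D : Set G) ⊓ normalizer (E : Set G)).subgroupOf (normalizer (E : Set G)) := by
    ext ⟨m, hm⟩
    rw [MulAction.mem_stabilizer_iff, mem_subgroupOf]
    show m • o = o ↔ _
    rw [ho, smul_mk_eq_iff]
    simp [hm]
  have h1 : (MulAction.stabilizer (normalizer (E : Set G)) o).index = 5 := by
    have h2 := (MulAction.stabilizer (normalizer (E : Set G)) o).index_mul_card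
    rw [h.symm.card_normalizer, hstab, Nat.card_congr (subgroupOfEquivOfLe inf_le_right).toEquiv,
      h.card_normalizer_inf] at h2
    rw [hstab]
    omega
  rw [horb, ← MulAction.index_stabilizer, h1]

theorem ncard_line_cnj (a : G) : (line D (cnj a E)).ncard = 5 := by
  rw [line_cnj, Set.ncard_image_of_injective _ (MulAction.injective a), h.ncard_line]

theorem fixed_mem_line {z : G} (hz : z ∈ D ⊓ E) (hz1 : z ≠ 1) {p : Pt D} (hp : z • p = p) :
    p ∈ line D E := by
  obtain ⟨g, rfl⟩ := QuotientGroup.mk_surjective p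
  rw [smul_mk_eq_iff] at hp
  set t : G := g⁻¹ * z * g with ht
  have ht2 : t * t = 1 := by
    rw [ht, show g⁻¹ * z * g * (g⁻¹ * z * g) = g⁻¹ * (z * z) * g by group, h.pair.sqD z hz.1,
      mul_one, inv_mul_cancel]
  have ht1 : t ≠ 1 := fun e => hz1 (conj_eq_one_iff.1
    (show g⁻¹ * z * g⁻¹⁻¹ = 1 by rwa [inv_inv]))
  obtain ⟨m, hm, hle⟩ := h.exists_le_cnj (P := zpowers t)
    (IsPGroup.of_card (n := 1) (by rw [Nat.card_zpowers, orderOf_of_mul_self ht2 ht1, pow_one]))
    (Subgroup.zpowers_le.2 hp)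
  have htY := mem_cnj.1 (hle (mem_zpowers t))
  have key : ∀ W : Subgroup G, W ≤ D ⊔ E → (∀ x ∈ W, x * x = 1) → Nat.card W = 16 →
      m⁻¹ * t * m ∈ W → cnj (g * m) W = D ∨ cnj (g * m) W = E := by
    intro W hW hW2 hWc htW
    refine h.eq_or_eq ?_ (cnj_sq _ hW2) (by rw [card_cnj, hWc])
    rw [← h.centralizer_inf hz hz1,
      show z = g * m * (m⁻¹ * t * m) * (g * m)⁻¹ by rw [ht]; group, ← cnj_centralizer_singleton,
      cnj_le_cnj_iff]
    exact fun x hx => mem_centralizer_singleton_iff.2 (mulComm_of_sq hW2 hx htW).eq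
  rw [h.mk_mem_line]
  rcases h.mem_or_mem htY (by
    rw [show m⁻¹ * t * m * (m⁻¹ * t * m) = m⁻¹ * (t * t) * m by group, ht2, mul_one,
      inv_mul_cancel]) with h1 | h1
  · rcases key D le_sup_left h.pair.sqD h.cardD h1 with e | e
    · refine ⟨1, one_mem _, ?_⟩
      rw [cnj_mul, cnj_eq_iff.2 hm] at e
      rw [QuotientGroup.eq, inv_one, one_mul]
      exact cnj_eq_iff.1 e
    · exact absurd e (h.cnj_ne _)
  · rcases key E le_sup_right h.pair.sqE h.cardE h1 with e | e
    · exact absurd (cnj_eq_inv e) (h.cnj_ne _)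
    · refine ⟨g * m, cnj_eq_iff.1 e, ?_⟩
      rw [QuotientGroup.eq, mul_inv_rev, inv_mul_cancel_right]
      exact inv_mem hm

theorem exists_line_of_involution {t : G} (ht : orderOf t = 2) :
    ∃ a : G, ∀ p : Pt D, t • p = p → p ∈ line D (cnj a E) := by
  obtain ⟨z, hz, hz1⟩ := h.exists_inf_ne_one
  obtain ⟨a, rfl⟩ := isConj_iff.1 (h.isConj_involution hz hz1 ht).symm
  refine ⟨a, fun p hp => ?_⟩
  rw [← smul_inv_smul a p, smul_mem_line_iff]
  refine h.fixed_mem_line hz hz1 ?_
  rwa [mul_smul, mul_smul, smul_eq_iff_eq_inv_smul] at hp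

theorem through_base {a : G} (ha : ((1 : G) : Pt D) ∈ line D (cnj a E)) :
    ∃ m ∈ normalizer (D : Set G), cnj a E = cnj m E := by
  rw [mem_line, cnj_one] at ha
  rcases h.eq_or_exists ha (cnj_sq _ h.pair.sqE) (by rw [card_cnj, h.cardE]) with e | he
  · exact absurd (cnj_eq_inv e) (h.cnj_ne _)
  · exact he

theorem line_unique_base {a b : G} {q : Pt D} (hq : q ≠ ((1 : G) : Pt D))
    (ha : ((1 : G) : Pt D) ∈ line D (cnj a E)) (hqa : q ∈ line D (cnj a E))
    (hb : ((1 : G) : Pt D) ∈ line D (cnj b E)) (hqb : q ∈ line D (cnj b E)) :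
    cnj a E = cnj b E := by
  obtain ⟨m, hm, hma⟩ := h.through_base ha
  obtain ⟨m', hm', hmb⟩ := h.through_base hb
  rw [hma] at hqa ⊢
  rw [hmb] at hqb ⊢
  by_contra hne
  -- the two traces on `D` meet trivially
  have hdisj : Disjoint (cnj m (D ⊓ E)) (cnj m' (D ⊓ E)) := by
    rw [disjoint_def]
    intro v hv hv'
    by_contra hv1
    have hv0 := mem_cnj.1 hv
    have hle : cnj (m⁻¹ * m') E ≤ D ⊔ E := by
      rw [← h.centralizer_inf hv0 (fun e => hv1 (conj_eq_one_iff.1
        (show m⁻¹ * v * m⁻¹⁻¹ = 1 by rwa [inv_inv]))), cnj_mul, cnj_le_iff, inv_inv,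
        cnj_centralizer_singleton, show m * (m⁻¹ * v * m) * m⁻¹ = v by group]
      exact fun x hx => mem_centralizer_singleton_iff.2
        (mulComm_of_sq (cnj_sq m' h.pair.sqE) hx
          (cnj_le_cnj_iff.2 (inf_le_right : D ⊓ E ≤ E) hv')).eq
    rcases h.eq_or_eq hle (cnj_sq _ h.pair.sqE) (by rw [card_cnj, h.cardE]) with e | e
    · exact h.cnj_ne _ (cnj_eq_inv e)
    · refine hne ?_
      rw [cnj_mul] at e
      rw [← cnj_cnj_inv m (cnj m' E), e]
  obtain ⟨g, rfl⟩ := QuotientGroup.mk_surjective q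
  refine hq ((QuotientGroup.eq).2 ?_)
  rw [mul_one]
  refine inv_mem (h.mem_of_le_normalizer ?_)
  rw [← cnj_normalizer]
  have hD : cnj m (D ⊓ E) ⊔ cnj m' (D ⊓ E) = D := by
    refine Subgroup.eq_of_le_of_card_ge (sup_le ?_ ?_) ?_
    · exact (cnj_le_cnj_iff.2 inf_le_left).trans (cnj_eq_iff.2 hm).le
    · exact (cnj_le_cnj_iff.2 inf_le_left).trans (cnj_eq_iff.2 hm').le
    · rw [h.cardD]
      let f : cnj m (D ⊓ E) × cnj m' (D ⊓ E) → ↥(cnj m (D ⊓ E) ⊔ cnj m' (D ⊓ E)) := fun p =>
        ⟨(p.1 : G) * (p.2 : G), Subgroup.mul_mem_sup p.1.2 p.2.2⟩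
      have hf : Function.Injective f := fun p q e =>
        Subgroup.mul_injective_of_disjoint hdisj (congrArg Subtype.val e)
      have h1 := Nat.card_le_card_of_injective f hf
      rw [Nat.card_prod, card_cnj, card_cnj, h.card_inf] at h1
      exact h1
  refine hD.ge.trans ?_
  exact sup_le ((cnj_le_cnj_iff.2 inf_le_right).trans (mem_line.1 hqa))
    ((cnj_le_cnj_iff.2 inf_le_right).trans (mem_line.1 hqb))

theorem line_unique {a b : G} {p q : Pt D} (hpq : p ≠ q)
    (hpa : p ∈ line D (cnj a E)) (hqa : q ∈ line D (cnj a E))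
    (hpb : p ∈ line D (cnj b E)) (hqb : q ∈ line D (cnj b E)) : cnj a E = cnj b E := by
  obtain ⟨g, rfl⟩ := QuotientGroup.mk_surjective p
  have key : ∀ {r : Pt D} {c : G}, r ∈ line D (cnj c E) → g⁻¹ • r ∈ line D (cnj (g⁻¹ * c) E) :=
    fun {r c} hr => by rw [cnj_mul]; exact smul_mem_line_iff.2 hr
  have ho : g⁻¹ • (g : Pt D) = ((1 : G) : Pt D) := by
    rw [MulAction.Quotient.smul_mk, smul_eq_mul, inv_mul_cancel]
  have h1 := h.line_unique_base (a := g⁻¹ * a) (b := g⁻¹ * b) (q := g⁻¹ • q)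
    (fun e => hpq (smul_left_cancel g⁻¹ (ho.trans e.symm)))
    (ho ▸ key hpa) (key hqa) (ho ▸ key hpb) (key hqb)
  rw [cnj_mul, cnj_mul] at h1
  exact cnj_injective _ h1

theorem ncard_moving_le :
    {u : G | orderOf u = 2 ∧ u ∈ normalizer (E : Set G) ∧ u ∉ normalizer (D : Set G)}.ncard
      ≤ 48 := by
  classical
  haveI := Fintype.ofFinite G
  set o : Pt D := ((1 : G) : Pt D) with ho
  let T := ((line D E).toFinset).erase o
  let C : Pt D → Finset G := fun p =>
    Finset.univ.filter fun x => x ∈ cnj (Quotient.out p) D ∧ x ∉ E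
  have hTc : T.card = 4 := by
    rw [Finset.card_erase_of_mem (Set.mem_toFinset.2 (h.mk_mem_line.2 ⟨1, one_mem _, rfl⟩)),
      ← Set.ncard_eq_toFinset_card', h.ncard_line]
  have hC : ∀ p ∈ T, (C p).card ≤ 12 := by
    intro p hp
    obtain ⟨g, rfl⟩ := QuotientGroup.mk_surjective p
    obtain ⟨m, hm, hmg⟩ := h.mk_mem_line.1 (Set.mem_toFinset.1 (Finset.mem_of_mem_erase hp))
    have hW : cnj (Quotient.out (g : Pt D)) D = cnj m D := by rw [← hmg]; exact cnj_out m le_rfl
    have h1 := Set.ncard_inter_add_ncard_sdiff_eq_ncard ((cnj m D : Subgroup G) : Set G) (E : Set G)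
      (Set.toFinite _)
    have h2 : ((cnj m D : Subgroup G) : Set G) ∩ (E : Set G) = ((cnj m (D ⊓ E) : Subgroup G) : Set G) := by
      rw [cnj_inf, cnj_eq_iff.2 hm]; rfl
    rw [h2, ← Nat.card_coe_set_eq, ← Nat.card_coe_set_eq ((cnj m D : Subgroup G) : Set G)] at h1
    simp only [SetLike.coe_sort_coe, card_cnj, h.card_inf, h.cardD] at h1
    have h3 : (C (g : Pt D)).card = (((cnj m D : Subgroup G) : Set G) \ (E : Set G)).ncard := by
      rw [← Set.ncard_coe_finset]
      congr 1
      ext x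
      simp [C, hW]
    omega
  have hsub : {u : G | orderOf u = 2 ∧ u ∈ normalizer (E : Set G) ∧ u ∉ normalizer (D : Set G)} ⊆
      ↑(T.biUnion C) := by
    rintro u ⟨hu2, huE, huD⟩
    obtain ⟨m, hm, hle⟩ := h.symm.exists_le_cnj (P := zpowers u)
      (IsPGroup.of_card (n := 1) (by rw [Nat.card_zpowers, hu2, pow_one]))
      (Subgroup.zpowers_le.2 huE)
    have hu := mem_cnj.1 (hle (mem_zpowers u))
    have hnE : u ∉ E := fun e => huD (h.pair.leD e)
    have hmD : m⁻¹ * u * m ∈ D := by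
      refine (h.symm.mem_or_mem hu ?_).resolve_left fun e => hnE ?_
      · rw [show m⁻¹ * u * m * (m⁻¹ * u * m) = m⁻¹ * (u * u) * m by group, mul_self_of hu2,
          mul_one, inv_mul_cancel]
      · rw [← cnj_eq_iff.2 hm]; exact mem_cnj.2 e
    rw [Finset.coe_biUnion, Set.mem_iUnion₂]
    refine ⟨(m : Pt D), Finset.mem_erase.2 ⟨fun e => huD ?_, Set.mem_toFinset.2
      (h.mk_mem_line.2 ⟨m, hm, rfl⟩)⟩, ?_⟩
    · rw [ho, eq_comm, QuotientGroup.eq, inv_one, one_mul] at e
      exact le_normalizer ((cnj_eq_iff.2 e).le (mem_cnj.2 hmD))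
    · simp only [C, Finset.coe_filter, Finset.mem_univ, true_and, Set.mem_ofPred_eq]
      exact ⟨by rw [cnj_out m le_rfl]; exact mem_cnj.2 hmD, hnE⟩
  refine (Set.ncard_le_ncard hsub (Set.toFinite _)).trans ?_
  rw [Set.ncard_coe_finset]
  refine Finset.card_biUnion_le.trans ((Finset.sum_le_card_nsmul T _ 12 hC).trans ?_)
  rw [hTc]; rfl

theorem ncard_fixing_le :
    {u : G | orderOf u = 2 ∧ u ∈ normalizer (D : Set G)}.ncard ≤ 75 := by
  haveI : Fact (Nat.Prime 2) := ⟨Nat.prime_two⟩
  have hsub : {u : G | orderOf u = 2 ∧ u ∈ normalizer (D : Set G)} ⊆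
      (((D : Set G) ∪ (E : Set G)) \ {1}) ∪
      {u : G | orderOf u = 2 ∧ u ∈ normalizer (D : Set G) ∧ u ∉ normalizer (E : Set G)} := by
    rintro u ⟨hu2, huD⟩
    by_cases huE : u ∈ normalizer (E : Set G)
    · left
      have hn : u ∈ normalizer ((D ⊔ E : Subgroup G) : Set G) :=
        cnj_eq_iff.1 (by rw [cnj_sup, cnj_eq_iff.2 huD, cnj_eq_iff.2 huE])
      have huY : u ∈ D ⊔ E := (h.eq_sup_of_two_group (h.two_sup.to_sup_of_normal_left'
        (IsPGroup.of_card (n := 1) (by rw [Nat.card_zpowers, hu2, pow_one]))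
        (Subgroup.zpowers_le.2 hn)) le_sup_left).le (mem_sup_right (mem_zpowers u))
      exact ⟨h.mem_or_mem huY (mul_self_of hu2), fun e => by
        rw [Set.mem_singleton_iff] at e
        rw [e, orderOf_one] at hu2
        omega⟩
    · exact Or.inr ⟨hu2, huD, huE⟩
  refine (Set.ncard_le_ncard hsub (Set.toFinite _)).trans ((Set.ncard_union_le _ _).trans ?_)
  have h1 := h.symm.ncard_moving_le
  have h2 := Set.ncard_union_add_ncard_inter (D : Set G) (E : Set G) (Set.toFinite _)
    (Set.toFinite _)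
  rw [← Subgroup.coe_inf, ← Nat.card_coe_set_eq (D : Set G), ← Nat.card_coe_set_eq (E : Set G),
    ← Nat.card_coe_set_eq ((D ⊓ E : Subgroup G) : Set G)] at h2
  simp only [SetLike.coe_sort_coe, h.cardD, h.cardE, h.card_inf] at h2
  rw [Set.ncard_sdiff_singleton_of_mem (Set.mem_union_left _ (SetLike.mem_coe.2 (one_mem D)))]
  omega

theorem card_le_of_odd {K : Subgroup G} (hK : K ≤ normalizer (D : Set G))
    (ho : Odd (Nat.card K)) : Nat.card K ≤ 5 := by
  obtain ⟨F, iF, iT, hF, ⟨N⟩⟩ := h.natD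
  haveI : Fact (Nat.Prime 3) := ⟨Nat.prime_three⟩
  haveI : Fact (Nat.Prime 5) := ⟨by norm_num⟩
  have hd : Nat.card K ∣ 15 := by
    have h1 := Subgroup.card_dvd_of_le hK
    rw [h.card_normalizer, show 960 = 2 ^ 6 * 15 by norm_num] at h1
    exact ((Nat.coprime_two_right.2 ho).pow_right 6).dvd_of_dvd_mul_left h1
  by_contra hlt
  have h15 : Nat.card K = 15 := by
    have := Nat.le_of_dvd (by norm_num) hd
    interval_cases hc : Nat.card K <;> omega
  obtain ⟨f, hf⟩ := exists_prime_orderOf_dvd_card' 3 (G := K) (by rw [h15]; norm_num)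
  obtain ⟨k, hk⟩ := exists_prime_orderOf_dvd_card' 5 (G := K) (by rw [h15]; norm_num)
  haveI hn : (zpowers f).Normal := by
    have hfac : (15 : ℕ).factorization 3 = 1 := by
      rw [show (15 : ℕ) = 3 * 5 by norm_num, Nat.factorization_mul (by norm_num) (by norm_num),
        Finsupp.add_apply, Nat.prime_three.factorization_self,
        Nat.factorization_eq_zero_of_not_dvd (by norm_num : ¬ 3 ∣ 5)]
    let P : Sylow 3 K := Sylow.ofCard (zpowers f)
      (by rw [Nat.card_zpowers, hf, h15, hfac, pow_one])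
    have h1 : Nat.card (Sylow 3 K) = 1 := by
      have h2 := P.card_dvd_index
      have h3 := card_sylow_modEq_one 3 K
      have h4 : (P : Subgroup K).index = 5 := by
        have h5 := (P : Subgroup K).index_mul_card
        rw [h15, show Nat.card (P : Subgroup K) = 3 by
          show Nat.card (zpowers f) = 3; rw [Nat.card_zpowers, hf]] at h5
        omega
      rw [h4, Nat.dvd_prime (by norm_num)] at h2
      rcases h2 with h2 | h2
      · exact h2
      · rw [h2] at h3; exact absurd h3 (by decide)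
    haveI : Subsingleton (Sylow 3 K) := (Nat.card_eq_one_iff_unique.1 h1).1
    exact P.normal_of_subsingleton
  have hc : Commute f k := by
    classical
    have hcube : f ^ 3 = 1 := by rw [← hf]; exact pow_orderOf_eq_one f
    obtain ⟨j, hj, hj'⟩ : ∃ j < 3, f ^ j = k * f * k⁻¹ := by
      have h2 := hn.conj_mem f (mem_zpowers f) k
      rw [mem_zpowers_iff_mem_range_orderOf, hf] at h2
      simpa using h2
    interval_cases j
    · have h3 : f = 1 := conj_eq_one_iff.1 (hj'.symm.trans (pow_zero f))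
      rw [h3, orderOf_one] at hf
      norm_num at hf
    · rw [pow_one] at hj'
      exact mul_inv_eq_iff_eq_mul.1 hj'.symm |>.symm
    · have h3 : k ^ 2 * f = f * k ^ 2 := by
        have h4 : k ^ 2 * f * (k ^ 2)⁻¹ = f := by
          calc k ^ 2 * f * (k ^ 2)⁻¹ = k * (k * f * k⁻¹) * k⁻¹ := by rw [pow_two]; group
            _ = (k * f * k⁻¹) ^ 2 := by rw [conj_pow, hj']
            _ = f ^ 3 * f := by rw [← hj', ← pow_mul, ← pow_succ]
            _ = f := by rw [hcube, one_mul]
        exact mul_inv_eq_iff_eq_mul.1 h4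
      have h5 : k = (k ^ 2) ^ 3 := by
        rw [← pow_mul, pow_succ, show 5 = orderOf k by rw [hk], pow_orderOf_eq_one, one_mul]
      rw [h5]
      exact ((show Commute (k ^ 2) f from h3).pow_left 3).symm
  set ι : K →* Out D := (toOut D).comp (inclusion hK) with hι
  have hinj : ∀ x : K, ι x = 1 → x = 1 := fun x hx => Subtype.ext (eq_one_of_odd_mem h.two_D
    (toOut_eq_one.1 hx) (odd_orderOf_mem ho x.2))
  have hι' : Function.Injective ι := (injective_iff_map_eq_one ι).2 hinj
  exact N.not_commute_three_five hF (by rw [orderOf_injective ι hι', hf])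
    (by rw [orderOf_injective ι hι', hk]) (hc.map ι)

theorem card_involutions_mul :
    {u : G | orderOf u = 2}.ncard * 64 = Nat.card G := by
  obtain ⟨z, hz, hz1⟩ := h.exists_inf_ne_one
  have hzo := orderOf_of_mul_self (h.pair.sqD z hz.1) hz1
  let f : G ⧸ centralizer ({z} : Set G) → {u : G | orderOf u = 2} := Quotient.lift
    (fun g => ⟨g * z * g⁻¹, by
      show orderOf (g * z * g⁻¹) = 2
      rw [← hzo]
      exact orderOf_injective (MulAut.conj g).toMonoidHom (MulAut.conj g).injective z⟩)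
    (fun a b hab => Subtype.ext (by
      have h1 := mem_centralizer_singleton_iff.1 (QuotientGroup.leftRel_apply.1 hab)
      show a * z * a⁻¹ = b * z * b⁻¹
      calc a * z * a⁻¹ = a * (z * (a⁻¹ * b)) * b⁻¹ := by group
        _ = b * z * b⁻¹ := by rw [← h1]; group))
  have hf : Function.Bijective f := by
    constructor
    · rintro ⟨a⟩ ⟨b⟩ e
      have e1 : a * z * a⁻¹ = b * z * b⁻¹ := congrArg Subtype.val e
      refine QuotientGroup.eq.2 (mem_centralizer_singleton_iff.2 ?_)
      calc a⁻¹ * b * z = a⁻¹ * (b * z * b⁻¹) * b := by group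
        _ = z * (a⁻¹ * b) := by rw [← e1]; group
    · rintro ⟨u, hu⟩
      obtain ⟨g, hg⟩ := isConj_iff.1 (h.isConj_involution hz hz1 hu).symm
      exact ⟨(g : G ⧸ centralizer ({z} : Set G)), Subtype.ext hg⟩
  have h2 := card_eq_card_quotient_mul_card_subgroup (centralizer ({z} : Set G))
  rw [Nat.card_congr (Equiv.ofBijective f hf), h.centralizer_inf hz hz1, h.card_sup,
    Nat.card_coe_set_eq] at h2
  exact h2.symm

/-- The twenty-one points, any two of them on a line. -/
theorem plane : Nat.card (Pt D) = 21 ∧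
    ∀ q : Pt D, q ≠ ((1 : G) : Pt D) →
      ∃ a : G, ((1 : G) : Pt D) ∈ line D (cnj a E) ∧ q ∈ line D (cnj a E) := by
  classical
  haveI := Fintype.ofFinite G
  set o : Pt D := ((1 : G) : Pt D) with ho
  haveI : Fintype (Pt D) := Fintype.ofFinite _
  haveI : Fintype (Pt E) := Fintype.ofFinite _
  set n := Nat.card (Pt D) with hn
  let P5 : Finset (Pt E) := (line E D).toFinset
  let Ln : Pt E → Subgroup G := fun b => cnj (Quotient.out b) E
  have hP5 : P5.card = 5 := by
    rw [← Set.ncard_eq_toFinset_card', h.symm.ncard_line]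
  have hLn : ∀ b ∈ P5, ∃ m ∈ normalizer (D : Set G), (m : Pt E) = b ∧ Ln b = cnj m E := by
    intro b hb
    obtain ⟨g, rfl⟩ := QuotientGroup.mk_surjective b
    obtain ⟨m, hm, hmg⟩ := h.symm.mk_mem_line.1 (Set.mem_toFinset.1 hb)
    exact ⟨m, hm, hmg, by rw [← hmg]; exact cnj_out m le_rfl⟩
  have hthrough : ∀ b ∈ P5, o ∈ line D (Ln b) := fun b hb => by
    obtain ⟨m, hm, -, e⟩ := hLn b hb
    rw [e, ho, mem_line, cnj_one, ← cnj_eq_iff.2 hm, ← cnj_normalizer, cnj_le_cnj_iff]
    exact h.pair.leD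
  have hLn' : ∀ a, o ∈ line D (cnj a E) → ∃ b ∈ P5, Ln b = cnj a E := fun a ha => by
    obtain ⟨m, hm, e⟩ := h.through_base ha
    exact ⟨(m : Pt E), Set.mem_toFinset.2 (h.symm.mk_mem_line.2 ⟨m, hm, rfl⟩),
      (cnj_out m le_rfl).trans e.symm⟩
  let near : Finset (Pt D) := P5.biUnion fun b => ((line D (Ln b)).toFinset).erase o
  have hnear : near.card = 20 := by
    rw [Finset.card_biUnion]
    · rw [Finset.sum_const_nat (m := 4) fun b hb => by
        rw [Finset.card_erase_of_mem (Set.mem_toFinset.2 (hthrough b hb)),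
          ← Set.ncard_eq_toFinset_card', h.ncard_line_cnj], hP5]
    · intro b hb b' hb' hbb'
      rw [Function.onFun, Finset.disjoint_left]
      intro q hq hq'
      obtain ⟨hqo, hq⟩ := Finset.mem_erase.1 hq
      obtain ⟨-, hq'⟩ := Finset.mem_erase.1 hq'
      have e := h.line_unique (Ne.symm hqo) (hthrough b hb) (Set.mem_toFinset.1 hq)
        (hthrough b' hb') (Set.mem_toFinset.1 hq')
      obtain ⟨m, -, hmb, em⟩ := hLn b hb
      obtain ⟨m', -, hmb', em'⟩ := hLn b' hb'
      refine hbb' ?_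
      rw [← hmb, ← hmb', QuotientGroup.eq]
      refine cnj_eq_iff.1 ?_
      rw [cnj_mul, ← em', show Ln b' = Ln b from e.symm, em, cnj_inv_cnj]
  let far : Finset (Pt D) := (Finset.univ.erase o) \ near
  have hnear' : near ⊆ Finset.univ.erase o := Finset.biUnion_subset.2 fun b _ =>
    Finset.erase_subset_erase o (Finset.subset_univ _)
  have hcard : far.card + 21 = n ∧ 21 ≤ n := by
    have h1 : (Finset.univ.erase o).card = n - 1 := by
      rw [Finset.card_erase_of_mem (Finset.mem_univ _), Finset.card_univ, hn,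
        Nat.card_eq_fintype_card]
    have h2 := Finset.card_le_card hnear'
    have h3 : far.card = (Finset.univ.erase o).card - near.card :=
      Finset.card_sdiff_of_subset hnear'
    omega
  let S : Subgroup G → Finset G := fun L => Finset.univ.filter fun u =>
    orderOf u = 2 ∧ u ∈ normalizer (L : Set G) ∧ u ∉ normalizer (D : Set G)
  let R : Pt D → Finset G := fun q => Finset.univ.filter fun u => orderOf u = 2 ∧ u • o = q
  have hS : ∀ b ∈ P5, (S (Ln b)).card ≤ 48 := by
    intro b hb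
    obtain ⟨m, hm, -, e⟩ := hLn b hb
    refine le_trans ?_ h.ncard_moving_le
    rw [Set.ncard_eq_toFinset_card']
    refine Finset.card_le_card_of_injOn (fun u => m⁻¹ * u * m) (fun u hu => ?_)
      (fun u _ v _ huv => mul_left_cancel (mul_right_cancel huv))
    simp only [S, Finset.coe_filter, Finset.mem_univ, true_and, Set.mem_ofPred_eq] at hu
    simp only [Set.coe_toFinset, Set.mem_ofPred_eq]
    obtain ⟨hu2, huL, huD⟩ := hu
    rw [e, mem_normalizer_cnj] at huL
    refine ⟨?_, huL, fun hc => huD ?_⟩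
    · rw [← hu2]
      conv_rhs => rw [show u = m * (m⁻¹ * u * m) * m⁻¹ by group]
      exact (orderOf_injective (MulAut.conj m).toMonoidHom (MulAut.conj m).injective _).symm
    · rw [show u = m * (m⁻¹ * u * m) * m⁻¹ by group]
      exact mul_mem (mul_mem hm hc) (inv_mem hm)
  have hR : ∀ q ∈ far, (R q).card ≤ 5 := by
    intro q hq
    obtain ⟨hq1, hqnear⟩ := Finset.mem_sdiff.1 hq
    have hqo : q ≠ o := (Finset.mem_erase.1 hq1).1
    rcases Finset.eq_empty_or_nonempty (R q) with e | ⟨u0, hu0⟩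
    · rw [e]; simp
    simp only [R, Finset.mem_filter, Finset.mem_univ, true_and] at hu0
    set K := MulAction.stabilizer G o ⊓ MulAction.stabilizer G q with hK
    have hKD : K ≤ normalizer (D : Set G) := fun x hx => by
      have h1 : x • o = o := hx.1
      rw [ho, smul_mk_eq_iff] at h1
      simpa using h1
    have hKodd : Odd (Nat.card K) := by
      haveI : Fact (Nat.Prime 2) := ⟨Nat.prime_two⟩
      rw [← Nat.not_even_iff_odd, even_iff_two_dvd]
      intro h2
      obtain ⟨⟨x, hx⟩, hxo⟩ := exists_prime_orderOf_dvd_card' 2 (G := K) h2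
      rw [Subgroup.orderOf_mk] at hxo
      obtain ⟨a, ha⟩ := h.exists_line_of_involution hxo
      obtain ⟨b, hb, hba⟩ := hLn' a (ha o hx.1)
      exact hqnear (Finset.mem_biUnion.2 ⟨b, hb, Finset.mem_erase.2
        ⟨hqo, Set.mem_toFinset.2 (by rw [hba]; exact ha q hx.2)⟩⟩)
    refine le_trans ?_ (h.card_le_of_odd hKD hKodd)
    rw [Nat.card_eq_fintype_card, ← Finset.card_univ]
    refine Finset.card_le_card_of_injOn
      (fun u => if hu : u0⁻¹ * u ∈ K then (⟨_, hu⟩ : K) else 1) (fun _ _ => Finset.mem_univ _) ?_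
    intro u hu v hv huv
    have key : ∀ w ∈ R q, u0⁻¹ * w ∈ K := by
      intro w hw
      simp only [R, Finset.mem_filter, Finset.mem_univ, true_and] at hw
      have hw' : w • q = o := by
        rw [← hw.2, smul_smul, mul_self_of hw.1, one_smul]
      have hu' : u0 • q = o := by
        rw [← hu0.2, smul_smul, mul_self_of hu0.1, one_smul]
      constructor
      · show (u0⁻¹ * w) • o = o
        rw [mul_smul, hw.2, ← hu0.2, inv_smul_smul]
      · show (u0⁻¹ * w) • q = q
        rw [mul_smul, hw', ← hu', inv_smul_smul]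
    simp only [dif_pos (key u hu), dif_pos (key v hv)] at huv
    exact mul_left_cancel (congrArg Subtype.val huv)
  have hI : {u : G | orderOf u = 2} ⊆ {u : G | orderOf u = 2 ∧ u ∈ normalizer (D : Set G)} ∪
      ↑(P5.biUnion (fun b => S (Ln b)) ∪ far.biUnion R) := by
    intro u hu
    simp only [Set.mem_ofPred_eq] at hu
    by_cases huD : u ∈ normalizer (D : Set G)
    · exact Or.inl ⟨hu, huD⟩
    refine Or.inr ?_
    have huo : u • o ≠ o := fun e => huD (by
      rw [ho, smul_mk_eq_iff] at e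
      simpa using e)
    rw [Finset.coe_union]
    by_cases hq : u • o ∈ near
    · left
      obtain ⟨b, hb, hqb⟩ := Finset.mem_biUnion.1 hq
      have hqb' := Set.mem_toFinset.1 (Finset.mem_of_mem_erase hqb)
      have h1 : cnj (u * Quotient.out b) E = cnj (Quotient.out b) E := by
        refine h.line_unique (p := o) (q := u • o) (Ne.symm huo) ?_ ?_ (hthrough b hb) hqb'
        · rw [cnj_mul]
          have h2 := (smul_mem_line_iff (x := u)).2 hqb'
          rwa [smul_smul, mul_self_of hu, one_smul] at h2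
        · rw [cnj_mul]; exact smul_mem_line_iff.2 (hthrough b hb)
      rw [cnj_mul] at h1
      simp only [Finset.coe_biUnion, Set.mem_iUnion, Finset.mem_coe]
      exact ⟨b, hb, Finset.mem_filter.2 ⟨Finset.mem_univ _, hu, cnj_eq_iff.1 h1, huD⟩⟩
    · right
      simp only [Finset.coe_biUnion, Set.mem_iUnion, Finset.mem_coe]
      exact ⟨u • o, Finset.mem_sdiff.2 ⟨Finset.mem_erase.2 ⟨huo, Finset.mem_univ _⟩, hq⟩,
        Finset.mem_filter.2 ⟨Finset.mem_univ _, hu, rfl⟩⟩
  have hb1 : (P5.biUnion fun b => S (Ln b)).card ≤ 240 := by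
    refine Finset.card_biUnion_le.trans ((Finset.sum_le_card_nsmul _ _ 48 hS).trans ?_)
    rw [hP5]; rfl
  have hb2 : (far.biUnion R).card ≤ far.card * 5 :=
    Finset.card_biUnion_le.trans ((Finset.sum_le_card_nsmul _ _ 5 hR).trans_eq (smul_eq_mul _ _))
  have hmain := (Set.ncard_le_ncard hI (Set.toFinite _)).trans (Set.ncard_union_le _ _)
  rw [Set.ncard_coe_finset] at hmain
  have hb3 := Finset.card_union_le (P5.biUnion fun b => S (Ln b)) (far.biUnion R)
  have hG1 := h.card_involutions_mul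
  have hG2 := card_eq_card_quotient_mul_card_subgroup (normalizer (D : Set G))
  rw [h.card_normalizer] at hG2
  have h75 := h.ncard_fixing_le
  rw [← hn] at hG2
  have hn21 : n = 21 := by omega
  refine ⟨hn21, fun q hq => ?_⟩
  have hfar : far = ∅ := Finset.card_eq_zero.1 (by omega)
  have hqn : q ∈ near := by
    by_contra hne
    have h1 : q ∈ far :=
      Finset.mem_sdiff.2 ⟨Finset.mem_erase.2 ⟨hq, Finset.mem_univ _⟩, hne⟩
    rw [hfar] at h1
    exact absurd h1 (Finset.notMem_empty _)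
  obtain ⟨b, hb, hqb⟩ := Finset.mem_biUnion.1 hqn
  exact ⟨Quotient.out b, hthrough b hb, Set.mem_toFinset.1 (Finset.mem_of_mem_erase hqb)⟩

end Four

/-- A pair of order sixteen gives a group of order `20160` acting on a plane of order four. -/
theorem four_case {G : Type u} [Group G] [Finite G] (hG : IsCIT G)
    (hgood : Good.{u} (Nat.card G)) {D E : Subgroup G} (h : Pair D E) (hD : Nat.card D = 16) :
    Nat.card G = 20160 ∧
    ∃ (Ω : Type u) (_ : Fintype Ω) (_ : DecidableEq Ω) (_ : MulAction G Ω) (L : Set (Finset Ω)),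
      Fintype.card Ω = 21 ∧ Cfsg.IsSteinerSystem 2 5 L ∧
      (∀ g : G, ∀ B ∈ L, B.image (g • ·) ∈ L) ∧ ∃ (g : G) (x : Ω), g • x ≠ x := by
  classical
  have h4 := h.four hG hgood hD
  obtain ⟨hn, hcol⟩ := h4.plane
  haveI : Fintype (Pt D) := Fintype.ofFinite _
  refine ⟨?_, Pt D, inferInstance, inferInstance, inferInstance,
    Set.range (fun a : G => (line D (cnj a E)).toFinset), ?_, ⟨?_, ?_⟩, ?_, ?_⟩
  · rw [card_eq_card_quotient_mul_card_subgroup (normalizer (D : Set G)), h4.card_normalizer]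
    rw [show Nat.card (G ⧸ normalizer (D : Set G)) = 21 from hn]
  · rw [← Nat.card_eq_fintype_card]; exact hn
  · rintro _ ⟨a, rfl⟩
    rw [← Set.ncard_eq_toFinset_card']
    exact h4.ncard_line_cnj a
  · intro s hs
    obtain ⟨p, q, hpq, rfl⟩ := Finset.card_eq_two.1 hs
    obtain ⟨g, rfl⟩ := QuotientGroup.mk_surjective p
    have ho : g • ((1 : G) : Pt D) = (g : Pt D) := by
      rw [MulAction.Quotient.smul_mk, smul_eq_mul, mul_one]
    obtain ⟨a, ha1, ha2⟩ := hcol (g⁻¹ • q) fun e => hpq (by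
      rw [← ho, ← e, smul_inv_smul])
    have hp' : (g : Pt D) ∈ line D (cnj (g * a) E) := by
      rw [cnj_mul, ← ho]; exact smul_mem_line_iff.2 ha1
    have hq' : q ∈ line D (cnj (g * a) E) := by
      rw [cnj_mul, ← smul_inv_smul g q]; exact smul_mem_line_iff.2 ha2
    refine ⟨_, ⟨⟨g * a, rfl⟩, Finset.insert_subset (Set.mem_toFinset.2 hp')
      (Finset.singleton_subset_iff.2 (Set.mem_toFinset.2 hq'))⟩, ?_⟩
    rintro _ ⟨⟨b, rfl⟩, hb⟩
    exact Set.toFinset_congr (congrArg (line D) (h4.line_unique hpq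
      (Set.mem_toFinset.1 (hb (Finset.mem_insert_self _ _)))
      (Set.mem_toFinset.1 (hb (Finset.mem_insert_of_mem (Finset.mem_singleton_self _)))) hp' hq'))
  · rintro g _ ⟨a, rfl⟩
    refine ⟨g * a, ?_⟩
    ext p
    simp only [Set.mem_toFinset, Finset.mem_image, cnj_mul, line_cnj g, Set.mem_image]
  · obtain ⟨q, hq⟩ : ∃ q : Pt D, q ≠ ((1 : G) : Pt D) := by
      haveI : Nontrivial (Pt D) := Finite.one_lt_card_iff_nontrivial.1 (by rw [hn]; norm_num)
      exact exists_ne _
    obtain ⟨g, rfl⟩ := QuotientGroup.mk_surjective q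
    refine ⟨g, ((1 : G) : Pt D), ?_⟩
    rw [MulAction.Quotient.smul_mk, smul_eq_mul, mul_one]
    exact hq

end Cfsg.Agent.CIT
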