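import Cfsg.Agent.CIT.Pair

/-!
# Conjugates of subgroups and Sylow arguments inside a subgroup
-/

set_option autoImplicit false
set_option linter.style.haveILetI false

namespace Cfsg.Agent.CIT

open Subgroup

variable {G : Type*} [Group G]

/-- The conjugate `g H g⁻¹`. -/
def cnj (g : G) (H : Subgroup G) : Subgroup G := H.map (MulAut.conj g).toMonoidHom

theorem mem_cnj {H : Subgroup G} {g x : G} : x ∈ cnj g H ↔ g⁻¹ * x * g ∈ H := by
  constructor
  · rintro ⟨a, ha, rfl⟩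
    simpa [mul_assoc] using ha
  · exact fun h => ⟨_, h, by simp [mul_assoc]⟩

theorem conj_mem_cnj {H : Subgroup G} {g x : G} (hx : x ∈ H) : g * x * g⁻¹ ∈ cnj g H :=
  ⟨x, hx, rfl⟩

theorem cnj_one (H : Subgroup G) : cnj 1 H = H := by
  ext x; simp [mem_cnj]

theorem cnj_mul (a b : G) (H : Subgroup G) : cnj (a * b) H = cnj a (cnj b H) := by
  ext x; simp [mem_cnj, mul_assoc]

theorem cnj_inv_cnj (g : G) (H : Subgroup G) : cnj g⁻¹ (cnj g H) = H := by
  rw [← cnj_mul, inv_mul_cancel, cnj_one]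

theorem cnj_cnj_inv (g : G) (H : Subgroup G) : cnj g (cnj g⁻¹ H) = H := by
  rw [← cnj_mul, mul_inv_cancel, cnj_one]

theorem card_cnj (g : G) (H : Subgroup G) : Nat.card (cnj g H) = Nat.card H :=
  (Nat.card_congr (equivMapOfInjective H _ (MulAut.conj g).injective).toEquiv).symm

theorem cnj_le_cnj_iff {H K : Subgroup G} {g : G} : cnj g H ≤ cnj g K ↔ H ≤ K :=
  Subgroup.map_le_map_iff_of_injective (MulAut.conj g).injective

theorem le_cnj_iff {H K : Subgroup G} {g : G} : H ≤ cnj g K ↔ cnj g⁻¹ H ≤ K := by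
  rw [← cnj_le_cnj_iff (g := g⁻¹), cnj_inv_cnj]

theorem cnj_le_iff {H K : Subgroup G} {g : G} : cnj g H ≤ K ↔ H ≤ cnj g⁻¹ K := by
  rw [← cnj_le_cnj_iff (g := g⁻¹), cnj_inv_cnj]

theorem cnj_injective (g : G) : Function.Injective (cnj g) := fun H K h => by
  rw [← cnj_inv_cnj g H, h, cnj_inv_cnj]

theorem cnj_sup (g : G) (H K : Subgroup G) : cnj g (H ⊔ K) = cnj g H ⊔ cnj g K :=
  Subgroup.map_sup _ _ _

theorem cnj_inf (g : G) (H K : Subgroup G) : cnj g (H ⊓ K) = cnj g H ⊓ cnj g K :=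
  Subgroup.map_inf _ _ _ (MulAut.conj g).injective

theorem cnj_eq_iff {H : Subgroup G} {g : G} : cnj g H = H ↔ g ∈ normalizer (H : Set G) :=
  mem_normalizer_iff_map_conj_eq.symm

theorem cnj_eq_inv {H K : Subgroup G} {g : G} (h : cnj g H = K) : cnj g⁻¹ K = H := by
  rw [← h, cnj_inv_cnj]

theorem cnj_sq {H : Subgroup G} (g : G) (h : ∀ x ∈ H, x * x = 1) : ∀ x ∈ cnj g H, x * x = 1 := by
  rintro _ ⟨a, ha, rfl⟩
  rw [← map_mul, h a ha, map_one]

theorem mem_normalizer_cnj {H : Subgroup G} {g x : G} :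
    x ∈ normalizer (cnj g H : Set G) ↔ g⁻¹ * x * g ∈ normalizer (H : Set G) := by
  rw [← cnj_eq_iff, ← cnj_eq_iff, cnj_mul, cnj_mul]
  exact ⟨fun h => by rw [h, cnj_inv_cnj], fun h => by
    have h1 := congrArg (cnj g) h
    rwa [cnj_cnj_inv] at h1⟩

theorem cnj_normalizer (g : G) (H : Subgroup G) :
    cnj g (normalizer (H : Set G)) = normalizer (cnj g H : Set G) := by
  ext x
  rw [mem_cnj, mem_normalizer_cnj]

theorem mem_normalizer_of_forall [Finite G] {H : Subgroup G} {g : G}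
    (h : ∀ x ∈ H, g * x * g⁻¹ ∈ H) : g ∈ normalizer (H : Set G) := by
  refine cnj_eq_iff.1 (Subgroup.eq_of_le_of_card_ge ?_ (card_cnj g H).ge)
  rintro _ ⟨a, ha, rfl⟩
  exact h a ha

theorem cnj_centralizer_singleton (g z : G) :
    cnj g (centralizer ({z} : Set G)) = centralizer ({g * z * g⁻¹} : Set G) := by
  ext x
  rw [mem_cnj, mem_centralizer_singleton_iff, mem_centralizer_singleton_iff]
  constructor <;> intro h
  · calc x * (g * z * g⁻¹) = g * (g⁻¹ * x * g * z) * g⁻¹ := by group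
      _ = g * (z * (g⁻¹ * x * g)) * g⁻¹ := by rw [h]
      _ = g * z * g⁻¹ * x := by group
  · calc g⁻¹ * x * g * z = g⁻¹ * (x * (g * z * g⁻¹)) * g := by group
      _ = g⁻¹ * (g * z * g⁻¹ * x) * g := by rw [h]
      _ = z * (g⁻¹ * x * g) := by group

/-- Sylow's theorem inside the subgroup `H`. -/
theorem exists_cnj_le [Finite G] {p : ℕ} [Fact p.Prime] {H S P : Subgroup G} (hS : S ≤ H)
    (hP : P ≤ H) (hPp : IsPGroup p P) {a b : ℕ} (hSc : Nat.card S = p ^ a)
    (hHc : Nat.card H = p ^ a * b) (hb : ¬ p ∣ b) : ∃ m ∈ H, P ≤ cnj m S := by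
  have hb0 : b ≠ 0 := fun e => hb (e ▸ dvd_zero p)
  let Ssyl : Sylow p H := Sylow.ofCard (S.subgroupOf H) (by
    rw [Nat.card_congr (subgroupOfEquivOfLe hS).toEquiv, hSc, hHc,
      Nat.factorization_mul (pow_ne_zero _ (Fact.out : p.Prime).ne_zero) hb0, Finsupp.add_apply,
      Nat.factorization_eq_zero_of_not_dvd hb, add_zero,
      (Fact.out : p.Prime).factorization_pow, Finsupp.single_eq_same])
  obtain ⟨R, hR⟩ := (hPp.comap_subtype (K := H)).exists_le_sylow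
  obtain ⟨m, hm⟩ := MulAction.exists_smul_eq H Ssyl R
  refine ⟨m, m.2, fun x hx => mem_cnj.2 ?_⟩
  have h1 : (⟨x, hP hx⟩ : H) ∈ (R : Subgroup H) := hR (mem_subgroupOf.2 hx)
  rw [← hm, Sylow.coe_subgroup_smul] at h1
  obtain ⟨y, hy, e⟩ := h1
  have h2 : (m : G) * (y : G) * (m : G)⁻¹ = x := congrArg Subtype.val e
  have h3 : (y : G) ∈ S := mem_subgroupOf.1 hy
  rw [← h2]
  simpa [mul_assoc] using h3

end Cfsg.Agent.CIT
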