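import Cfsg.Agent.CIT.Out
import Cfsg.Agent.Lib.PGroup.Basic

/-!
# The Frattini quotient of a `2`-subgroup as a module
-/

set_option autoImplicit false
set_option linter.style.haveILetI false

namespace Cfsg.Agent.CIT

open Subgroup

universe u

variable {G : Type u} [Group G] [Finite G]

/-- The Frattini quotient of `D`. -/
abbrev FMod (D : Subgroup G) : Type u := ↥D ⧸ frattini ↥D

/-- The commutative group structure. -/
@[reducible] def fmodComm (D : Subgroup G) (hD : IsPGroup 2 D) : CommGroup (FMod D) :=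
  { (inferInstance : Group (FMod D)) with
    mul_comm := fun a b => haveI : Fact (Nat.Prime 2) := ⟨Nat.prime_two⟩
      (PGroup.quotient_frattini_commute hD a b).eq }

theorem fmod_sq (D : Subgroup G) (hD : IsPGroup 2 D) (a : FMod D) : a * a = 1 := by
  haveI : Fact (Nat.Prime 2) := ⟨Nat.prime_two⟩
  rw [← pow_two]
  exact PGroup.quotient_frattini_pow hD a

/-- The action of the normaliser on the Frattini quotient. -/
def fmodNor (D : Subgroup G) : ↥(normalizer (D : Set G)) →* MulAut (FMod D) where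
  toFun g := QuotientGroup.congr (frattini ↥D) (frattini ↥D) (normalizerMonoidHom D g)
    (characteristic_iff_map_eq.1 frattini_characteristic _)
  map_one' := MulEquiv.ext fun v => by
    obtain ⟨a, rfl⟩ := QuotientGroup.mk_surjective v
    simp
  map_mul' g h := MulEquiv.ext fun v => by
    obtain ⟨a, rfl⟩ := QuotientGroup.mk_surjective v
    show QuotientGroup.mk ((normalizerMonoidHom D (g * h)) a) =
      (QuotientGroup.mk ((normalizerMonoidHom D g) ((normalizerMonoidHom D h) a)) : FMod D)
    rw [map_mul, MulAut.mul_apply]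

theorem fmodNor_mk (D : Subgroup G) (g : ↥(normalizer (D : Set G))) (a : D) :
    fmodNor D g (QuotientGroup.mk a) =
      QuotientGroup.mk (⟨(g : G) * a * (g : G)⁻¹, (mem_normalizer_iff.1 g.2 _).1 a.2⟩ : D) := rfl

/-- The action of `Out D` on the Frattini quotient. -/
def fmodAct (D : Subgroup G) (hD : IsPGroup 2 D) : Out D →* MulAut (FMod D) :=
  QuotientGroup.lift _ (fmodNor D) fun g hg => by
    haveI : Fact (Nat.Prime 2) := ⟨Nat.prime_two⟩
    refine MulEquiv.ext fun v => ?_
    obtain ⟨a, rfl⟩ := QuotientGroup.mk_surjective v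
    rw [MulAut.one_apply, fmodNor_mk]
    show QuotientGroup.mk (⟨(g : G), mem_subgroupOf.1 hg⟩ * a * (⟨(g : G), mem_subgroupOf.1 hg⟩)⁻¹ : D)
      = (QuotientGroup.mk a : FMod D)
    rw [QuotientGroup.mk_mul, QuotientGroup.mk_mul, QuotientGroup.mk_inv,
      (PGroup.quotient_frattini_commute hD _ (QuotientGroup.mk a)).eq, mul_inv_cancel_right]

theorem fmodAct_mk (D : Subgroup G) (hD : IsPGroup 2 D) (g : ↥(normalizer (D : Set G))) (a : D) :
    fmodAct D hD (toOut D g) (QuotientGroup.mk a) =
      QuotientGroup.mk (⟨(g : G) * a * (g : G)⁻¹, (mem_normalizer_iff.1 g.2 _).1 a.2⟩ : D) := rfl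

/-- Elements of odd order act without fixed points. -/
theorem fmodAct_fpf (hG : IsCIT G) (D : Subgroup G) (hD : IsPGroup 2 D) :
    @OddFpf _ _ _ (fmodComm D hD) (fmodAct D hD) := by
  letI := fmodComm D hD
  intro x hxo hx v hv
  by_contra hv1
  obtain ⟨g, rfl, hgo⟩ := exists_odd_lift hxo
  obtain ⟨p, hp, hpd⟩ := Nat.exists_prime_and_dvd (n := orderOf (toOut D g))
    (fun e => hx (orderOf_eq_one_iff.1 e))
  haveI : Fact p.Prime := ⟨hp⟩
  obtain ⟨n, m, hm, hnm⟩ := Nat.exists_eq_pow_mul_and_not_dvd (orderOf_pos g).ne' p hp.ne_one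
  set d := g ^ m with hd
  have hdo : orderOf d = p ^ n := by
    rw [hd, orderOf_pow, hnm, Nat.gcd_eq_right (Dvd.intro_left _ rfl),
      Nat.mul_div_cancel _ (Nat.pos_of_ne_zero fun e => hm (by rw [e]; exact dvd_zero p))]
  have hd1 : (d : G) ≠ 1 := fun e => by
    have h1 : toOut D g ^ m = 1 := by
      rw [← map_pow]
      exact toOut_eq_one.2 (e ▸ one_mem D)
    exact hm (hpd.trans (orderOf_dvd_of_pow_eq_one h1))
  have hdv : fmodAct D hD (toOut D d) v = v := by
    have h1 : toOut D g ∈ (MulAction.stabilizer (MulAut (FMod D)) v).comap (fmodAct D hD) := hv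
    rw [hd, map_pow]
    exact pow_mem h1 m
  obtain ⟨a, rfl⟩ := QuotientGroup.mk_surjective v
  let T : Set D := {b | (QuotientGroup.mk b : FMod D) = QuotientGroup.mk a}
  let act' : MulAction (zpowers d) T :=
    { smul := fun c b => ⟨⟨((c : _) : G) * b * ((c : _) : G)⁻¹,
        (mem_normalizer_iff.1 (c : ↥(normalizer (D : Set G))).2 _).1 b.1.2⟩, by
          show (QuotientGroup.mk _ : FMod D) = QuotientGroup.mk a
          rw [← fmodAct_mk D hD c b.1, b.2]
          have h1 : toOut D d ∈ (MulAction.stabilizer (MulAut (FMod D))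
              (QuotientGroup.mk a : FMod D)).comap (fmodAct D hD) := hdv
          obtain ⟨j, hj⟩ := mem_zpowers_iff.1 c.2
          rw [← hj, map_zpow]
          exact zpow_mem h1 j⟩
      one_smul := fun b => Subtype.ext (Subtype.ext (by simp [HSMul.hSMul]))
      mul_smul := fun c e b => Subtype.ext (Subtype.ext (by simp [HSMul.hSMul, mul_assoc])) }
  have hT : Nat.card T = Nat.card (frattini ↥D) := by
    refine Nat.card_congr
      { toFun := fun b => ⟨a⁻¹ * b, QuotientGroup.eq.1 b.2.symm⟩
        invFun := fun q => ⟨a * q, by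
          show ((a * q : D) : FMod D) = _
          rw [QuotientGroup.eq]
          simp⟩
        left_inv := fun b => by simp
        right_inv := fun q => by simp }
  obtain ⟨⟨b, hb⟩, hfix⟩ : (MulAction.fixedPoints (zpowers d) T).Nonempty := by
    refine (IsPGroup.of_card (n := n) (by rw [Nat.card_zpowers, hdo]) :
      IsPGroup p (zpowers d)).nonempty_fixed_point_of_prime_not_dvd_card T ?_
    haveI : Fact (Nat.Prime 2) := ⟨Nat.prime_two⟩
    obtain ⟨j, hj⟩ := IsPGroup.iff_card.1 (hD.to_subgroup (frattini ↥D))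
    rw [hT, hj]
    intro h
    have h2 := (Nat.prime_dvd_prime_iff_eq hp Nat.prime_two).1 (hp.dvd_of_dvd_pow h)
    have hxo' : Odd p := hxo.of_dvd_nat hpd
    rw [h2] at hxo'
    exact absurd hxo' (by decide)
  have hb1 : (b : G) ≠ 1 := fun e => hv1 (by
    rw [← hb, show b = 1 from Subtype.ext e, QuotientGroup.mk_one])
  have hcomm : Commute (d : G) (b : G) := mul_inv_eq_iff_eq_mul.1
    (congrArg (fun w : T => ((w : D) : G)) (hfix ⟨d, mem_zpowers d⟩))
  obtain ⟨k, hk⟩ := two_pow_of_isPGroup hD b.2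
  exact hd1 (hG.eq_one_of_commute' hb1 hk
    (hgo.of_dvd_nat (by rw [hd, SubgroupClass.coe_pow]; exact orderOf_pow_dvd m)) hcomm)

end Cfsg.Agent.CIT
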