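import Cfsg.Agent.CIT.Pair
import Cfsg.Agent.CIT.NaturalSylow

/-!
# A group with a pair is simple
-/

set_option autoImplicit false
set_option linter.style.haveILetI false

namespace Cfsg.Agent.CIT

open Subgroup

universe u

variable {G : Type u} [Group G] [Finite G]

namespace Pair

variable {D E : Subgroup G}

/-- A normal subgroup meeting the intersection of a pair contains the pair. -/
theorem le_of_mem_inf (h : Pair D E) (hG : IsCIT G) (hgood : Good.{u} (Nat.card G))
    {M : Subgroup G} [hM : M.Normal] {z : G} (hz : z ∈ D ⊓ E) (hz1 : z ≠ 1) (hzM : z ∈ M) :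
    D ≤ M := by
  obtain ⟨F, iF, iT, hP⟩ := h.exists_pairNat hG hgood
  obtain ⟨N⟩ := hP.natD
  haveI := h.essD.omega_nontrivial
  have hzo : z ∈ omega D := by rw [h.omega_D]; exact hz.1
  have hzf : (⟨z, hzo⟩ : ↥(omega D)) ∈ fix (act D) (img D E) :=
    (mem_fix_img h.leD).2 (mem_centralizer_iff.2 fun y hy => h.symm.comm_D hy hz.2)
  have hconj : ∀ (x : Out D) (v : ↥(omega D)), (v : G) ∈ M → (act D x v : G) ∈ M := by
    intro x v hv
    obtain ⟨g, rfl⟩ := toOut_surjective D x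
    rw [coe_act]
    exact hM.conj_mem _ hv _
  intro v hv
  have hvo : v ∈ omega D := by rw [h.omega_D]; exact hv
  obtain ⟨x, hx⟩ := N.exists_conj_mem h.essD.pCore_out (act_fpf hG D) omega_sq ⟨v, hvo⟩
  have hxv : (act D x ⟨v, hvo⟩ : G) ∈ M := by
    by_cases h1 : act D x ⟨v, hvo⟩ = 1
    · rw [h1]; exact one_mem M
    obtain ⟨a, ha⟩ := N.exists_h_eq (act_fpf hG D) hzf hx
      (fun e => hz1 (congrArg Subtype.val e)) h1
    rw [← ha]
    exact hconj _ _ hzM
  have h2 := hconj x⁻¹ _ hxv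
  rwa [← MulAut.mul_apply, ← map_mul, inv_mul_cancel, map_one] at h2

/-- A group with a pair and a module is simple. -/
theorem isSimpleGroup (hG : IsCIT G) (hO : Cfsg.pCore 2 G = ⊥) (hgood : Good.{u} (Nat.card G))
    {V : Type u} [CommGroup V] [Finite V] [Nontrivial V] (φ : G →* MulAut V)
    (hV : ∀ v : V, v * v = 1) (hfpf : OddFpf φ) {D E : Subgroup G} (h : Pair D E) :
    IsSimpleGroup G := by
  classical
  haveI : Fact (Nat.Prime 2) := ⟨Nat.prime_two⟩
  obtain ⟨F, iF, iT, hP⟩ := h.exists_pairNat hG hgood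
  obtain ⟨N⟩ := hP.natD
  have hq := Fintype.one_lt_card (α := F)
  haveI : Nontrivial D := D.nontrivial_iff_ne_bot.2 h.essD.ne_bot
  haveI : Nontrivial G := D.subtype_injective.nontrivial
  refine ⟨fun M hMn => ?_⟩
  by_contra hM
  rw [not_or] at hM
  haveI := hMn
  -- commuting involutions
  obtain ⟨a, b, ha, hb, hab⟩ : ∃ a b : G, (a ∈ D ∧ a ≠ 1) ∧ (b ∈ D ∧ b ≠ 1) ∧ a ≠ b := by
    obtain ⟨⟨a, ha⟩, ha1⟩ := exists_ne (1 : D)
    refine ⟨a, ?_⟩
    by_contra hc
    push Not at hc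
    have hsub : (D : Set G) ⊆ {1, a} := fun b hb => by
      by_cases hb1 : b = 1
      · exact Or.inl hb1
      · exact Or.inr (hc b ⟨ha, fun e => ha1 (Subtype.ext e)⟩ ⟨hb, hb1⟩).symm
    have h6 := (Set.ncard_le_ncard hsub).trans (Set.ncard_insert_le _ _)
    rw [← Nat.card_coe_set_eq, Set.ncard_singleton] at h6
    simp only [SetLike.coe_sort_coe, hP.card_D] at h6
    nlinarith
  have heven : Even (Nat.card M) := by
    by_contra hodd
    exact hM.1 (hG.normal_odd_eq_bot (Nat.not_even_iff_odd.1 hodd)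
      (orderOf_of_mul_self (h.sqD a ha.1) ha.2) (orderOf_of_mul_self (h.sqD b hb.1) hb.2) hab
      (h.comm_D ha.1 hb.1))
  have hY : IsPGroup 2 ↥(D ⊔ E) := h.essD.two.to_sup_of_normal_left' h.essE.two h.leD
  obtain ⟨S, hS⟩ := hY.exists_le_sylow
  -- a central element of `S` in `M`
  obtain ⟨z, hz, hz1⟩ : ∃ z : ↥(S : Subgroup G),
      z ∈ M.subgroupOf (S : Subgroup G) ⊓ center ↥(S : Subgroup G) ∧ z ≠ 1 := by
    have hne : M.subgroupOf (S : Subgroup G) ≠ ⊥ := by
      intro e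
      obtain ⟨m, hm⟩ := exists_prime_orderOf_dvd_card' 2 (even_iff_two_dvd.1 heven)
      obtain ⟨R, hmR, -⟩ := exists_involution_le_sylow
        (IsPGroup.of_card (n := 1) (by
          rw [Nat.card_zpowers, Subgroup.orderOf_coe, hm, pow_one]) :
          IsPGroup 2 (zpowers (m : G))) (mem_zpowers _)
      obtain ⟨g, hg⟩ := MulAction.exists_smul_eq G R S
      have hgm : g * m * g⁻¹ ∈ (S : Subgroup G) := by
        rw [← hg, Sylow.coe_subgroup_smul]
        exact ⟨m, hmR, rfl⟩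
      have h1 : (⟨g * m * g⁻¹, hgm⟩ : ↥(S : Subgroup G)) ∈ M.subgroupOf (S : Subgroup G) :=
        mem_subgroupOf.2 (hMn.conj_mem _ m.2 g)
      rw [e, mem_bot] at h1
      have h2 : orderOf (g * m * g⁻¹) = 1 := by
        rw [show g * (m : G) * g⁻¹ = 1 from congrArg Subtype.val h1, orderOf_one]
      rw [Involution.orderOf_conj, Subgroup.orderOf_coe, hm] at h2
      omega
    obtain ⟨z, hz1⟩ := Subgroup.ne_bot_iff_exists_ne_one.1 (PGroup.inf_center_ne_bot S.2 hne)
    exact ⟨z, z.2, fun e => hz1 (Subtype.ext e)⟩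
  have hzc : ∀ y ∈ D ⊔ E, Commute (z : G) y := fun y hy =>
    (congrArg Subtype.val (mem_center_iff.1 hz.2 ⟨y, hS hy⟩)).symm
  have hzD : (z : G) ∈ D := by
    rw [← h.centralizer_D]
    exact mem_centralizer_iff.2 fun y hy => (hzc y (mem_sup_left hy)).eq.symm
  have hzE : (z : G) ∈ E := by
    rw [← h.symm.centralizer_D]
    exact mem_centralizer_iff.2 fun y hy => (hzc y (mem_sup_right hy)).eq.symm
  have hz1' : (z : G) ≠ 1 := fun e => hz1 (Subtype.ext e)
  have hDM := h.le_of_mem_inf hG hgood ⟨hzD, hzE⟩ hz1' hz.1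
  have hEM := h.symm.le_of_mem_inf hG hgood ⟨hzE, hzD⟩ hz1' hz.1
  -- `M` has TI Sylow subgroups
  have hlt : Nat.card M < Nat.card G := by
    refine lt_of_le_of_ne M.card_le_card_group fun e => hM.2 ?_
    exact (Subgroup.card_eq_iff_eq_top M).1 e
  have hMO : Cfsg.pCore 2 ↥M = ⊥ := by
    have h1 : ((Cfsg.pCore 2 ↥M).map M.subtype) ≤ Cfsg.pCore 2 G :=
      Thompson.le_pCore inferInstance (Thompson.isPGroup_pCore.map _)
    rw [hO, le_bot_iff, map_eq_bot_iff_of_injective _ M.subtype_injective] at h1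
    exact h1
  have hTI : TI M := hgood M hlt (hG.subgroup M) hMO V (φ.comp M.subtype) hV
    (hfpf.comp M.subtype M.subtype_injective)
  obtain ⟨T, hT⟩ := (hY.comap_subtype (K := M)).exists_le_sylow
  refine N.normalizer_ne_top h.essD.pCore_out (eq_top_iff.2 fun x _ => ?_)
  obtain ⟨m, rfl⟩ := toOut_surjective D x
  have hle : (img D E).map (MulAut.conj (toOut D m)).toMonoidHom ≤ img D E := by
    rintro _ ⟨_, ⟨e, he, rfl⟩, rfl⟩
    show toOut D m * toOut D e * (toOut D m)⁻¹ ∈ img D E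
    rw [← map_inv, ← map_mul, ← map_mul]
    set W := (T : Subgroup M).map M.subtype with hW
    have hWmem : (m : G) * e * (m : G)⁻¹ ∈ W := by
      obtain ⟨T', hT'⟩ :=
        ((hY.map (MulAut.conj (m : G)).toMonoidHom).comap_subtype (K := M)).exists_le_sylow
      have hd1 : (⟨a, hDM ha.1⟩ : M) ∈ (T : Subgroup M) := hT (mem_sup_left ha.1)
      have hd2 : (⟨a, hDM ha.1⟩ : M) ∈ (T' : Subgroup M) := by
        refine hT' ⟨(m : G)⁻¹ * a * m, mem_sup_left ?_, ?_⟩
        · exact (mem_normalizer_iff.1 m.2 _).2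
            (by rw [show (m : G) * ((m : G)⁻¹ * a * m) * (m : G)⁻¹ = a by group]; exact ha.1)
        · show (m : G) * ((m : G)⁻¹ * a * m) * (m : G)⁻¹ = a
          group
      have hTT := hTI.eq_of_mem hd1 hd2 fun e => ha.2 (congrArg Subtype.val e)
      refine ⟨⟨_, hMn.conj_mem _ (hEM he) (m : G)⟩, ?_, rfl⟩
      rw [hTT]
      exact hT' ⟨e, mem_sup_right he, rfl⟩
    have hAW : img D E ≤ img D W := img_mono fun y hy =>
      ⟨⟨y, hEM hy⟩, hT (mem_sup_right hy), rfl⟩
    obtain ⟨R, hR⟩ := N.exists_sylow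
    have h2 : img D W = img D E := by
      rw [← hR]
      exact R.is_maximal' (img_isPGroup (T.2.map _)) (hR.le.trans hAW)
    rw [← h2]
    exact toOut_mem_img (g := m * e * m⁻¹) hWmem
  exact mem_normalizer_iff_map_conj_eq.2 (eq_of_le_of_card_ge hle
    (Nat.card_congr (equivMapOfInjective _ _ (MulAut.conj (toOut D m)).injective).toEquiv).le)

end Pair

end Cfsg.Agent.CIT
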