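import Cfsg.Agent.CIT.Module
import Cfsg.Agent.Classification.PlaneFourTransfer
import Cfsg.Agent.Lib.Leech.M21
import Mathlib.FieldTheory.Finite.GaloisField

/-!
The plane of order four and `PSL(3,4)`: a simple group of order 20160 acting on a plane of order
four is `PSL(3,4)`, and `PSL(3,4)` has no module on which odd elements act fixed point freely.
-/

set_option autoImplicit false
set_option maxRecDepth 100000

namespace Cfsg.Agent.CIT.PlaneL34

open Finset Cfsg.Agent.Steiner Cfsg.Agent.Classification Cfsg.Agent.Leech Cfsg.Agent.LinearGroup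
open scoped Classical

/-! ### The model of the plane on the representatives -/

/-- Incidence between a point and the line with the given coefficients. -/
def inc (u l : Fin 21) : Bool :=
  Nat.beq (M21.ad (M21.ad (M21.mu (M21.pv u 0) (M21.pv l 0)) (M21.mu (M21.pv u 1) (M21.pv l 1)))
    (M21.mu (M21.pv u 2) (M21.pv l 2)) : Fin 4).val 0

/-- The points of a line. -/
def block (u : Fin 21) : Finset (Fin 21) := univ.filter fun l => inc u l = true

/-- The lines of the coordinate plane. -/
def coordLines : Set (Finset (Fin 21)) := Set.range block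

theorem card_block : ∀ u : Fin 21, (block u).card = 5 := by decide +kernel

theorem exists_block : ∀ a b : Fin 21, ∃ u, inc u a = true ∧ inc u b = true := by decide +kernel

theorem unique_block : ∀ a b : Fin 21, a ≠ b →
    ((List.finRange 21).filter fun u => inc u a && inc u b).length = 1 := by decide +kernel

theorem sig_block : ∀ (n : Fin 12) (u : Fin 21),
    ∃ v : Fin 21, ∀ l, inc u l = inc v (M21.sig n l) := by decide +kernel

theorem steiner_coordLines : Cfsg.IsSteinerSystem 2 5 coordLines := by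
  refine ⟨?_, fun s hs => ?_⟩
  · rintro _ ⟨u, rfl⟩
    exact card_block u
  · obtain ⟨a, b, hab, rfl⟩ := Finset.card_eq_two.1 hs
    obtain ⟨u, hua, hub⟩ := exists_block a b
    obtain ⟨m, hm⟩ := List.length_eq_one_iff.1 (unique_block a b hab)
    have hu : ∀ v : Fin 21, inc v a = true → inc v b = true → v = m := fun v hva hvb => by
      have : v ∈ (List.finRange 21).filter fun u => inc u a && inc u b := by simp [hva, hvb]
      rw [hm] at this
      simpa using this
    refine ⟨block u, ⟨⟨u, rfl⟩, by simp [insert_subset_iff, block, hua, hub]⟩, ?_⟩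
    rintro _ ⟨⟨v, rfl⟩, hv⟩
    simp [insert_subset_iff, block] at hv
    rw [hu u hua hub, hu v hv.1 hv.2]

theorem mem_aut_of_sig (π : Equiv.Perm (Fin 21)) (n : Fin 12) (hπ : ⇑π = M21.sig n) :
    π ∈ Cfsg.setSystemAut coordLines := by
  have hsub : (fun T : Finset (Fin 21) => T.image π) '' coordLines ⊆ coordLines := by
    rintro _ ⟨_, ⟨u, rfl⟩, rfl⟩
    obtain ⟨v, hv⟩ := sig_block n u
    refine ⟨v, ?_⟩
    ext l
    obtain ⟨l', rfl⟩ := π.surjective l
    rw [π.injective.mem_finset_image]
    simp only [block, mem_filter, mem_univ, true_and]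
    rw [hv l', hπ]
  rw [mem_setSystemAut]
  refine Set.eq_of_subset_of_ncard_le hsub ?_ (Set.toFinite _)
  exact le_of_eq (Set.ncard_image_of_injective _ (Finset.image_injective π.injective)).symm

/-- The automorphism group of the model plane has order at most `168 * 720`. -/
theorem card_aut_le (hM : Cfsg.IsSteinerSystem 2 5 PlaneFour.lines) :
    Nat.card ↥(Cfsg.setSystemAut PlaneFour.lines) ≤ 120960 := by
  classical
  set A := Cfsg.setSystemAut PlaneFour.lines with hA
  have hbase : PlaneFour.Indep 6 (dec 21 PlaneFour.base) := by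
    have hmem : PlaneFour.base ∈ PlaneFour.indepList 6 := by decide +kernel
    exact (PlaneFour.indep_of_mem PlaneFour.listCheck6 hmem).2
  have himg : ∀ a : A, PlaneFour.Indep 6 ((dec 21 PlaneFour.base).image (a : Equiv.Perm (Fin 21))) := by
    intro a
    refine (PlaneFour.indep_image_iff (a : Equiv.Perm (Fin 21)) ?_ 6 _).1 hbase
    exact mem_setSystemAut.1 a.2
  choose π hπA hπ using fun H : {H // PlaneFour.Indep 6 H} => PlaneFour.exists_mover H.2
  let oval : A → {H // PlaneFour.Indep 6 H} := fun a => ⟨_, himg a⟩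
  let red : A → Equiv.Perm (Fin 21) := fun a => (π (oval a))⁻¹ * (a : Equiv.Perm (Fin 21))
  have hred : ∀ (a : A) (i : Fin 6), ∃ j, PlaneFour.pt j = red a (PlaneFour.pt i) := by
    intro a i
    have h1 : (a : Equiv.Perm (Fin 21)) (PlaneFour.pt i) ∈ (oval a : Finset (Fin 21)) :=
      mem_image_of_mem _ ((PlaneFour.mem_base _).2 ⟨i, rfl⟩)
    rw [← hπ (oval a), mem_image] at h1
    obtain ⟨q, hq, hqe⟩ := h1
    obtain ⟨j, rfl⟩ := (PlaneFour.mem_base q).1 hq
    refine ⟨j, ?_⟩
    show _ = (π (oval a))⁻¹ ((a : Equiv.Perm (Fin 21)) (PlaneFour.pt i))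
    rw [← hqe]
    simp
  choose τ hτ using hred
  have hτinj : ∀ a, Function.Injective (τ a) := fun a i k h =>
    PlaneFour.pt_injective ((red a).injective (by rw [← hτ, ← hτ, h]))
  let key : A → {H // PlaneFour.Indep 6 H} × Equiv.Perm (Fin 6) := fun a =>
    (oval a, Equiv.ofBijective (τ a) (Finite.injective_iff_bijective.1 (hτinj a)))
  have hkey : Function.Injective key := by
    intro a b h
    have h1 : oval a = oval b := (Prod.ext_iff.1 h).1
    have h2 : τ a = τ b := congrArg (fun e : Equiv.Perm (Fin 6) => ⇑e) (Prod.ext_iff.1 h).2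
    have h3 : red a = red b := by
      have hmem : ∀ c : A, red c ∈ A := fun c => mul_mem (inv_mem (hπA _)) c.2
      have := PlaneFour.eq_one_of_fixes hM (mul_mem (inv_mem (hmem b)) (hmem a)) (fun p hp => by
        obtain ⟨i, rfl⟩ := (PlaneFour.mem_base p).1 hp
        rw [Equiv.Perm.mul_apply, ← hτ a i, h2, hτ b i]
        simp)
      exact (inv_mul_eq_one.1 this).symm
    refine Subtype.ext ?_
    simp only [red, h1] at h3
    exact mul_left_cancel h3
  refine (Nat.card_le_card_of_injective key hkey).trans (le_of_eq ?_)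
  have hov : Nat.card {H // PlaneFour.Indep 6 H} = 168 := by
    rw [← PlaneFour.ncard6]; exact Nat.card_coe_set_eq _
  rw [Nat.card_prod, hov, Nat.card_perm, Nat.card_fin]
  rfl

/-! ### `PSL(3,4)` in the automorphism group of the model -/

theorem card_PSL {F : Type} [Field F] [Fintype F] (hF : Fintype.card F = 4) :
    Nat.card (Matrix.ProjectiveSpecialLinearGroup (Fin 3) F) = 20160 := by
  have h := card_SL_eq_center_mul_PSL (n := Fin 3) (R := F)
  rw [card_center_SL, card_SL_eq_pow_mul_prod 2, Nat.card_eq_fintype_card (α := F), hF,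
    Fintype.card_fin] at h
  norm_num [Finset.prod_range_succ, Fin.sum_univ_succ] at h
  rw [Nat.card_eq_fintype_card]
  omega

theorem exists_embedding {F : Type} [Field F] [Fintype F] (hF : Fintype.card F = 4) :
    ∃ f : Matrix.ProjectiveSpecialLinearGroup (Fin 3) F →* ↥(Cfsg.setSystemAut PlaneFour.lines),
      Function.Injective f := by
  classical
  obtain ⟨ω, h0, h1, hω, h2⟩ := M21.exists_omega hF
  obtain ⟨hadd, hmul, hinj⟩ := M21.num_facts h0 h1 hω h2
  have henc := M21.line_injective hmul hinj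
  have hstab : famStab M21.setAct (M21.line ω) henc = ⊤ :=
    famStab_eq_top_of_closure _ henc (M21.closure_gen h0 h1 hω h2 hF) (by
      rintro _ ⟨n, rfl⟩ l
      exact ⟨_, M21.gen_line hadd hmul n l⟩)
  obtain ⟨g, hg⟩ := PlaneFour.exists_equiv_model (Fintype.card_fin 21) steiner_coordLines
  let f0 : Matrix.SpecialLinearGroup (Fin 3) F →* Equiv.Perm (Fin 21) :=
    g.permCongrHom.toMonoidHom.comp (famHom M21.setAct henc hstab)
  have hmem : ∀ x, f0 x ∈ Cfsg.setSystemAut PlaneFour.lines := by
    have hle : Subgroup.closure (Set.range (M21.gen ω)) ≤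
        (Cfsg.setSystemAut PlaneFour.lines).comap f0 := by
      rw [Subgroup.closure_le]
      rintro _ ⟨n, rfl⟩
      exact (PlaneFour.mem_aut_conj g hg _).1
        (mem_aut_of_sig _ n (famHom_eq _ _ _ _ _ fun i => M21.gen_line hadd hmul n i))
    intro x
    exact hle (M21.closure_gen h0 h1 hω h2 hF ▸ Subgroup.mem_top x)
  have hcen : Subgroup.center (Matrix.SpecialLinearGroup (Fin 3) F) ≤
      (f0.codRestrict _ hmem).ker := by
    intro z hz
    obtain ⟨r, -, hr⟩ := Matrix.SpecialLinearGroup.mem_center_iff.1 hz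
    have hr0 : r ≠ 0 := fun e => by
      have := z.2
      rw [← hr, e, map_zero, Matrix.det_zero] at this
      exact zero_ne_one this
    have hsurj : Function.Surjective (M21.num ω) :=
      ((Fintype.bijective_iff_injective_and_card _).2 ⟨hinj, by rw [hF, Fintype.card_fin]⟩).2
    have hz' : ∀ v : Fin 3 → F, z.1.mulVec v = r • v := fun v => by
      rw [← hr, Matrix.scalar_apply, ← Matrix.smul_one_eq_diagonal, Matrix.smul_mulVec,
        Matrix.one_mulVec]
    have hfix : ∀ l, M21.setAct z (M21.line ω l) = M21.line ω l := fun l => by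
      rw [M21.setAct_apply]
      ext w
      constructor
      · rintro ⟨_, ⟨k, rfl⟩, rfl⟩
        obtain ⟨k', hk'⟩ := hsurj (r * M21.num ω k)
        exact ⟨k', by
          show z.1.mulVec (M21.num ω k • M21.vec ω l) = _
          rw [hz', smul_smul, hk']⟩
      · rintro ⟨k, rfl⟩
        obtain ⟨k', hk'⟩ := hsurj (r⁻¹ * M21.num ω k)
        refine ⟨M21.num ω k' • M21.vec ω l, ⟨k', rfl⟩, ?_⟩
        show z.1.mulVec (M21.num ω k' • M21.vec ω l) = _
        rw [hz', smul_smul, hk', mul_inv_cancel_left₀ hr0]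
    have he : famHom M21.setAct henc hstab z = 1 :=
      Equiv.ext fun l => congrFun (famHom_eq M21.setAct henc hstab z id fun i => hfix i) l
    refine MonoidHom.mem_ker.2 (Subtype.ext ?_)
    show g.permCongrHom (famHom M21.setAct henc hstab z) = 1
    rw [he, map_one]
  refine ⟨QuotientGroup.lift _ (f0.codRestrict _ hmem) hcen, ?_⟩
  haveI : IsSimpleGroup (Matrix.ProjectiveSpecialLinearGroup (Fin 3) F) :=
    isSimpleGroup_PSL_of_three_le (ι := Fin 3) (F := F) (by simp)
  refine injective_of_simple _ (QuotientGroup.mk (M21.gen ω 0)) fun h => ?_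
  have hf : g.permCongrHom (famHom M21.setAct henc hstab (M21.gen ω 0)) = 1 :=
    congrArg Subtype.val h
  have he : famHom M21.setAct henc hstab (M21.gen ω 0) = 1 :=
    g.permCongrHom.injective (hf.trans (map_one _).symm)
  have e2 := famHom_eq M21.setAct henc hstab (M21.gen ω 0) (M21.sig 0)
    fun i => M21.gen_line hadd hmul 0 i
  rw [he] at e2
  exact absurd (fun l : Fin 21 => (congrFun e2 l).symm) (show ¬ ∀ l, M21.sig 0 l = l by decide)

/-- Two simple groups of order `20160` in a group of order at most `6 * 20160` coincide. -/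
theorem range_eq {A P Q : Type*} [Group A] [Finite A] [Group P] [IsSimpleGroup P] [Group Q]
    (f : P →* A) (g : Q →* A) (hf : Function.Injective f) (hg : Function.Injective g)
    (hP : Nat.card P = 20160) (hQ : Nat.card Q = 20160) (hA : Nat.card A ≤ 120960) :
    f.range = g.range := by
  have hcg : Nat.card g.range = 20160 := by
    rw [← hQ, Nat.card_congr (MonoidHom.ofInjective hg).toEquiv]
  have hcf : Nat.card f.range = 20160 := by
    rw [← hP, Nat.card_congr (MonoidHom.ofInjective hf).toEquiv]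
  have hidx : g.range.index ≤ 6 := by
    have h := g.range.card_mul_index
    rw [hcg] at h
    omega
  let act : P →* Equiv.Perm (A ⧸ g.range) := (MulAction.toPermHom A (A ⧸ g.range)).comp f
  have hker : act.ker = ⊤ := by
    refine act.normal_ker.eq_bot_or_eq_top.resolve_left fun hb => ?_
    have hinj : Function.Injective act := (MonoidHom.ker_eq_bot_iff act).1 hb
    have h1 := Nat.card_le_card_of_injective act hinj
    rw [hP, Nat.card_perm, ← Subgroup.index_eq_card] at h1
    have h2 : Nat.factorial g.range.index ≤ 720 := Nat.factorial_le hidx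
    omega
  refine Subgroup.eq_of_le_of_card_ge ?_ (by rw [hcf, hcg])
  rintro _ ⟨x, rfl⟩
  have hx : act x = 1 := MonoidHom.mem_ker.1 (hker ▸ Subgroup.mem_top x)
  have h3 := congrArg (fun e : Equiv.Perm (A ⧸ g.range) => e ((1 : A) : A ⧸ g.range)) hx
  have h4 : ((f x * 1 : A) : A ⧸ g.range) = ((1 : A) : A ⧸ g.range) := h3
  rw [mul_one, QuotientGroup.eq, mul_one] at h4
  simpa using h4

theorem iso {G : Type*} [Group G] [Finite G] [IsSimpleGroup G] (hG : Nat.card G = 20160)
    {Ω : Type*} [Fintype Ω] [DecidableEq Ω] [MulAction G Ω] (hΩ : Fintype.card Ω = 21)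
    {L : Set (Finset Ω)} (hL : Cfsg.IsSteinerSystem 2 5 L)
    (hinv : ∀ (g : G), ∀ B ∈ L, B.image (g • ·) ∈ L) (hne : ∃ (g : G) (x : Ω), g • x ≠ x) :
    ∃ (F : Type) (_ : Field F) (_ : Fintype F), Fintype.card F = 4 ∧
      Nonempty (G ≃* Matrix.ProjectiveSpecialLinearGroup (Fin 3) F) := by
  haveI : Fact (Nat.Prime 2) := ⟨Nat.prime_two⟩
  haveI : Fintype (GaloisField 2 2) := Fintype.ofFinite _
  have hF : Fintype.card (GaloisField 2 2) = 4 := by
    rw [← Nat.card_eq_fintype_card, GaloisField.card 2 2 two_ne_zero]; norm_num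
  refine ⟨GaloisField 2 2, inferInstance, inferInstance, hF, ?_⟩
  obtain ⟨e, he⟩ := PlaneFour.exists_equiv_model hΩ hL
  have hM : Cfsg.IsSteinerSystem 2 5 PlaneFour.lines := he ▸ steiner_image hL e
  have hmem : ∀ x : G, MulAction.toPermHom G Ω x ∈ Cfsg.setSystemAut L := fun x => by
    rw [mem_setSystemAut]
    refine Set.eq_of_subset_of_ncard_le ?_ ?_ (Set.toFinite _)
    · rintro _ ⟨B, hB, rfl⟩
      exact hinv x B hB
    · exact le_of_eq (Set.ncard_image_of_injective _
        (Finset.image_injective (MulAction.toPermHom G Ω x).injective)).symm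
  let f0 : G →* Equiv.Perm (Fin 21) :=
    e.permCongrHom.toMonoidHom.comp (MulAction.toPermHom G Ω)
  have hmem0 : ∀ x, f0 x ∈ Cfsg.setSystemAut PlaneFour.lines := fun x =>
    (PlaneFour.mem_aut_conj e he _).1 (hmem x)
  have hf : Function.Injective (f0.codRestrict _ hmem0) := by
    obtain ⟨x, y, hxy⟩ := hne
    refine injective_of_simple _ x fun h => hxy ?_
    have h1 : e.permCongrHom (MulAction.toPermHom G Ω x) = 1 := congrArg Subtype.val h
    have h2 : MulAction.toPermHom G Ω x = 1 :=
      e.permCongrHom.injective (h1.trans (map_one _).symm)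
    exact congrArg (fun σ : Equiv.Perm Ω => σ y) h2
  obtain ⟨g, hg⟩ := exists_embedding hF
  haveI : Finite ↥(Cfsg.setSystemAut PlaneFour.lines) := inferInstance
  have hr := range_eq (f0.codRestrict _ hmem0) g hf hg hG (card_PSL hF) (card_aut_le hM)
  exact ⟨(MonoidHom.ofInjective hf).trans ((MulEquiv.subgroupCongr hr).trans
    (MonoidHom.ofInjective hg).symm)⟩

theorem no_fpf {G : Type*} [Group G] [Finite G] {F : Type} [Field F] [Fintype F]
    (hF : Fintype.card F = 4) (e : G ≃* Matrix.ProjectiveSpecialLinearGroup (Fin 3) F)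
    {V : Type*} [CommGroup V] [Finite V] [Nontrivial V] {φ : G →* MulAut V}
    (hV : ∀ v : V, v * v = 1) : ¬ CIT.OddFpf φ := by
  intro h
  obtain ⟨ω, h0, h1, hω, h2⟩ := M21.exists_omega hF
  have h3 : ω * (ω * ω) = 1 := by linear_combination (ω + 1) * hω + (ω : F) * h2
  let D : Matrix.SpecialLinearGroup (Fin 3) F :=
    ⟨Matrix.diagonal ![1, ω, ω * ω], by
      simp [Matrix.det_diagonal, Fin.prod_univ_three, h3]⟩
  let C : Matrix.SpecialLinearGroup (Fin 3) F :=
    ⟨!![0, 1, 0; 0, 0, 1; 1, 0, 0], by simp [Matrix.det_fin_three]⟩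
  let a : Matrix.ProjectiveSpecialLinearGroup (Fin 3) F := QuotientGroup.mk D
  let b : Matrix.ProjectiveSpecialLinearGroup (Fin 3) F := QuotientGroup.mk C
  have hD3 : D ^ 3 = 1 := by
    refine Subtype.ext ?_
    rw [Matrix.SpecialLinearGroup.coe_pow, Matrix.SpecialLinearGroup.coe_one]
    show Matrix.diagonal ![1, ω, ω * ω] ^ 3 = 1
    rw [Matrix.diagonal_pow, ← Matrix.diagonal_one]
    congr 1
    funext i
    fin_cases i <;> simp [pow_succ, mul_assoc, h3]
  have hC3 : C ^ 3 = 1 := by
    refine Subtype.ext ?_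
    rw [Matrix.SpecialLinearGroup.coe_pow, Matrix.SpecialLinearGroup.coe_one]
    show !![(0 : F), 1, 0; 0, 0, 1; 1, 0, 0] ^ 3 = 1
    ext i j
    fin_cases i <;> fin_cases j <;> simp [pow_succ, Matrix.mul_apply, Fin.sum_univ_three]
  have hnc : ∀ (x : Matrix.SpecialLinearGroup (Fin 3) F) (i j : Fin 3),
      x ∈ Subgroup.center (Matrix.SpecialLinearGroup (Fin 3) F) → i ≠ j →
        x.1 i j = 0 ∧ x.1 i i = x.1 j j := by
    intro x i j hx hij
    obtain ⟨r, -, hr⟩ := Matrix.SpecialLinearGroup.mem_center_iff.1 hx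
    rw [← hr]
    simp [hij]
  have ha : orderOf a = 3 := by
    refine orderOf_eq_prime (by rw [← QuotientGroup.mk_pow, hD3]; rfl) fun h => ?_
    have hh := (hnc D 0 1 ((QuotientGroup.eq_one_iff D).1 h) (by decide)).2
    simp [D] at hh
    exact h1 hh.symm
  have hb : orderOf b = 3 := by
    refine orderOf_eq_prime (by rw [← QuotientGroup.mk_pow, hC3]; rfl) fun h => ?_
    have hh := (hnc C 0 1 ((QuotientGroup.eq_one_iff C).1 h) (by decide)).1
    simp [C] at hh
  have hab : Commute a b := by
    show (QuotientGroup.mk (D * C) : Matrix.ProjectiveSpecialLinearGroup (Fin 3) F) =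
      QuotientGroup.mk (C * D)
    rw [QuotientGroup.eq]
    let S : Matrix.SpecialLinearGroup (Fin 3) F :=
      ⟨Matrix.scalar (Fin 3) ω, by
        simp [Matrix.det_diagonal, Fin.prod_univ_three, pow_succ, mul_assoc, h3]⟩
    have hS : S ∈ Subgroup.center (Matrix.SpecialLinearGroup (Fin 3) F) :=
      Matrix.SpecialLinearGroup.mem_center_iff.2 ⟨ω, by simp [pow_succ, mul_assoc, h3], rfl⟩
    have hval : D * C * S = C * D := by
      refine Subtype.ext ?_
      show Matrix.diagonal ![1, ω, ω * ω] * !![0, 1, 0; 0, 0, 1; 1, 0, 0] *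
        Matrix.scalar (Fin 3) ω = !![0, 1, 0; 0, 0, 1; 1, 0, 0] * Matrix.diagonal ![1, ω, ω * ω]
      ext i j
      fin_cases i <;> fin_cases j <;>
        simp [Matrix.mul_apply, Fin.sum_univ_three, mul_assoc, h3]
    rw [← hval, inv_mul_cancel_left]
    exact hS
  have hφ : CIT.OddFpf (φ.comp e.symm.toMonoidHom) := h.comp _ e.symm.injective
  have hmem := CIT.mem_zpowers_of_commute hφ hV Nat.prime_three (by decide) ha hb hab
  obtain ⟨k, hk⟩ := Subgroup.mem_zpowers_iff.1 hmem
  have hdiag : ∀ k : ℤ, (D ^ k).1 0 1 = 0 := by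
    intro k
    have hn : ∀ n : ℕ, (D ^ n).1 0 1 = 0 := fun n => by
      rw [Matrix.SpecialLinearGroup.coe_pow]
      show (Matrix.diagonal ![1, ω, ω * ω] ^ n) 0 1 = 0
      rw [Matrix.diagonal_pow]; simp
    have hm : D ^ k = D ^ (k % 3).toNat := by
      conv_lhs => rw [← Int.emod_add_mul_ediv k 3]
      rw [zpow_add, zpow_mul, show (3 : ℤ) = ((3 : ℕ) : ℤ) from rfl, zpow_natCast D 3, hD3,
        one_zpow, mul_one, ← zpow_natCast, Int.toNat_of_nonneg (Int.emod_nonneg k (by decide))]
    rw [hm]; exact hn _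
  rw [← QuotientGroup.mk_zpow] at hk
  have hz := QuotientGroup.eq.1 hk
  set z := (D ^ k)⁻¹ * C with hzd
  have hC : C = D ^ k * z := by rw [hzd, mul_inv_cancel_left]
  obtain ⟨r, -, hr⟩ := Matrix.SpecialLinearGroup.mem_center_iff.1 hz
  have h01 := congrArg (fun x : Matrix.SpecialLinearGroup (Fin 3) F => x.1 0 1) hC
  simp only [Matrix.SpecialLinearGroup.coe_mul, ← hr] at h01
  rw [Matrix.mul_apply, Fin.sum_univ_three] at h01
  simp [C, hdiag] at h01

end Cfsg.Agent.CIT.PlaneL34
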