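import Cfsg.Agent.CIT.Pair

/-!
# A pair forces the field to have two or four elements
-/

set_option autoImplicit false
set_option linter.style.haveILetI false

namespace Cfsg.Agent.CIT

open Subgroup

universe u

variable {G : Type u} [Group G] [Finite G] {D E : Subgroup G}

theorem exists_mul_of_mem_sup (h : Pair D E) {y : G} (hy : y ∈ D ⊔ E) :
    ∃ d ∈ D, ∃ e ∈ E, y = d * e := by
  have h1 : D ⊔ E ≤ pre D (img D E) := sup_le (le_pre _) (le_pre_img h.leD)
  obtain ⟨hy1, g, hg, e⟩ := mem_pre.1 (h1 hy)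
  refine ⟨y * (g : G)⁻¹, (toOut_eq_one (g := ⟨y, hy1⟩ * g⁻¹)).1
    (by rw [map_mul, map_inv, e, mul_inv_cancel]), g, hg, by group⟩

theorem mem_of_sq_eq_one (h : Pair D E) {F : Type} [Field F] [Fintype F]
    (N : Natural (act D) (img D E) F) {y : G} (hy : y ∈ D ⊔ E) (hy2 : y * y = 1) :
    y ∈ D ∨ y ∈ E := by
  obtain ⟨d, hd, e, he, rfl⟩ := exists_mul_of_mem_sup h hy
  by_cases heD : e ∈ D
  · exact Or.inl (D.mul_mem hd heD)
  refine Or.inr (E.mul_mem ?_ he)
  have hde : Commute e d := by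
    show e * d = d * e
    calc e * d = d⁻¹ * ((d * e) * (d * e)) * e⁻¹ := by group
      _ = d⁻¹ * e⁻¹ := by rw [hy2, mul_one]
      _ = d * e := by
        rw [inv_eq_of_mul_eq_one_right (h.sqD d hd), inv_eq_of_mul_eq_one_right (h.sqE e he)]
  have hdo : d ∈ omega D := by rw [h.omega_D]; exact hd
  have h1 : (⟨d, hdo⟩ : ↥(omega D)) ∈ fix (act D) (img D E) := by
    rw [← N.fix_eq _ (toOut_mem_img (g := ⟨e, h.leD he⟩) he)
      (fun e' => heD (toOut_eq_one.1 e')), mem_fix_zpowers, act_eq_iff]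
    exact hde
  rw [← h.symm.centralizer_D]
  exact (mem_fix_img h.leD).1 h1

theorem eq_or_eq_of_le_sup (h : Pair D E) {F : Type} [Field F] [Fintype F]
    (N : Natural (act D) (img D E) F) {W : Subgroup G} (hW : W ≤ D ⊔ E)
    (hW2 : ∀ x ∈ W, x * x = 1) (hc : Nat.card D ≤ Nat.card W) : W = D ∨ W = E := by
  have hsub : W ≤ D ∨ W ≤ E := by
    by_contra hcon
    push Not at hcon
    obtain ⟨a, ha, haD⟩ := SetLike.not_le_iff_exists.1 hcon.1
    obtain ⟨b, hb, hbE⟩ := SetLike.not_le_iff_exists.1 hcon.2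
    have haE := (mem_of_sq_eq_one h N (hW ha) (hW2 a ha)).resolve_left haD
    have hbD := (mem_of_sq_eq_one h N (hW hb) (hW2 b hb)).resolve_right hbE
    rcases mem_of_sq_eq_one h N (hW (W.mul_mem ha hb)) (hW2 _ (W.mul_mem ha hb)) with h1 | h1
    · exact haD (by simpa using D.mul_mem h1 (D.inv_mem hbD))
    · exact hbE (by simpa using E.mul_mem (E.inv_mem haE) h1)
  rcases hsub with h1 | h1
  · exact Or.inl (eq_of_le_of_card_ge h1 hc)
  · exact Or.inr (eq_of_le_of_card_ge h1 (h.card_eq ▸ hc))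

/-- An element of `N(D)` normalising the Sylow `2`-subgroup `D ⊔ E` normalises `E`. -/
theorem mem_normalizer_right (h : Pair D E) {F : Type} [Field F] [Fintype F]
    (N : Natural (act D) (img D E) F) {g : G} (hg : g ∈ normalizer (D : Set G))
    (hgA : ∀ x ∈ img D E, toOut D ⟨g, hg⟩ * x * (toOut D ⟨g, hg⟩)⁻¹ ∈ img D E) :
    g ∈ normalizer (E : Set G) := by
  have hDg : D.map (MulAut.conj g).toMonoidHom = D := mem_normalizer_iff_map_conj_eq.1 hg
  have hW : E.map (MulAut.conj g).toMonoidHom ≤ D ⊔ E := by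
    rintro _ ⟨e, he, rfl⟩
    have h1 := hgA _ (toOut_mem_img (g := ⟨e, h.leD he⟩) he)
    rw [← map_inv, ← map_mul, ← map_mul] at h1
    obtain ⟨f, hf, hfe⟩ := h1
    have h2 : ((⟨g, hg⟩ * ⟨e, h.leD he⟩ * ⟨g, hg⟩⁻¹ * f⁻¹ :
        ↥(normalizer (D : Set G))) : G) ∈ D :=
      toOut_eq_one.1 (by rw [map_mul _ _ f⁻¹, map_inv _ f, hfe, mul_inv_cancel])
    have h3 := mul_mem (mem_sup_left (T := E) h2) (mem_sup_right (S := D) hf)
    simpa using h3
  have hc : Nat.card D ≤ Nat.card ↥(E.map (MulAut.conj g).toMonoidHom) := by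
    rw [h.card_eq, ← Nat.card_congr
      (equivMapOfInjective E _ (MulAut.conj g).injective).toEquiv]
  refine mem_normalizer_iff_map_conj_eq.2 ((eq_or_eq_of_le_sup h N hW ?_ hc).resolve_left ?_)
  · rintro _ ⟨e, he, rfl⟩
    rw [← map_mul, h.sqE e he, map_one]
  · intro e
    exact h.ne (map_injective (MulAut.conj g).injective (hDg.trans e.symm))

theorem Pair.card_field (h : Pair D E) (hG : IsCIT G) (hgood : Good.{u} (Nat.card G))
    {F : Type} [Field F] [Fintype F] (N : Natural (act D) (img D E) F) :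
    Fintype.card F = 2 ∨ Fintype.card F = 4 := by
  classical
  obtain ⟨F', iF', iT', hP'⟩ := h.symm.exists_pairNat hG hgood
  obtain ⟨N'⟩ := hP'.natD
  haveI := h.essD.omega_nontrivial
  haveI := h.essE.omega_nontrivial
  have hcube : ∀ a : Fˣ, a ^ 3 = 1 := by
    intro a
    obtain ⟨d₁, hd₁, hd₁u⟩ := mem_img.1 (N'.u_mem 1)
    have hd₁o : (d₁ : G) ∈ omega D := by rw [h.omega_D]; exact hd₁
    obtain ⟨a₀, ha₀, b, hb, hab⟩ :=
      Natural.exists_split N (act_fpf hG D) (⟨(d₁ : G), hd₁o⟩ : ↥(omega D))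
    have hbr : ∀ (f : G) (hf : f ∈ E) (t : Fˣ), toOut D ⟨f, h.leD hf⟩ = N.u (t : F) →
        (act D (N.h t) b : G) = f * (d₁ : G) * f⁻¹ * (d₁ : G) := by
      intro f hf t hft
      rw [← Natural.nn_eq N h.essD.pCore_out (act_fpf hG D) omega_sq t hb]
      have h1 : act D (N.u t) ⟨(d₁ : G), hd₁o⟩ * ⟨(d₁ : G), hd₁o⟩ = N.nn t b := by
        rw [← hab, map_mul, Natural.fix_u N ha₀, Natural.nn, mul_mul_mul_comm, omega_sq, one_mul]
      rw [← h1, ← hft]
      rfl
    have hb1 : b ≠ 1 := by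
      intro e
      rw [e, map_one, mul_one] at hab
      have h1 : (d₁ : G) ∈ centralizer (E : Set G) := (mem_fix_img h.leD).1 (hab ▸ ha₀)
      rw [h.symm.centralizer_D] at h1
      exact Natural.u_ne_one N' (t := 1) one_ne_zero (by rw [← hd₁u]; exact toOut_eq_one.2 h1)
    obtain ⟨e₁, he₁, he₁u⟩ := mem_img.1 (N.u_mem 1)
    obtain ⟨g, hg⟩ := toOut_surjective D (N.h a)
    have hgE : (g : G) ∈ normalizer (E : Set G) := mem_normalizer_right h N g.2 (fun x hx => by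
      obtain ⟨t, rfl⟩ := (N.mem x).1 hx
      show toOut D g * N.u t * (toOut D g)⁻¹ ∈ _
      rw [hg, Natural.h_u, mul_inv_cancel_right]
      exact N.u_mem _)
    have hxA : ∀ x ∈ img E D,
        toOut E ⟨g, hgE⟩ * x * (toOut E ⟨g, hgE⟩)⁻¹ ∈ img E D := by
      rintro _ ⟨d, hd, rfl⟩
      rw [← map_inv, ← map_mul, ← map_mul]
      exact toOut_mem_img ((mem_normalizer_iff.1 g.2 _).1 hd)
    have he₁o : (e₁ : G) ∈ omega E := by rw [h.symm.omega_D]; exact he₁
    have hinv := Natural.inverse_action N' h.essE.pCore_out (act_fpf hG E) omega_sq hxA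
      (⟨(e₁ : G), he₁o⟩ : ↥(omega E))
    rw [← hd₁u] at hinv
    have hinv' : (g : G) * ((d₁ : G) * ((g : G) * e₁ * (g : G)⁻¹) * (d₁ : G)⁻¹ *
        ((g : G) * e₁ * (g : G)⁻¹)) * (g : G)⁻¹ = (d₁ : G) * e₁ * (d₁ : G)⁻¹ * e₁ :=
      congrArg Subtype.val hinv
    have hgeE : (g : G) * e₁ * (g : G)⁻¹ ∈ E := (mem_normalizer_iff.1 hgE _).1 he₁
    have hgeu : toOut D ⟨(g : G) * e₁ * (g : G)⁻¹, h.leD hgeE⟩ = N.u ((a * a : Fˣ) : F) := by
      rw [show (⟨(g : G) * e₁ * (g : G)⁻¹, h.leD hgeE⟩ : ↥(normalizer (D : Set G))) =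
        g * e₁ * g⁻¹ from rfl, map_mul, map_mul, map_inv, hg, he₁u, Natural.h_u,
        mul_inv_cancel_right, mul_one]
      rfl
    have hswap : ∀ (f : G), f ∈ E → (d₁ : G) * f * (d₁ : G)⁻¹ * f =
        (f * (d₁ : G) * f⁻¹ * (d₁ : G))⁻¹ := by
      intro f hf
      rw [inv_eq_of_mul_eq_one_right (h.sqD _ hd₁), inv_eq_of_mul_eq_one_right (h.sqE f hf),
        mul_inv_rev, mul_inv_rev, mul_inv_rev, inv_eq_of_mul_eq_one_right (h.sqD _ hd₁),
        inv_eq_of_mul_eq_one_right (h.sqE f hf)]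
      group
    have hone := hbr e₁ he₁ 1 (by rw [Units.val_one]; exact he₁u)
    have htwo := hbr _ hgeE (a * a) hgeu
    have hsq : ∀ v : ↥(omega D), (v : G)⁻¹ = v := fun v => inv_eq_of_mul_eq_one_right v.2.2.1
    rw [hswap _ hgeE, hswap _ he₁, ← hone, ← htwo, hsq, hsq] at hinv'
    have hfin : act D (N.h (a * (a * a))) b = act D (N.h 1) b := by
      rw [← Natural.h_mul, map_mul, MulAut.mul_apply, ← hg]
      exact Subtype.ext hinv'
    have h3 := Natural.h_inj N (act_fpf hG D) hb1 hfin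
    rw [pow_succ, pow_two, mul_assoc]
    exact h3
  obtain ⟨c, hc⟩ := IsCyclic.exists_generator (α := Fˣ)
  have h1 : orderOf c ∣ 3 := orderOf_dvd_of_pow_eq_one (hcube c)
  rw [orderOf_eq_card_of_forall_mem_zpowers hc, Nat.card_eq_fintype_card, Fintype.card_units] at h1
  have h2 := Fintype.one_lt_card (α := F)
  rcases (Nat.dvd_prime Nat.prime_three).1 h1 with h3 | h3 <;> omega

end Cfsg.Agent.CIT
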