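import Cfsg.Agent.CIT.TISylow
import Cfsg.Agent.CharDeep.SzUniq.Main
import Cfsg.Agent.PF14.Compose
import Cfsg.Prelude.Def_Exceptional

/-!
# Simple CIT-groups with trivially intersecting Sylow 2-subgroups
-/

set_option autoImplicit false
set_option linter.style.haveILetI false

namespace Cfsg.Agent.CIT

open Subgroup CharDeep

theorem ti_simple {G : Type*} [Group G] [Finite G] [IsSimpleGroup G]
    (hG : ∃ a b : G, a * b ≠ b * a) (hX : IsCIT G) (hTI : TI G) :
    (∃ (F : Type) (_ : Field F) (_ : Fintype F), (∃ n : ℕ, Fintype.card F = 2 ^ n) ∧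
        Nonempty (G ≃* Matrix.ProjectiveSpecialLinearGroup (Fin 2) F)) ∨
      (Cfsg.Lie.IsoSuzuki G ∧ Cfsg.IsSuzuki G) := by
  classical
  haveI : Fact (Nat.Prime 2) := ⟨Nat.prime_two⟩
  obtain ⟨S⟩ := (inferInstance : Nonempty (Sylow 2 G))
  have hns : ¬ Group.IsSolvable G := fun hs => by
    obtain ⟨a, b, hab⟩ := hG
    exact hab (IsSimpleGroup.comm_iff_isSolvable.2 hs a b)
  have h2 : 2 ∣ Nat.card G := by
    by_contra h
    exact hns (PF14.feitThompson G (Nat.odd_iff.2 (Nat.two_dvd_ne_zero.1 h)))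
  have hSbot : (S : Subgroup G) ≠ ⊥ := fun e => by
    have := S.dvd_card_of_dvd_card h2
    rw [e, Subgroup.card_bot] at this
    omega
  have hStop : (S : Subgroup G) ≠ ⊤ := fun e => hns (by
    have h := S.2.isNilpotent
    haveI : Group.IsNilpotent (S : Subgroup G) := h
    exact Group.isSolvable_of_surjective (f := (S : Subgroup G).subtype)
      fun g => ⟨⟨g, e ▸ mem_top g⟩, rfl⟩)
  have hSn : ¬ (S : Subgroup G).Normal := fun h => h.eq_bot_or_eq_top.elim hSbot hStop
  have hN : normalizer ((S : Subgroup G) : Set G) ≠ (S : Subgroup G) := by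
    intro hN
    obtain ⟨N, -, hNn, hNc⟩ :=
      Frobenius.exists_frobeniusKernel_subgroup (hTI.isFrobeniusComplement hSbot hStop hN)
    rcases hNn.eq_bot_or_eq_top with e | e
    · have h := hNc.sup_eq_top
      rw [e, bot_sup_eq] at h
      exact hStop h
    · have h := hNc.disjoint
      rw [e, top_disjoint] at h
      exact hSbot h
  haveI : Nontrivial (S : Subgroup G) := (Subgroup.nontrivial_iff_ne_bot _).2 hSbot
  obtain ⟨w, hw⟩ := exists_prime_orderOf_dvd_card' (G := center (S : Subgroup G)) 2 (by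
    haveI := S.2.center_nontrivial
    obtain ⟨n, hn⟩ := IsPGroup.iff_card.1 (S.2.to_subgroup (center (S : Subgroup G)))
    rw [hn]
    refine dvd_pow_self 2 fun h0 => ?_
    have := Finite.one_lt_card (α := center (S : Subgroup G))
    rw [hn, h0, pow_zero] at this
    omega)
  set t : G := ((w : (S : Subgroup G)) : G) with htdef
  have ht : t ∈ (center (S : Subgroup G)).map (S : Subgroup G).subtype := ⟨w, w.2, rfl⟩
  have ht2 : orderOf t = 2 := by rw [htdef, Subgroup.orderOf_coe, Subgroup.orderOf_coe, hw]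
  have hD := hTI.data hX ht ht2 hN hSn
  have ht1 : t ≠ 1 := hD.t_ne
  have hcent : CA.cent t = (S : Subgroup G) := hTI.centralizer_eq hX ht ht1
  by_cases hcomm : ∀ x ∈ CA.cent t, ∀ y ∈ CA.cent t, Commute x y
  · left
    have hCA : CA.Data G t :=
      { inv := fun x hx hx1 a ha c hc => by
          obtain ⟨g, hg⟩ := CC.conj_exists hD hx hx1
          have := hcomm _ (hg ▸ CA.conj_mem_cent.2 ha) _ (hg ▸ CA.conj_mem_cent.2 hc)
          exact (Commute.conj_iff g).1 this
        self := fun a ha ha1 => le_antisymm (hD.sub a ha ha1)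
          fun x hx => CA.mem_cent.2 (hcomm x hx a ha)
        t_ne := ht1
        t_sq := hD.t_sq
        sylow := ⟨S, hcent.ge, w.1.2⟩
        ne_top := hD.ne_top
        ne_cent := hD.ne_cent }
    obtain ⟨-, K, iK, iKK, f, -, hK, -, ⟨e⟩⟩ := CA.psl_of_data hCA
    exact ⟨K, iK, iKK, ⟨f, hK⟩, ⟨e⟩⟩
  · right
    obtain ⟨-, hZ, hΩ, hU', b, hab, hT⟩ := CC.zassenhaus hD
    haveI := Fintype.ofFinite G
    haveI := Fintype.ofFinite (G ⧸ CA.nrm t)
    have hU2 : IsPGroup 2 (CA.cent t) := hcent ▸ S.2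
    push Not at hcomm
    obtain ⟨x, hx, y, hy, hxy⟩ := hcomm
    have hna : ∃ u v : CA.cent t, u * v ≠ v * u :=
      ⟨⟨x, hx⟩, ⟨y, hy⟩, fun h => hxy (congrArg Subtype.val h)⟩
    refine ⟨SzUniq.isoSuzuki hZ hab hU' hU2 hna, ?_⟩
    obtain ⟨m, hm, -, -, -, -, hcard⟩ := ZassNormal.TwoKer.numerics hZ hab hU' hU2 hna
    exact ⟨inferInstance, m, hm, hcard⟩

end Cfsg.Agent.CIT
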