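import Cfsg.Agent.CIT.Exists
import Cfsg.Agent.CIT.QLeFour
import Cfsg.Agent.CIT.PairSimple
import Cfsg.Agent.CIT.FourCase
import Cfsg.Agent.CIT.DihedralTail
import Cfsg.Agent.CIT.TISimple
import Cfsg.Agent.CIT.PlaneL34
import Cfsg.Agent.Lib.LinearGroup.Card

/-!
# The classification of simple CIT-groups
-/

set_option autoImplicit false
set_option linter.style.haveILetI false

namespace Cfsg.Agent.CIT

open Subgroup

universe u

/-- The simple groups arising from a pair. -/
theorem pair_cases {G : Type u} [Group G] [Finite G] [IsSimpleGroup G] (hG : IsCIT G)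
    (hgood : Good.{u} (Nat.card G)) {D E : Subgroup G} (h : Pair D E) :
    (∃ (F : Type) (_ : Field F) (_ : Fintype F), 7 ≤ Fintype.card F ∧
      (Fintype.card F = 9 ∨
        ((Fintype.card F).Prime ∧ ∃ k : ℕ, Fintype.card F = 2 ^ k + 1 ∨ Fintype.card F + 1 = 2 ^ k)) ∧
      Nonempty (G ≃* Matrix.ProjectiveSpecialLinearGroup (Fin 2) F)) ∨
    (∃ (F : Type) (_ : Field F) (_ : Fintype F), Fintype.card F = 4 ∧
      Nonempty (G ≃* Matrix.ProjectiveSpecialLinearGroup (Fin 3) F)) := by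
  obtain ⟨F, iF, iT, hP⟩ := h.exists_pairNat hG hgood
  obtain ⟨N⟩ := hP.natD
  rcases h.card_field hG hgood N with hq | hq
  · left
    have h4 : Nat.card D = 4 := by rw [hP.card_D, hq]; norm_num
    have h8 : 8 ∣ Nat.card G := by
      have h1 := card_subgroup_dvd_card (D ⊔ E)
      rwa [hP.card_sup, hq] at h1
    obtain ⟨K, iK, iKT, hK, ⟨e⟩⟩ := four_tail hG h.sqD h4 h.centralizer_D h8
    refine ⟨K, iK, iKT, ?_, hK, ⟨e⟩⟩
    by_contra h7
    push Not at h7
    have hc := LinearGroup.gcd_mul_card_PSL_two (F := K)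
    rw [← Nat.card_congr e.toEquiv, Nat.card_eq_fintype_card (α := K)] at hc
    rcases hK with h9 | ⟨hp, -⟩
    · omega
    · have h2 := hp.two_le
      interval_cases hq' : Fintype.card K <;> norm_num at hc hp <;> omega
  · right
    have h16 : Nat.card D = 16 := by rw [hP.card_D, hq]; norm_num
    obtain ⟨hc, Ω, iΩ, iD, iA, L, hΩ, hL, hinv, hne⟩ := four_case hG hgood h h16
    exact PlaneL34.iso hc hΩ hL hinv hne

/-- The induction. -/
theorem good (m : ℕ) : Good.{u} m := by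
  induction m using Nat.strong_induction_on with
  | _ m ih =>
    intro H _ _ hH hcit hO V _ _ _ φ hV hfpf
    by_contra hTI
    have hgood : Good.{u} (Nat.card H) := ih _ hH
    obtain ⟨D, E, h⟩ := exists_pair hcit hO hgood hTI
    haveI := h.isSimpleGroup hcit hO hgood φ hV hfpf
    rcases pair_cases hcit hgood h with ⟨F, iF, iT, h7, hF, ⟨e⟩⟩ | ⟨F, iF, iT, hF, ⟨e⟩⟩
    · exact psl_odd_no_fpf (hF.imp id And.left) h7 e hV hfpf
    · exact PlaneL34.no_fpf hF e hV hfpf

/-- Simple CIT-groups, with the Suzuki groups up to isomorphism. -/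
theorem classify {G : Type*} [Group G] [Finite G] [IsSimpleGroup G]
    (hG : ∃ a b : G, a * b ≠ b * a)
    (hCIT : ∀ t : G, orderOf t = 2 → IsPGroup 2 (Subgroup.centralizer ({t} : Set G))) :
    (∃ (F : Type) (_ : Field F) (_ : Fintype F),
        (Fintype.card F = 9 ∨ (∃ n : ℕ, Fintype.card F = 2 ^ n) ∨
          ((Fintype.card F).Prime ∧ ∃ k : ℕ, Fintype.card F = 2 ^ k + 1 ∨ Fintype.card F + 1 = 2 ^ k)) ∧
        Nonempty (G ≃* Matrix.ProjectiveSpecialLinearGroup (Fin 2) F)) ∨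
    (∃ (F : Type) (_ : Field F) (_ : Fintype F), Fintype.card F = 4 ∧
        Nonempty (G ≃* Matrix.ProjectiveSpecialLinearGroup (Fin 3) F)) ∨
    (Cfsg.Lie.IsoSuzuki G ∧ Cfsg.IsSuzuki G) := by
  haveI : Fact (Nat.Prime 2) := ⟨Nat.prime_two⟩
  by_cases hTI : TI G
  · rcases ti_simple hG hCIT hTI with ⟨F, iF, iT, hn, he⟩ | h
    · exact Or.inl ⟨F, iF, iT, Or.inr (Or.inl hn), he⟩
    · exact Or.inr (Or.inr h)
  have hO : Cfsg.pCore 2 G = ⊥ := by
    refine ((inferInstance : (Cfsg.pCore 2 G).Normal).eq_bot_or_eq_top).resolve_right fun htop => ?_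
    refine hTI fun S R hne => absurd ?_ hne
    have h1 := fun T : Sylow 2 G => top_le_iff.1 (htop ▸ Thompson.pCore_le_sylow T)
    exact Sylow.ext ((h1 S).trans (h1 R).symm)
  obtain ⟨D, E, h⟩ := exists_pair hCIT hO (good _) hTI
  rcases pair_cases hCIT (good _) h with ⟨F, iF, iT, -, hF, he⟩ | hL
  · refine Or.inl ⟨F, iF, iT, ?_, he⟩
    rcases hF with h9 | hp
    · exact Or.inl h9
    · exact Or.inr (Or.inr hp)
  · exact Or.inr (Or.inl hL)

end Cfsg.Agent.CIT
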