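import Cfsg.Agent.CIT.Basic

/-!
# Modules of exponent two on which every element of odd order acts without fixed points
-/

set_option autoImplicit false
set_option linter.style.haveILetI false

namespace Cfsg.Agent.CIT

open Subgroup

variable {X V : Type*} [Group X] [CommGroup V]

/-- The elements of `V` fixed by the subgroup `A`. -/
def fix (φ : X →* MulAut V) (A : Subgroup X) : Subgroup V where
  carrier := {v | ∀ a ∈ A, φ a v = v}
  one_mem' := fun a _ => map_one (φ a)
  mul_mem' := fun {x y} hx hy a ha => by rw [map_mul, hx a ha, hy a ha]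
  inv_mem' := fun {x} hx a ha => by rw [map_inv, hx a ha]

theorem mem_fix {φ : X →* MulAut V} {A : Subgroup X} {v : V} :
    v ∈ fix φ A ↔ ∀ a ∈ A, φ a v = v := Iff.rfl

theorem mem_fix_zpowers {φ : X →* MulAut V} {u : X} {v : V} :
    v ∈ fix φ (zpowers u) ↔ φ u v = v := by
  refine ⟨fun h => h u (mem_zpowers u), fun h a ha => ?_⟩
  obtain ⟨j, rfl⟩ := mem_zpowers_iff.1 ha
  have : u ∈ (MulAction.stabilizer (MulAut V) v).comap φ := h
  exact (zpow_mem this j : _)

theorem fix_antitone (φ : X →* MulAut V) {A B : Subgroup X} (h : A ≤ B) : fix φ B ≤ fix φ A :=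
  fun _ hv a ha => hv a (h ha)

/-- `φ` is faithful on every element of odd order in the strongest sense. -/
def OddFpf (φ : X →* MulAut V) : Prop :=
  ∀ x : X, Odd (orderOf x) → x ≠ 1 → ∀ v : V, φ x v = v → v = 1

variable {φ : X →* MulAut V}

theorem OddFpf.comp {Y : Type*} [Group Y] (h : OddFpf φ) (f : Y →* X) (hf : Function.Injective f) :
    OddFpf (φ.comp f) := fun y ho hy v hv =>
  h (f y) (by rwa [orderOf_injective f hf]) (fun e => hy (hf (by rw [e, map_one]))) v hv

theorem sq_ne_one_of_odd {x : X} (ho : Odd (orderOf x)) (h1 : x ≠ 1) : x * x ≠ 1 := by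
  intro h
  have h2 : orderOf x ∣ 2 := orderOf_dvd_of_pow_eq_one (by rw [pow_two, h])
  rcases (Nat.dvd_prime Nat.prime_two).1 h2 with e | e
  · exact h1 (orderOf_eq_one_iff.1 e)
  · rw [e] at ho; exact absurd ho (by decide)

theorem apply_apply {u : X} (hu : u * u = 1) (v : V) : φ u (φ u v) = v := by
  rw [← MulAut.mul_apply, ← map_mul, hu, map_one, MulAut.one_apply]

/-- An involution inverting an element of odd order fixes exactly the square root of `V`. -/
theorem half (hfpf : OddFpf φ) [Finite V] (hV : ∀ v : V, v * v = 1) {u f : X} (hu : u * u = 1)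
    (hf : Odd (orderOf f)) (hf1 : f ≠ 1) (hinv : u * f * u⁻¹ = f⁻¹) :
    Nat.card (fix φ (zpowers u)) ^ 2 = Nat.card V ∧
      (∀ v, φ u v * v ∈ fix φ (zpowers u)) ∧
      ∀ w ∈ fix φ (zpowers u), ∃ v, φ u v * v = w := by
  classical
  set C := fix φ (zpowers u) with hC
  let δ : V →* V :=
    { toFun := fun v => φ u v * v
      map_one' := by simp
      map_mul' := fun a b => by rw [map_mul, mul_mul_mul_comm] }
  have hker : δ.ker = C := by
    ext v
    rw [MonoidHom.mem_ker, hC, mem_fix_zpowers]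
    show φ u v * v = 1 ↔ _
    rw [mul_eq_one_iff_eq_inv, inv_eq_of_mul_eq_one_right (hV v)]
  have hrange : δ.range ≤ C := by
    rintro _ ⟨v, rfl⟩
    rw [hC, mem_fix_zpowers]
    show φ u (φ u v * v) = φ u v * v
    rw [map_mul, apply_apply hu, mul_comm]
  -- `C ∩ f C = 1`
  have hinj : Function.Injective fun p : C × C => (p.1 : V) * φ f (p.2 : V) := by
    rintro ⟨a, b⟩ ⟨a', b'⟩ h
    have key : ∀ c d : V, c ∈ C → d ∈ C → c = φ f d → c = 1 := by
      intro c d hc hd h
      refine hfpf (f * f) ?_ (sq_ne_one_of_odd hf hf1) c ?_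
      · exact hf.of_dvd_nat (by rw [← pow_two]; exact orderOf_pow_dvd 2)
      · have h1 : φ u c = c := mem_fix_zpowers.1 hc
        have h2 : φ u d = d := mem_fix_zpowers.1 hd
        have hu' : u⁻¹ = u := inv_eq_of_mul_eq_one_right hu
        have h3 : φ f⁻¹ d = c := by
          calc φ f⁻¹ d = φ (u * f * u⁻¹) d := by rw [hinv]
            _ = φ u (φ f (φ u d)) := by rw [hu', map_mul, map_mul]; rfl
            _ = c := by rw [h2, ← h, h1]
        have h4 : φ f c = d := by
          rw [← h3, ← MulAut.mul_apply, ← map_mul, mul_inv_cancel, map_one, MulAut.one_apply]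
        rw [map_mul, MulAut.mul_apply, h4, ← h]
    simp only at h
    have h1 : (a : V) / a' = φ f ((b' : V) / b) := by
      rw [map_div, div_eq_div_iff_mul_eq_mul, h, mul_comm]
    have h2 := key _ _ (C.div_mem a.2 a'.2) (C.div_mem b'.2 b.2) h1
    have ha : a = a' := Subtype.ext (div_eq_one.1 h2)
    refine Prod.ext ha (Subtype.ext ?_)
    rw [ha] at h
    exact (φ f).injective (mul_left_cancel h)
  have hle : Nat.card C * Nat.card C ≤ Nat.card V := by
    rw [← Nat.card_prod]
    exact Nat.card_le_card_of_injective _ hinj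
  have heq : Nat.card C * Nat.card δ.range = Nat.card V := by
    rw [← hker, ← Subgroup.index_ker, Subgroup.card_mul_index]
  have hr : δ.range = C := by
    refine Subgroup.eq_of_le_of_card_ge hrange ?_
    exact Nat.le_of_mul_le_mul_left (hle.trans heq.ge) Nat.card_pos
  refine ⟨by rw [pow_two, ← heq, hr], fun v => hrange ⟨v, rfl⟩, fun w hw => ?_⟩
  rw [← hr] at hw
  exact hw

theorem pos_of_nontrivial [Finite V] [Nontrivial V] : 2 ≤ Nat.card V := Finite.one_lt_card

/-- A subgroup of odd order acts semiregularly on the non-trivial elements. -/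
theorem card_dvd_of_odd (hfpf : OddFpf φ) [Finite V] (H : Subgroup X) [Finite H]
    (hH : Odd (Nat.card H)) : Nat.card H ∣ Nat.card V - 1 := by
  classical
  haveI := Fintype.ofFinite V
  let act : MulAction H {v : V // v ≠ 1} :=
    { smul := fun h v => ⟨φ (h : X) v, fun e => v.2 ((φ (h : X)).injective (by rw [e, map_one]))⟩
      one_smul := fun v => Subtype.ext (by show φ ((1 : H) : X) v = v; simp)
      mul_smul := fun a b v => Subtype.ext (by
        show φ ((a * b : H) : X) v = φ (a : X) (φ (b : X) v); simp) }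
  have hstab : ∀ v : {v : V // v ≠ 1}, MulAction.stabilizer H v = ⊥ := fun v => by
    refine (Subgroup.eq_bot_iff_forall _).2 fun h hh => ?_
    by_contra h1
    exact v.2 (hfpf (h : X) (hH.of_dvd_nat (Subgroup.orderOf_dvd_natCard H h.2))
      (fun e => h1 (Subtype.ext e)) v (congrArg Subtype.val hh))
  have hcard : Nat.card {v : V // v ≠ 1} = Nat.card V - 1 := by
    rw [Nat.card_eq_fintype_card, Nat.card_eq_fintype_card, Fintype.card_subtype_compl,
      Fintype.card_subtype_eq]
  rw [← hcard, Nat.card_congr (MulAction.selfEquivSigmaOrbits H {v : V // v ≠ 1}), Nat.card_sigma]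
  refine Finset.dvd_sum fun ω _ => dvd_of_eq ?_
  have h := MulAction.index_stabilizer H ω.out
  rw [hstab, Subgroup.index_bot] at h
  rw [Nat.card_coe_set_eq, ← h]

/-- Two commuting elements of the same odd prime order generate a cyclic group. -/
theorem mem_zpowers_of_commute (hfpf : OddFpf φ) [Nontrivial V] (hV : ∀ v : V, v * v = 1)
    {p : ℕ} (hp : p.Prime) (hp2 : p ≠ 2) {a b : X} (ha : orderOf a = p) (hb : orderOf b = p)
    (hc : Commute a b) : b ∈ zpowers a := by
  classical
  by_contra hb'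
  have hodd : Odd p := hp.odd_of_ne_two hp2
  have hpow : ∀ c : X, c ^ p = 1 → c ≠ 1 → ∀ v : V, ∏ i ∈ Finset.range p, φ (c ^ i) v = 1 := by
    intro c hc1 hne v
    refine hfpf c ?_ hne _ ?_
    · exact hodd.of_dvd_nat (orderOf_dvd_of_pow_eq_one hc1)
    · rw [map_prod]
      simp only [← MulAut.mul_apply, ← map_mul, ← pow_succ']
      have h1 : (∏ i ∈ Finset.range p, φ (c ^ (i + 1)) v) * φ (c ^ 0) v =
          (∏ i ∈ Finset.range p, φ (c ^ i) v) * φ (c ^ p) v := by
        rw [← Finset.prod_range_succ' (fun i => φ (c ^ i) v), Finset.prod_range_succ]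
      rw [pow_zero, hc1] at h1
      exact mul_right_cancel h1
  have ha1 : a ^ p = 1 := ha ▸ pow_orderOf_eq_one a
  have hb1 : b ^ p = 1 := hb ▸ pow_orderOf_eq_one b
  have hcol : ∀ j : ℕ, ∀ v : V, ∏ i ∈ Finset.range p, φ ((a ^ j * b) ^ i) v = 1 := by
    intro j v
    refine hpow _ ?_ ?_ v
    · rw [(hc.pow_left j).mul_pow, ← pow_mul, mul_comm j p, pow_mul, ha1, one_pow, hb1, one_mul]
    · intro e
      exact hb' (by rw [eq_inv_of_mul_eq_one_right e]; exact inv_mem (pow_mem (mem_zpowers a) j))
  obtain ⟨v, hv⟩ := exists_ne (1 : V)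
  have h0 : ∏ j ∈ Finset.range p, ∏ i ∈ Finset.range p, φ ((a ^ j * b) ^ i) v = 1 :=
    Finset.prod_eq_one fun j _ => hcol j v
  rw [Finset.prod_comm] at h0
  have hrow : ∀ i ∈ Finset.range p,
      (∏ j ∈ Finset.range p, φ ((a ^ j * b) ^ i) v) = if i = 0 then v ^ p else 1 := by
    intro i hi
    split_ifs with h
    · subst h; simp
    · have h1 : (∏ j ∈ Finset.range p, φ ((a ^ j * b) ^ i) v) =
          φ (b ^ i) (∏ j ∈ Finset.range p, φ ((a ^ i) ^ j) v) := by
        rw [map_prod]
        refine Finset.prod_congr rfl fun j _ => ?_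
        rw [← MulAut.mul_apply, ← map_mul, (hc.pow_left j).mul_pow, ← pow_mul, mul_comm j i,
          pow_mul, ((hc.pow_left i).pow_left j).pow_right i |>.eq]
      rw [h1, hpow (a ^ i) (by rw [← pow_mul, mul_comm, pow_mul, ha1, one_pow]) ?_ v, map_one]
      refine fun e => h (Nat.eq_zero_of_dvd_of_lt ?_ (Finset.mem_range.1 hi))
      exact ha ▸ orderOf_dvd_of_pow_eq_one e
  rw [Finset.prod_congr rfl hrow, Finset.prod_ite_eq' (Finset.range p) 0,
    if_pos (Finset.mem_range.2 hp.pos)] at h0
  obtain ⟨m, hm⟩ := hodd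
  rw [hm, pow_succ, pow_mul, pow_two, hV, one_pow, one_mul] at h0
  exact hv h0

end Cfsg.Agent.CIT
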