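import Cfsg.Agent.CIT.Push

/-!
# Pushing up produces a pair
-/

set_option autoImplicit false
set_option linter.style.haveILetI false

namespace Cfsg.Agent.CIT

open Subgroup
open scoped MatrixGroups commutatorElement

universe u

variable {G : Type u} [Group G] [Finite G]

theorem pre_img_eq {Q Y A : Subgroup G} (hQY : Q ≤ Y) (hY : Y ≤ normalizer (Q : Set G))
    (hY2 : IsPGroup 2 Y) (hAY : A ≤ Y) {F : Type} [Field F] [Fintype F]
    (N : Natural (act Q) (img Q A) F) : img Q Y = img Q A ∧ pre Q (img Q A) = Y := by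
  obtain ⟨T, hT⟩ := N.exists_sylow
  have h : img Q Y = img Q A := by
    rw [← hT]
    exact T.is_maximal' (img_isPGroup hY2) (hT.le.trans (img_mono hAY))
  exact ⟨h, by rw [← h, pre_img hQY hY]⟩

/-- Pushing up: `Q` is elementary. -/
theorem pushed (hG : IsCIT G) (hgood : Good.{u} (Nat.card G)) {Q Y : Subgroup G} (hQ : Ess Q)
    (hQY : Q ≤ Y) (hY : Y ≤ normalizer (Q : Set G)) (hY2 : IsPGroup 2 Y)
    (hmax : ∀ R : Subgroup G, Y ≤ R → R ≤ normalizer (Q : Set G) → IsPGroup 2 R → R = Y)
    (hg : ¬ normalizer (Y : Set G) ≤ normalizer (Q : Set G)) {F : Type} [Field F] [Fintype F]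
    (N : Natural (act Q) (img Q Y) F) : ∀ x ∈ Q, x * x = 1 := by
  classical
  haveI : Fact (Nat.Prime 2) := ⟨Nat.prime_two⟩
  haveI := N.char2
  set K := normalizer (Q : Set G) with hK
  set Q' : Subgroup K := Q.subgroupOf K with hQ'
  haveI : Q'.Normal := inferInstanceAs (Q.subgroupOf (normalizer (Q : Set G))).Normal
  have hQ'2 : IsPGroup 2 Q' := hQ.two.comap_subtype
  have hcoreEq : Cfsg.pCore 2 K = Q' := by
    refine le_antisymm (fun x hx => ?_) (Thompson.le_pCore inferInstance hQ'2)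
    have h1 := hQ.core ((Cfsg.pCore 2 K).map K.subtype)
      (fun y hy => ⟨⟨y, le_normalizer hy⟩, Thompson.le_pCore (N := Q') inferInstance hQ'2 hy, rfl⟩)
      (map_subtype_le _) (Thompson.isPGroup_pCore.map _) ?_
    · exact mem_subgroupOf.2 (h1.le ⟨x, hx, rfl⟩)
    · refine le_trans ?_ (le_normalizer_map K.subtype)
      intro g hg'
      exact ⟨⟨g, hg'⟩, by rw [normalizer_eq_top]; exact mem_top _, rfl⟩
  let S : Sylow 2 K :=
    { toSubgroup := Y.subgroupOf K
      isPGroup' := hY2.comap_subtype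
      is_maximal' := fun {R} hR hle => by
        have h1 := hmax (R.map K.subtype)
          (fun y hy => ⟨⟨y, hY hy⟩, hle hy, rfl⟩) (map_subtype_le _) (hR.map _)
        exact le_antisymm (fun r hr => h1.le ⟨r, hr, rfl⟩) hle }
  obtain ⟨n, hn, hcard⟩ := N.card_eq_two_pow
  haveI hO := hQ.pCore_out
  set B : Subgroup K := (normalizer (img Q Y : Set (Out Q))).comap (toOut Q) with hB
  have hSB : (S : Subgroup K) ≤ B := fun y hy => le_normalizer (toOut_mem_img hy)
  have hkerB : (toOut Q).ker ≤ B := fun y hy => by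
    show toOut Q y ∈ normalizer (img Q Y : Set (Out Q))
    rw [show toOut Q y = 1 from hy]
    exact one_mem _
  have hcases : ∀ M : Subgroup K, (toOut Q).ker ≤ M → (S : Subgroup K) ≤ M → M = ⊤ ∨ M ≤ B := by
    intro M hkM hSM
    rcases N.le_normalizer_or_eq_top (M := M.map (toOut Q))
      (fun x hx => by obtain ⟨g, hg', rfl⟩ := mem_img.1 hx; exact ⟨g, hSM hg', rfl⟩) with h | h
    · refine Or.inl ?_
      rw [← comap_map_eq_self (f := toOut Q) hkM, h, comap_top]
    · exact Or.inr fun x hx => h ⟨x, hx, rfl⟩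
  have hBco : IsCoatom B := by
    refine ⟨fun h => N.normalizer_ne_top hO ?_, fun M hM => ?_⟩
    · rw [eq_top_iff]
      intro x _
      obtain ⟨g, rfl⟩ := toOut_surjective Q x
      exact h.ge (mem_top g)
    · exact (hcases M (hkerB.trans hM.le) (hSB.trans hM.le)).resolve_right hM.not_ge
  have hsetup : LocalEven61.PUSetup S Q' F n :=
    { charP_cond := by
        intro x hx
        rw [hcoreEq] at hx ⊢
        refine mem_subgroupOf.2 (hQ.cent (mem_centralizer_iff.2 fun y hy => ?_))
        exact congrArg Subtype.val (mem_centralizer_iff.1 hx ⟨y, le_normalizer hy⟩ hy)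
      unique_max := ⟨B, ⟨hBco, hSB⟩, fun M ⟨hM, hSM⟩ => by
        have hkM : (toOut Q).ker ≤ M := by
          rw [toOut_ker]
          exact le_trans (fun y hy => hQY hy) hSM
        exact ((hM.le_iff.1 ((hcases M hkM hSM).resolve_left hM.1)).resolve_left hBco.1).symm⟩
      one_le := hn
      card_field := hcard
      iso := ⟨N.pslEquiv⟩ }
  have hd : ∀ T : Subgroup ↥(S : Subgroup K), T ≠ ⊥ → T.Characteristic →
      ¬ (T.map (S : Subgroup K).subtype).Normal := by
    intro T hT hTc hTn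
    set C := (T.map (S : Subgroup K).subtype).map K.subtype with hC
    refine no_invariant hG hgood hQ hQY hY hY2 hmax hg (C := C) ?_ ?_ ?_ ?_
    · rw [hC, Ne, map_eq_bot_iff_of_injective _ K.subtype_injective,
        map_eq_bot_iff_of_injective _ (S : Subgroup K).subtype_injective]
      exact hT
    · rintro _ ⟨_, ⟨s, _, rfl⟩, rfl⟩
      exact s.2
    · intro f hf
      have hmemY : ∀ y ∈ Y, f * y * f⁻¹ ∈ Y := fun y hy => (mem_normalizer_iff.1 hf y).1 hy
      have hmemY' : ∀ y ∈ Y, f⁻¹ * y * f ∈ Y := fun y hy => (mem_normalizer_iff.1 hf _).2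
        (by rwa [show f * (f⁻¹ * y * f) * f⁻¹ = y by group])
      let σ : ↥(S : Subgroup K) ≃* ↥(S : Subgroup K) :=
        { toFun := fun s => ⟨⟨f * (s : K) * f⁻¹, hY (hmemY _ s.2)⟩, hmemY _ s.2⟩
          invFun := fun s => ⟨⟨f⁻¹ * (s : K) * f, hY (hmemY' _ s.2)⟩, hmemY' _ s.2⟩
          left_inv := fun s => Subtype.ext (Subtype.ext (by simp [mul_assoc]))
          right_inv := fun s => Subtype.ext (Subtype.ext (by simp [mul_assoc]))
          map_mul' := fun a b => Subtype.ext (Subtype.ext (by simp [mul_assoc])) }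
      have hσ := (characteristic_iff_map_eq.1 hTc) σ
      refine mem_normalizer_iff_map_conj_eq.2 ?_
      rw [hC, Subgroup.map_map, Subgroup.map_map]
      conv_rhs => rw [← hσ]
      rw [Subgroup.map_map, Subgroup.map_map]
      rfl
    · refine le_trans ?_ (le_normalizer_map K.subtype)
      intro f hf
      exact ⟨⟨f, hf⟩, by rw [normalizer_eq_top_iff.2 hTn]; exact mem_top _, rfl⟩
  obtain ⟨ρ, C, V, D, -, hdist⟩ := PushUp62.pushing_up_one hsetup hd (by norm_num)
  have hVQ : V ≤ Q' := hdist.V_le.trans hcoreEq.le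
  -- an element of odd order
  obtain ⟨c, hc, hc1⟩ : ∃ c : K, Odd (orderOf (c : G)) ∧ (c : G) ≠ 1 := by
    have hu := N.u_mul 1 1
    rw [CharTwo.add_self_eq_zero] at hu
    have hu0 : N.u (0 : F) = 1 := by rw [Natural.u, PLocalB.upper_zero, map_one]
    obtain ⟨f, hf, hf1, -⟩ := exists_inverted_odd hO
      (orderOf_of_mul_self (hu.trans hu0) (N.u_ne_one one_ne_zero))
    obtain ⟨g, hgf, hgo⟩ := exists_odd_lift hf
    exact ⟨g, hgo, fun e => hf1 (by rw [← hgf]; exact toOut_eq_one.2 (e ▸ one_mem Q))⟩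
  have hcomm1 : ∀ x : K, x ∈ Q' → Commute c x → x = 1 := by
    intro x hx hcx
    by_contra hx1
    obtain ⟨k, hk⟩ := two_pow_of_isPGroup hQ.two hx
    exact hc1 (hG.eq_one_of_commute' (fun e => hx1 (Subtype.ext e)) hk hc
      (hcx.map K.subtype))
  have hCbot : C = ⊥ := (Subgroup.eq_bot_iff_forall _).2 fun x hx => hcomm1 x (hVQ (D.le hx)) (by
    have h1 := commutator_mem_commutator hx (mem_top c)
    rw [hdist.cent, mem_bot, commutatorElement_eq_one_iff_mul_comm] at h1
    exact h1.symm)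
  have hVe : ∀ x ∈ V, x * x = 1 := by
    intro x hx
    have h1 : D.crd (x * x) = 0 := by
      rw [D.crd_mul hx hx]
      funext i
      exact CharTwo.add_self_eq_zero _
    have h2 := (D.crd_eq_zero (mul_mem hx hx)).1 h1
    rwa [hCbot, mem_bot] at h2
  suffices h : Q' ≤ V by
    intro x hx
    exact congrArg Subtype.val (hVe (⟨x, le_normalizer hx⟩ : K) (h hx))
  by_contra hlt
  -- a subgroup of `Q` containing `V` with index two, normalised by `S`
  haveI hVn : V.Normal := D.normX
  set VS := V.subgroupOf (S : Subgroup K) with hVS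
  set QS := Q'.subgroupOf (S : Subgroup K) with hQS
  haveI : VS.Normal := hVn.subgroupOf _
  haveI : QS.Normal := Normal.subgroupOf inferInstance _
  set π := QuotientGroup.mk' VS with hπ
  haveI : (QS.map π).Normal := Normal.map inferInstance π (QuotientGroup.mk'_surjective _)
  have hne : QS.map π ≠ ⊥ := by
    rw [Ne, Subgroup.map_eq_bot_iff, QuotientGroup.ker_mk']
    intro h
    exact hlt fun x hx => h (show (⟨x, hQY hx⟩ : ↥(S : Subgroup K)) ∈ QS from hx)
  have hSq : IsPGroup 2 (↥(S : Subgroup K) ⧸ VS) := S.2.to_quotient VS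
  obtain ⟨t, htm, ht⟩ := exists_involution_mem
    (H := QS.map π ⊓ center (↥(S : Subgroup K) ⧸ VS)) (hSq.to_subgroup _)
    (PGroup.inf_center_ne_bot hSq hne)
  haveI : (zpowers t).Normal := by
    refine ⟨fun x hx g => ?_⟩
    have hcen : x ∈ center (↥(S : Subgroup K) ⧸ VS) := (zpowers_le.2 htm.2) hx
    rw [mem_center_iff.1 hcen g, mul_inv_cancel_right]
    exact hx
  set TS := (zpowers t).comap π with hTS
  set T := TS.map (S : Subgroup K).subtype with hT
  have hVT : V ≤ T := fun v hv => ⟨⟨v, hQY (hVQ hv)⟩, by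
    show π _ ∈ zpowers t
    rw [show π ⟨v, hQY (hVQ hv)⟩ = 1 from (QuotientGroup.eq_one_iff _).2 hv]
    exact one_mem _, rfl⟩
  have hTQ : T ≤ Q' := by
    rintro _ ⟨s, hs, rfl⟩
    obtain ⟨q, hq, hqs⟩ : π s ∈ QS.map π := (zpowers_le.2 htm.1) hs
    have h1 : q⁻¹ * s ∈ VS := QuotientGroup.eq.1 hqs
    have h2 : ((q * (q⁻¹ * s) : ↥(S : Subgroup K)) : K) ∈ Q' := mul_mem hq (hVQ h1)
    simpa using h2
  have hTn : T.Normal := hdist.normal_of T hVT (hTQ.trans hcoreEq.ge) (by
    refine le_trans ?_ (le_normalizer_map (S : Subgroup K).subtype)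
    intro s hs
    exact ⟨⟨s, hs⟩, by rw [normalizer_eq_top]; exact mem_top _, rfl⟩)
  -- the odd element fixes a point of `T` outside `V`
  obtain ⟨p, hp, hpd⟩ := Nat.exists_prime_and_dvd (n := orderOf c) (fun e => hc1 (by
    rw [orderOf_eq_one_iff.1 e]; rfl))
  haveI : Fact p.Prime := ⟨hp⟩
  set d := c ^ (orderOf c / p) with hd'
  have hdo : orderOf d = p := orderOf_pow_orderOf_div (orderOf_pos c).ne' hpd
  have hpodd : Odd p := by
    rw [Subgroup.orderOf_coe] at hc
    exact hc.of_dvd_nat hpd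
  let W : Set K := {x | x ∈ T ∧ x ∉ V}
  let act' : MulAction (zpowers d) W :=
    { smul := fun g x => ⟨(g : K) * x * (g : K)⁻¹, hTn.conj_mem _ x.2.1 _, fun h => x.2.2 (by
        have := hVn.conj_mem _ h (g : K)⁻¹
        simpa [mul_assoc] using this)⟩
      one_smul := fun x => Subtype.ext (by show (1 : K) * x * (1 : K)⁻¹ = x; simp)
      mul_smul := fun g h x => Subtype.ext (by
        show ((g * h : zpowers d) : K) * x * ((g * h : zpowers d) : K)⁻¹ =
          (g : K) * ((h : K) * x * (h : K)⁻¹) * (g : K)⁻¹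
        rw [Subgroup.coe_mul]; group) }
  have hWc : Nat.card W = Nat.card V := by
    have h1 : Nat.card T = 2 * Nat.card V := by
      have h2 : Nat.card TS = 2 * Nat.card VS := by
        rw [hTS, card_eq_card_quotient_mul_card_subgroup (VS.subgroupOf ((zpowers t).comap π))]
        rw [Nat.card_congr (subgroupOfEquivOfLe (fun x hx => by
          show π x ∈ zpowers t
          rw [show π x = 1 from (QuotientGroup.eq_one_iff x).2 hx]
          exact one_mem _ : VS ≤ (zpowers t).comap π)).toEquiv]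
        congr 1
        show VS.relIndex ((zpowers t).comap π) = 2
        have hk : π.ker = VS := QuotientGroup.ker_mk' VS
        refine (congrArg (fun W : Subgroup _ => W.relIndex ((zpowers t).comap π))
          (hk.symm.trans (MonoidHom.comap_bot π).symm)).trans ?_
        rw [relIndex_comap, map_comap_eq_self_of_surjective (QuotientGroup.mk'_surjective _),
          relIndex_bot_left, Nat.card_zpowers, ht]
      rw [hT, ← Nat.card_congr (equivMapOfInjective TS _ (S : Subgroup K).subtype_injective).toEquiv,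
        h2, hVS, Nat.card_congr (subgroupOfEquivOfLe (fun v hv => hQY (hVQ hv) :
          V ≤ (S : Subgroup K))).toEquiv]
    have h3 : W = (T : Set K) \ (V : Set K) := rfl
    rw [Nat.card_coe_set_eq, h3, Set.ncard_diff hVT (Set.toFinite _), ← Nat.card_coe_set_eq,
      ← Nat.card_coe_set_eq]
    show Nat.card T - Nat.card V = Nat.card V
    omega
  obtain ⟨⟨x, hxT, hxV⟩, hfix⟩ :=
    ((IsPGroup.of_card (n := 1) (by rw [Nat.card_zpowers, hdo, pow_one]) :
      IsPGroup p (zpowers d))).nonempty_fixed_point_of_prime_not_dvd_card W (by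
      rw [hWc]
      obtain ⟨j, hj⟩ := IsPGroup.iff_card.1 (hQ'2.to_le hVQ)
      rw [hj]
      exact fun h => by
        have := (Nat.prime_dvd_prime_iff_eq hp Nat.prime_two).1 (hp.dvd_of_dvd_pow h)
        rw [this] at hpodd
        exact absurd hpodd (by decide))
  have hdx : Commute d x := mul_inv_eq_iff_eq_mul.1 (congrArg Subtype.val (hfix ⟨d, mem_zpowers d⟩))
  obtain ⟨k, hk⟩ := two_pow_of_isPGroup hQ.two (hTQ hxT)
  have h1 : (d : G) = 1 := hG.eq_one_of_commute' (x := (x : G))
    (fun e => hxV (by rw [show x = 1 from Subtype.ext e]; exact one_mem V)) hk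
    (by rw [Subgroup.orderOf_coe, hdo]; exact hpodd) (hdx.map K.subtype)
  rw [show d = 1 from Subtype.ext h1, orderOf_one] at hdo
  exact hp.one_lt.ne hdo

/-- An essential subgroup whose Sylow subgroup has a larger normaliser gives a pair. -/
theorem exists_pair_of_normalizer (hG : IsCIT G) (hgood : Good.{u} (Nat.card G))
    {Q Y : Subgroup G} (hQ : Ess Q) (hY : Y ≤ normalizer (Q : Set G)) (hY2 : IsPGroup 2 Y)
    (hmax : ∀ R : Subgroup G, Y ≤ R → R ≤ normalizer (Q : Set G) → IsPGroup 2 R → R = Y)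
    (hg : ¬ normalizer (Y : Set G) ≤ normalizer (Q : Set G)) :
    ∃ D E : Subgroup G, Pair D E := by
  haveI : Fact (Nat.Prime 2) := ⟨Nat.prime_two⟩
  have hQY : Q ≤ Y := le_sup_right.trans (hmax (Y ⊔ Q) le_sup_left (sup_le hY le_normalizer)
    (hY2.to_sup_of_normal_right' hQ.two hY)).le
  obtain ⟨A, hAY, hA2, hAQ, hoff⟩ := exists_offender hG hgood hQ hQY hY hY2 hmax hg
  obtain ⟨F, iF, iT, ⟨N⟩⟩ := hQ.natural_img hG hgood (hAY.trans hY) hA2 hAQ hoff
  have hQ2 := pushed hG hgood hQ hQY hY hY2 hmax hg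
    (F := F) ((pre_img_eq hQY hY hY2 hAY N).1.symm ▸ N)
  obtain ⟨g, hgY, hgQ⟩ := SetLike.not_le_iff_exists.1 hg
  have hYg := mem_normalizer_iff_map_conj_eq.1 hgY
  refine ⟨Q, Q.map (MulAut.conj g).toMonoidHom,
    ⟨fun e => hgQ (mem_normalizer_iff_map_conj_eq.2 e.symm), hQ, hQ.map _, hQ2, ?_, ?_, ?_, ?_⟩⟩
  · rintro _ ⟨x, hx, rfl⟩
    rw [← map_mul, hQ2 x hx, map_one]
  · exact Nat.card_congr (equivMapOfInjective Q _ (MulAut.conj g).injective).toEquiv
  · exact ((Subgroup.map_mono hQY).trans hYg.le).trans hY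
  · refine hQY.trans (hYg.ge.trans ?_)
    rw [← map_equiv_normalizer_eq]
    exact Subgroup.map_mono hY

end Cfsg.Agent.CIT
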