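import Cfsg.Agent.LocalEven61.PSLSylow
import Cfsg.Agent.LocalEven61.SL2Unipotent

/-!
# Identities in `SL(2, F)` in characteristic two
-/

set_option autoImplicit false

namespace Cfsg.Agent.CIT

open scoped MatrixGroups
open Cfsg.Agent.PLocalB (upper lower)

variable {F : Type*} [Field F]

/-- The diagonal matrix with entries `a` and `a⁻¹`. -/
def dg (a : Fˣ) : SL(2, F) := ⟨!![(a : F), 0; 0, ((a⁻¹ : Fˣ) : F)], by simp [Matrix.det_fin_two]⟩

/-- The matrix exchanging the two basis vectors. -/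
def wl [CharP F 2] : SL(2, F) :=
  ⟨!![0, 1; 1, 0], by simp [Matrix.det_fin_two, CharTwo.neg_eq]⟩

@[simp] theorem coe_dg (a : Fˣ) :
    (dg a : Matrix (Fin 2) (Fin 2) F) = !![(a : F), 0; 0, ((a⁻¹ : Fˣ) : F)] := rfl

@[simp] theorem coe_wl [CharP F 2] : (wl : SL(2, F)).1 = !![(0 : F), 1; 1, 0] := rfl

theorem dg_mul (a b : Fˣ) : dg a * dg b = dg (a * b) := by
  apply Subtype.ext
  rw [Matrix.SpecialLinearGroup.coe_mul, coe_dg, coe_dg, coe_dg, Matrix.mul_fin_two]
  simp [mul_comm]

theorem dg_one : dg (1 : Fˣ) = 1 := by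
  apply Subtype.ext
  rw [coe_dg, Matrix.SpecialLinearGroup.coe_one, Matrix.one_fin_two]
  simp

theorem dg_pow (a : Fˣ) (n : ℕ) : dg a ^ n = dg (a ^ n) := by
  induction n with
  | zero => rw [pow_zero, pow_zero, dg_one]
  | succ n ih => rw [pow_succ, pow_succ, ih, dg_mul]

theorem dg_injective : Function.Injective (dg (F := F)) := fun a b h => by
  have := congrArg (fun g : SL(2, F) => g.1 0 0) h
  exact Units.ext (by simpa using this)

theorem dg_upper (a : Fˣ) (t : F) : dg a * upper t = upper ((a : F) * a * t) * dg a := by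
  apply Subtype.ext
  rw [Matrix.SpecialLinearGroup.coe_mul, Matrix.SpecialLinearGroup.coe_mul, coe_dg,
    PLocalB.coe_upper, PLocalB.coe_upper, Matrix.mul_fin_two, Matrix.mul_fin_two]
  simp only [Units.val_inv_eq_inv_val]
  congr 1
  ext i j
  fin_cases i <;> fin_cases j <;> simp
  field_simp

variable [CharP F 2]

theorem wl_mul_wl : (wl : SL(2, F)) * wl = 1 := by
  apply Subtype.ext
  rw [Matrix.SpecialLinearGroup.coe_mul, coe_wl, Matrix.mul_fin_two,
    Matrix.SpecialLinearGroup.coe_one, Matrix.one_fin_two]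
  simp

theorem wl_dg (a : Fˣ) : wl * dg a = dg a⁻¹ * wl := by
  apply Subtype.ext
  rw [Matrix.SpecialLinearGroup.coe_mul, Matrix.SpecialLinearGroup.coe_mul, coe_wl, coe_dg, coe_dg,
    Matrix.mul_fin_two, Matrix.mul_fin_two]
  simp

theorem chevalley (a : Fˣ) :
    upper (a : F) * (wl * upper ((a⁻¹ : Fˣ) : F) * wl) * upper (a : F) = dg a * wl := by
  apply Subtype.ext
  simp only [Matrix.SpecialLinearGroup.coe_mul, coe_wl, PLocalB.coe_upper, coe_dg,
    Matrix.mul_fin_two]
  ext i j
  fin_cases i <;> fin_cases j <;> simp [CharTwo.add_self_eq_zero]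

theorem three_cycle :
    (upper (1 : F) * (wl * upper 1 * wl)) ^ 3 = 1 ∧ upper (1 : F) * (wl * upper 1 * wl) ≠ 1 := by
  constructor
  · apply Subtype.ext
    simp only [Matrix.SpecialLinearGroup.coe_mul, coe_wl, PLocalB.coe_upper, pow_succ, pow_zero,
      one_mul, Matrix.mul_fin_two, Matrix.SpecialLinearGroup.coe_one, Matrix.one_fin_two]
    ext i j
    fin_cases i <;> fin_cases j <;> simp [CharTwo.add_self_eq_zero]
  · intro h
    have := congrArg (fun g : SL(2, F) => g.1 0 0) h
    simp [CharTwo.add_self_eq_zero, Matrix.mul_apply, Fin.sum_univ_two] at this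

/-- What normalises the upper unitriangular group is upper triangular. -/
theorem exists_upper_dg {g : SL(2, F)} {t : F} (h : g * upper 1 * g⁻¹ = upper t) :
    ∃ (s : F) (a : Fˣ), g = upper s * dg a := by
  have h10 : g.1 1 0 = 0 := by
    have e : (g * upper (1 : F) * g⁻¹).1 1 0 = -(g.1 1 0 * g.1 1 0) := by
      rw [Matrix.SpecialLinearGroup.coe_mul, Matrix.SpecialLinearGroup.coe_mul,
        Matrix.SpecialLinearGroup.coe_inv, Matrix.adjugate_fin_two, PLocalB.coe_upper]
      simp [Matrix.mul_apply, Fin.sum_univ_two]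
      ring
    rw [h] at e
    simpa using e.symm
  have hdet := g.2
  rw [Matrix.det_fin_two, h10, mul_zero, sub_zero] at hdet
  refine ⟨g.1 0 1 * g.1 0 0, Units.mkOfMulEqOne _ _ hdet, ?_⟩
  apply Subtype.ext
  rw [Matrix.SpecialLinearGroup.coe_mul, PLocalB.coe_upper, coe_dg, Matrix.mul_fin_two]
  ext i j
  fin_cases i <;> fin_cases j <;> simp [Units.mkOfMulEqOne, h10]
  all_goals linear_combination (-(g.1 0 1)) * hdet

end Cfsg.Agent.CIT
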