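import Cfsg.Agent.CIT.TISylow
import Cfsg.Agent.CIT.SL2Facts
import Cfsg.Agent.Lib.LinearGroup.SmallPSL

/-!
# Offenders force the natural module of `SL(2, 2 ^ n)`
-/

set_option autoImplicit false
set_option linter.style.haveILetI false

namespace Cfsg.Agent.CIT

open Subgroup
open scoped MatrixGroups
open Cfsg.Agent.PLocalB (upper lower)

/-- `X` is `SL(2, F)`, `A` a Sylow `2`-subgroup of it and `V` its natural module. -/
structure Natural {X V : Type*} [Group X] [CommGroup V] (φ : X →* MulAut V) (A : Subgroup X)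
    (F : Type) [Field F] [Fintype F] where
  char2 : CharP F 2
  ψ : SL(2, F) →* X
  bij : Function.Bijective ψ
  mem : ∀ x : X, x ∈ A ↔ ∃ t : F, ψ (upper t) = x
  card_A : Nat.card A = Fintype.card F
  card_V : Nat.card V = Fintype.card F ^ 2
  card_fix : Nat.card (fix φ A) = Fintype.card F
  fix_eq : ∀ a ∈ A, a ≠ 1 → fix φ (zpowers a) = fix φ A

theorem arith {m a : ℕ} (ha : 1 ≤ a) (ham : a ≤ m) (h : 2 ^ m + 1 ∣ 2 ^ (2 * a) - 1) : a = m := by
  by_contra hne
  rcases Nat.lt_or_ge m (2 * a) with h2 | h2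
  · obtain ⟨j, hj⟩ : ∃ j, 2 * a = m + j := ⟨2 * a - m, by omega⟩
    have hjm : j < m := by omega
    have h3 : ((2 ^ m + 1 : ℕ) : ℤ) ∣ ((2 ^ (2 * a) - 1 : ℕ) : ℤ) := Int.natCast_dvd_natCast.2 h
    rw [Nat.cast_sub Nat.one_le_two_pow] at h3
    push_cast at h3
    have h4 : (2 ^ m + 1 : ℤ) ∣ 2 ^ j + 1 := by
      have := dvd_sub (dvd_mul_right (2 ^ m + 1 : ℤ) (2 ^ j)) h3
      rwa [hj, pow_add, show ((2 : ℤ) ^ m + 1) * 2 ^ j - (2 ^ m * 2 ^ j - 1) = 2 ^ j + 1 by ring]
        at this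
    have h5 := Int.le_of_dvd (by positivity) h4
    have h6 : (2 : ℤ) ^ j < 2 ^ m := pow_lt_pow_right₀ (by norm_num) hjm
    omega
  · have h3 := Nat.pow_le_pow_right two_pos h2
    have h4 : 1 < 2 ^ (2 * a) := Nat.one_lt_two_pow (by omega)
    have h5 := Nat.le_of_dvd (by omega) h
    omega

section

variable {X V : Type*} [Group X] [Finite X] [CommGroup V] [Finite V] [Nontrivial V]
  {φ : X →* MulAut V}

theorem injective_of_fpf (hfpf : OddFpf φ) (hO : Cfsg.pCore 2 X = ⊥) : Function.Injective φ := by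
  haveI : Fact (Nat.Prime 2) := ⟨Nat.prime_two⟩
  rw [← MonoidHom.ker_eq_bot_iff, ← le_bot_iff, ← hO]
  refine Thompson.le_pCore inferInstance (IsPGroup.iff_orderOf.2 fun ⟨x, hx⟩ => ?_)
  rw [Subgroup.orderOf_mk]
  obtain ⟨k, m, hm, hkm⟩ := Nat.exists_eq_two_pow_mul_odd (orderOf_pos x).ne'
  obtain ⟨v, hv⟩ := exists_ne (1 : V)
  have h1 : x ^ 2 ^ k = 1 := by
    by_contra h
    have ho : Odd (orderOf (x ^ 2 ^ k)) := by
      rw [orderOf_pow, hkm, Nat.gcd_eq_right (Dvd.intro _ rfl),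
        Nat.mul_div_cancel_left _ (pow_pos two_pos k)]
      exact hm
    refine hv (hfpf _ ho h v ?_)
    rw [map_pow, show φ x = 1 from hx, one_pow, MulAut.one_apply]
  obtain ⟨l, -, hl⟩ := (Nat.dvd_prime_pow Nat.prime_two).1 (orderOf_dvd_of_pow_eq_one h1)
  exact ⟨l, hl⟩

theorem isPGroup_of_sq (hV : ∀ v : V, v * v = 1) : IsPGroup 2 V :=
  fun v => ⟨1, by rw [pow_one, pow_two, hV]⟩

theorem mulComm_of_sq {A : Subgroup X} (hA : ∀ a ∈ A, a * a = 1) {a b : X} (ha : a ∈ A)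
    (hb : b ∈ A) : Commute a b := by
  have h := hA _ (A.mul_mem ha hb)
  show a * b = b * a
  rw [← inv_eq_of_mul_eq_one_right h, mul_inv_rev, inv_eq_of_mul_eq_one_right (hA a ha),
    inv_eq_of_mul_eq_one_right (hA b hb)]

/-- The parametrisation with `A` as the image of the upper unitriangular group. -/
theorem exists_param {F : Type} [Field F] [Fintype F] [CharP F 2] (e : SL(2, F) ≃* X)
    {A : Subgroup X} (hA : IsPGroup 2 A) (hcard : Nat.card A = Fintype.card F)
    (hsyl : ∀ S : Sylow 2 X, Nat.card S = Fintype.card F) :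
    ∃ ψ : SL(2, F) →* X, Function.Bijective ψ ∧ ∀ x : X, x ∈ A ↔ ∃ t : F, ψ (upper t) = x := by
  haveI : Fact (Nat.Prime 2) := ⟨Nat.prime_two⟩
  obtain ⟨S, hS⟩ := hA.exists_le_sylow
  have hAS : A = (S : Subgroup X) := Subgroup.eq_of_le_of_card_ge hS (by rw [hcard]; exact (hsyl S).le)
  set U := (LocalEven61.upperGroup F).map e.toMonoidHom with hU
  have hUc : Nat.card U = Fintype.card F := by
    rw [hU, ← Nat.card_congr (Subgroup.equivMapOfInjective _ _ e.injective).toEquiv,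
      LocalEven61.card_upperGroup, Nat.card_eq_fintype_card]
  obtain ⟨l, hl⟩ := IsPGroup.iff_card.1 S.2
  have hUp : IsPGroup 2 U := IsPGroup.of_card (n := l) (by rw [hUc, ← hsyl S]; exact hl)
  obtain ⟨R, hR⟩ := hUp.exists_le_sylow
  have hUR : U = (R : Subgroup X) := Subgroup.eq_of_le_of_card_ge hR (by rw [hUc]; exact (hsyl R).le)
  obtain ⟨g, hg⟩ := MulAction.exists_smul_eq X R S
  refine ⟨(MulAut.conj g).toMonoidHom.comp e.toMonoidHom,
    (MulAut.conj g).bijective.comp e.bijective, fun x => ?_⟩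
  have hA' : A = U.map (MulAut.conj g).toMonoidHom := by
    rw [hAS, ← hg, Sylow.coe_subgroup_smul, hUR]
    rfl
  rw [hA', hU, Subgroup.map_map]
  constructor
  · rintro ⟨y, ⟨t, rfl⟩, rfl⟩
    exact ⟨Multiplicative.toAdd t, rfl⟩
  · rintro ⟨t, rfl⟩
    exact ⟨upper t, ⟨Multiplicative.ofAdd t, rfl⟩, rfl⟩

theorem exists_natural (hX : IsCIT X) (hO : Cfsg.pCore 2 X = ⊥) (hTI : TI X) (hfpf : OddFpf φ)
    (hV : ∀ v : V, v * v = 1) (A : Subgroup X) (hA : ∀ a ∈ A, a * a = 1) (hA1 : A ≠ ⊥)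
    (hoff : Nat.card V ≤ Nat.card A * Nat.card (fix φ A)) :
    ∃ (F : Type) (_ : Field F) (_ : Fintype F), Nonempty (Natural φ A F) := by
  classical
  haveI : Fact (Nat.Prime 2) := ⟨Nat.prime_two⟩
  have hA2 : IsPGroup 2 A := fun a => ⟨1, Subtype.ext (by
    rw [pow_one, pow_two, Subgroup.coe_mul, hA a a.2, Subgroup.coe_one])⟩
  obtain ⟨⟨a₀, ha₀⟩, ha₀1⟩ := Subgroup.ne_bot_iff_exists_ne_one.1 hA1
  have hsqrt : ∀ a ∈ A, a ≠ 1 → Nat.card (fix φ (zpowers a)) ^ 2 = Nat.card V := by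
    intro a ha ha1
    obtain ⟨f, hf, hf1, hinv⟩ := exists_inverted_odd hO (orderOf_of_mul_self (hA a ha) ha1)
    exact (half hfpf hV (hA a ha) hf hf1 hinv).1
  set s := Nat.card (fix φ (zpowers a₀)) with hs
  have hs2 : s ^ 2 = Nat.card V := hsqrt a₀ ha₀ fun e => ha₀1 (Subtype.ext e)
  have hZs : ∀ a ∈ A, a ≠ 1 → Nat.card (fix φ (zpowers a)) = s := fun a ha ha1 =>
    Nat.pow_left_injective two_ne_zero ((hsqrt a ha ha1).trans hs2.symm)
  have hle : ∀ a ∈ A, fix φ A ≤ fix φ (zpowers a) := fun a ha =>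
    fix_antitone φ (Subgroup.zpowers_le.2 ha)
  have hZle : Nat.card (fix φ A) ≤ s :=
    Subgroup.card_le_of_le (hle a₀ ha₀)
  have hsA : s ≤ Nat.card A := by
    refine Nat.le_of_mul_le_mul_right ?_ (show 0 < s from Nat.card_pos)
    calc s * s = Nat.card V := by rw [← pow_two, hs2]
      _ ≤ Nat.card A * Nat.card (fix φ A) := hoff
      _ ≤ Nat.card A * s := Nat.mul_le_mul_left _ hZle
  obtain ⟨k, hk⟩ := IsPGroup.iff_card.1 ((isPGroup_of_sq hV).to_subgroup (fix φ (zpowers a₀)))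
  rw [← hs] at hk
  have hk1 : 1 ≤ k := by
    by_contra h
    have hk0 : k = 0 := by omega
    have h1 := pos_of_nontrivial (V := V)
    rw [← hs2, hk, hk0] at h1
    omega
  -- it suffices to find the isomorphism and that `A` has order `s`
  suffices h : ∃ (F : Type) (_ : Field F) (_ : Fintype F) (_ : CharP F 2) (_ : SL(2, F) ≃* X),
      Fintype.card F = s ∧ Nat.card A = s ∧ ∀ S : Sylow 2 X, Nat.card S = s by
    obtain ⟨F, iF, iT, iC, e, hF, hAs, hsyl⟩ := h
    obtain ⟨ψ, hψ, hmem⟩ := exists_param e hA2 (hAs.trans hF.symm) fun S => (hsyl S).trans hF.symm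
    have hZ : Nat.card (fix φ A) = s := by
      refine le_antisymm hZle (Nat.le_of_mul_le_mul_left ?_ (show 0 < s from Nat.card_pos))
      calc s * s = Nat.card V := by rw [← pow_two, hs2]
        _ ≤ Nat.card A * Nat.card (fix φ A) := hoff
        _ = s * Nat.card (fix φ A) := by rw [hAs]
    exact ⟨F, iF, iT, ⟨⟨iC, ψ, hψ, hmem, hAs.trans hF.symm, by rw [hF, hs2], hZ.trans hF.symm,
      fun a ha ha1 => (Subgroup.eq_of_le_of_card_ge (hle a ha) (by rw [hZs a ha ha1, hZ])).symm⟩⟩⟩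
  rcases Nat.lt_or_ge k 2 with hk2 | hk2
  · -- `V` is a four-group
    have hs' : s = 2 := by rw [hk, show k = 1 by omega]; rfl
    have hinj := injective_of_fpf hfpf hO
    obtain ⟨f, hf, hf1, -⟩ :=
      exists_inverted_odd hO (orderOf_of_mul_self (hA a₀ ha₀) fun e => ha₀1 (Subtype.ext e))
    let W := {v : V // v ≠ 1}
    have hW : Nat.card W = 3 := by
      haveI := Fintype.ofFinite V
      rw [Nat.card_eq_fintype_card, Fintype.card_subtype_compl, Fintype.card_subtype_eq,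
        ← Nat.card_eq_fintype_card, ← hs2, hs']
      norm_num
    let act : MulAction X W :=
      { smul := fun x v => ⟨φ x v, fun e => v.2 ((φ x).injective (by rw [e, map_one]))⟩
        one_smul := fun v => Subtype.ext (by show φ (1 : X) v = v; simp)
        mul_smul := fun a b v => Subtype.ext (by
          show φ (a * b) v = φ a (φ b v); simp) }
    let eW : W ≃ Fin 3 := (Finite.equivFinOfCardEq hW)
    let π : X →* Equiv.Perm (Fin 3) := (eW.permCongrHom).toMonoidHom.comp (MulAction.toPermHom X W)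
    have hπ : Function.Injective π := by
      refine eW.permCongrHom.injective.comp ?_
      intro x y h
      refine hinj (MulEquiv.ext fun v => ?_)
      by_cases hv : v = 1
      · rw [hv, map_one, map_one]
      · exact congrArg Subtype.val (Equiv.congr_fun h ⟨v, hv⟩)
    have h6 : Nat.card X ∣ 6 := by
      have := Subgroup.card_dvd_of_injective π hπ
      rwa [Nat.card_perm, Nat.card_fin] at this
    have h2 : 2 ∣ Nat.card X := orderOf_of_mul_self (hA a₀ ha₀) (fun e => ha₀1 (Subtype.ext e)) ▸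
      orderOf_dvd_natCard a₀
    have h3 : Nat.card X ≠ 2 := fun e => by
      have h1 : orderOf f ∣ 2 := e ▸ orderOf_dvd_natCard f
      rcases (Nat.dvd_prime Nat.prime_two).1 h1 with h' | h'
      · exact hf1 (orderOf_eq_one_iff.1 h')
      · rw [h'] at hf; exact absurd hf (by decide)
    have hX6 : Nat.card X = 6 := by
      have := Nat.le_of_dvd (by norm_num) h6
      interval_cases hc : Nat.card X <;> omega
    have hbij : Function.Bijective π := (Nat.bijective_iff_injective_and_card _).2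
      ⟨hπ, by rw [hX6, Nat.card_perm, Nat.card_fin]; rfl⟩
    obtain ⟨e₂⟩ := LinearGroup.psl_two_two (F := ZMod 2) (Nat.card_zmod 2)
    have hsyl : ∀ S : Sylow 2 X, Nat.card S = 2 := fun S => by
      rw [S.card_eq_multiplicity, hX6]
      rw [show (6 : ℕ) = 2 * 3 from rfl, Nat.factorization_mul (by norm_num) (by norm_num),
        Finsupp.add_apply, Nat.Prime.factorization_self Nat.prime_two,
        Nat.factorization_eq_zero_of_not_dvd (by norm_num : ¬ 2 ∣ 3)]
      norm_num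
    obtain ⟨S, hS⟩ := hA2.exists_le_sylow
    refine ⟨ZMod 2, inferInstance, inferInstance, inferInstance,
      e₂.trans (MulEquiv.ofBijective π hbij).symm, by rw [ZMod.card, hs'], ?_,
      fun S => by rw [hs', hsyl S]⟩
    exact le_antisymm (by rw [hs', ← hsyl S]; exact Subgroup.card_le_of_le hS) hsA
  · -- there is a four-group
    obtain ⟨T, hT⟩ := hA2.exists_le_sylow
    have h4 : 4 ≤ Nat.card A := le_trans (by rw [hk]; exact Nat.pow_le_pow_right two_pos hk2) hsA
    obtain ⟨b, hb, hb1, hb0⟩ : ∃ b ∈ A, b ≠ 1 ∧ b ≠ a₀ := by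
      by_contra hc
      push Not at hc
      have h5 : (A : Set X) ⊆ {1, a₀} := fun b hb => by
        by_cases h : b = 1
        · exact Or.inl h
        · exact Or.inr (hc b hb h)
      have h6 := (Set.ncard_le_ncard h5).trans (Set.ncard_insert_le _ _)
      rw [← Nat.card_coe_set_eq, Set.ncard_singleton] at h6
      exact absurd h6 (by simp only [SetLike.coe_sort_coe]; omega)
    have ha₀' : orderOf a₀ = 2 := orderOf_of_mul_self (hA a₀ ha₀) fun e => ha₀1 (Subtype.ext e)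
    have hN := hTI.normalizer_ne hX hO (hT ha₀) ha₀' (orderOf_of_mul_self (hA b hb) hb1)
      (Ne.symm hb0) (mulComm_of_sq hA ha₀ hb)
    have hTn : ¬ (T : Subgroup X).Normal := fun h => by
      have h1 := Thompson.le_pCore h T.2 (hT ha₀)
      rw [hO, mem_bot] at h1
      rw [h1, orderOf_one] at ha₀'
      omega
    obtain ⟨t, htc, ht⟩ : ∃ t ∈ (center (T : Subgroup X)).map (T : Subgroup X).subtype,
        orderOf t = 2 := by
      refine exists_involution_mem (T.2.to_le (map_subtype_le _)) ?_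
      haveI : Nontrivial (T : Subgroup X) :=
        ⟨⟨⟨a₀, hT ha₀⟩, 1, fun e => ha₀1 (Subtype.ext (congrArg (fun w : (T : Subgroup X) => (w : X)) e))⟩⟩
      haveI := T.2.center_nontrivial
      rw [Ne, map_eq_bot_iff_of_injective _ (T : Subgroup X).subtype_injective]
      exact (center (T : Subgroup X)).nontrivial_iff_ne_bot.1 inferInstance
    have hD := hTI.data hX htc ht hN hTn
    have hC : CharDeep.CA.cent t = (T : Subgroup X) :=
      hTI.centralizer_eq hX htc fun e => by rw [e, orderOf_one] at ht; omega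
    obtain ⟨-, -, hidx, -, -⟩ := CharDeep.CC.zassenhaus hD
    obtain ⟨m, hm⟩ := IsPGroup.iff_card.1 T.2
    rw [← Subgroup.index_eq_card, hC] at hidx
    have hdvdX : 2 ^ m + 1 ∣ Nat.card X := by
      rw [← hm, ← hidx]; exact Subgroup.index_dvd_card _
    have hdvdV : 2 ^ m + 1 ∣ Nat.card V - 1 := by
      rw [Nat.dvd_iff_prime_pow_dvd_dvd]
      intro p i hp hpi
      rcases Nat.eq_zero_or_pos i with hi | hi
      · subst hi; simp
      haveI : Fact p.Prime := ⟨hp⟩
      obtain ⟨P, hP⟩ := Sylow.exists_subgroup_card_pow_prime p (hpi.trans hdvdX)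
      have hp2 : p ≠ 2 := fun e => by
        subst e
        have h1 : 2 ∣ 2 ^ m + 1 := (dvd_pow_self 2 hi.ne').trans hpi
        have hm1 : m ≠ 0 := fun e => by
          have h2 := Subgroup.card_le_of_le hT
          rw [hm, e] at h2
          omega
        rw [← Nat.dvd_add_iff_right (dvd_pow_self 2 hm1)] at h1
        omega
      rw [← hP]
      exact card_dvd_of_odd hfpf P (hP ▸ (hp.odd_of_ne_two hp2).pow)
    have hkm : k = m := by
      refine arith hk1 ?_ ?_
      · refine (Nat.pow_le_pow_iff_right one_lt_two).1 ?_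
        rw [← hk, ← hm]
        exact hsA.trans (Subgroup.card_le_of_le hT)
      · rwa [← hs2, hk, ← pow_mul, mul_comm k 2] at hdvdV
    have hAT : A = (T : Subgroup X) :=
      Subgroup.eq_of_le_of_card_ge hT (by rw [hm, ← hkm, ← hk]; exact hsA)
    obtain ⟨-, F, iF, iT, f, hf, hFc, hCc, ⟨e⟩⟩ := CharDeep.CC.psl_of_data hD fun y hy hy1 n hn x hx => by
      have hey : CharDeep.CA.cent y = CharDeep.CA.cent t := by
        rw [hC] at hy ⊢
        refine le_antisymm (hTI.centralizer_le hX hy hy1) fun z hz => ?_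
        refine mem_centralizer_singleton_iff.2 ?_
        rw [← hAT] at hz hy
        exact (mulComm_of_sq hA hz hy).eq
      rw [hey] at hx ⊢
      exact (mem_normalizer_iff.1 hn x).1 hx
    have hFs : Fintype.card F = s := by rw [hFc, ← hCc, hC, hm, hk, hkm]
    haveI : CharP F 2 := charP_of_card_eq_prime_pow hFc
    let e₂ : SL(2, F) ≃* Matrix.ProjectiveSpecialLinearGroup (Fin 2) F :=
      MulEquiv.ofBijective (LocalEven61.pslMap (F := F))
        ⟨(injective_iff_map_eq_one _).2 fun z hz => LocalEven61.eq_one_of_mem_ker_of_two rfl hz,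
          LocalEven61.pslMap_surjective⟩
    refine ⟨F, iF, iT, inferInstance, e₂.trans e.symm, hFs, by rw [hAT, hm, hk, hkm], fun S => ?_⟩
    rw [S.card_eq_multiplicity, ← T.card_eq_multiplicity, hm, hk, hkm]

end

namespace Natural

variable {X V : Type*} [Group X] [CommGroup V] {φ : X →* MulAut V} {A : Subgroup X} {F : Type}
  [Field F] [Fintype F] (N : Natural φ A F)

/-- The root element. -/
def u (t : F) : X := N.ψ (upper t)

/-- The torus element. -/
def h (a : Fˣ) : X := N.ψ (dg a)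

/-- The Weyl element. -/
def w : X :=
  haveI := N.char2
  N.ψ wl

include N in
theorem card_eq_two_pow : ∃ n : ℕ, 1 ≤ n ∧ Fintype.card F = 2 ^ n := by
  haveI := N.char2
  haveI : Fact (Nat.Prime 2) := ⟨Nat.prime_two⟩
  obtain ⟨n, -, hn⟩ := FiniteField.card F 2
  exact ⟨n, n.pos, hn⟩

theorem u_mem (t : F) : N.u t ∈ A := (N.mem _).2 ⟨t, rfl⟩

theorem u_mul (s t : F) : N.u s * N.u t = N.u (s + t) := by
  rw [u, u, u, ← map_mul, PLocalB.upper_mul]

theorem u_ne_one {t : F} (ht : t ≠ 0) : N.u t ≠ 1 := fun e =>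
  ht (PLocalB.upper_injective (N.bij.1 (by rw [PLocalB.upper_zero, map_one]; exact e)))

theorem w_mul_w : N.w * N.w = 1 := by
  haveI := N.char2
  rw [w, ← map_mul, wl_mul_wl, map_one]

theorem h_mul (a b : Fˣ) : N.h a * N.h b = N.h (a * b) := by rw [h, h, h, ← map_mul, dg_mul]

theorem w_h (a : Fˣ) : N.w * N.h a = N.h a⁻¹ * N.w := by
  haveI := N.char2
  rw [w, h, h, ← map_mul, ← map_mul, wl_dg]

theorem h_u (a : Fˣ) (t : F) : N.h a * N.u t = N.u ((a : F) * a * t) * N.h a := by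
  rw [u, u, h, ← map_mul, ← map_mul, dg_upper]

theorem h_odd (a : Fˣ) : Odd (orderOf (N.h a)) := by
  obtain ⟨n, hn, hcard⟩ := N.card_eq_two_pow
  refine Odd.of_dvd_nat (n := Fintype.card F - 1) ?_ ?_
  · rw [hcard]
    exact Nat.Even.sub_odd Nat.one_le_two_pow ((even_two).pow_of_ne_zero (by omega)) odd_one
  · refine orderOf_dvd_of_pow_eq_one ?_
    classical
    rw [h, ← map_pow, dg_pow, ← Fintype.card_units, pow_card_eq_one, dg_one, map_one]

theorem fix_u {v : V} (hv : v ∈ fix φ A) (t : F) : φ (N.u t) v = v := hv _ (N.u_mem t)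

theorem h_mem_fix {v : V} (hv : v ∈ fix φ A) (a : Fˣ) : φ (N.h a) v ∈ fix φ A := by
  intro x hx
  obtain ⟨t, rfl⟩ := (N.mem x).1 hx
  show φ (N.u t) _ = _
  have h1 : N.u t * N.h a = N.h a * N.u (((a⁻¹ : Fˣ) : F) * (a⁻¹ : Fˣ) * t) := by
    rw [h_u]
    congr 2
    field_simp
    simp
  rw [← MulAut.mul_apply, ← map_mul, h1, map_mul, MulAut.mul_apply, fix_u N hv]

theorem mem_fix_of_u {t : F} (ht : t ≠ 0) {v : V} (hv : φ (N.u t) v = v) : v ∈ fix φ A := by
  rw [← N.fix_eq _ (N.u_mem t) (N.u_ne_one ht), mem_fix_zpowers]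
  exact hv

theorem eq_one_of_w_mem (hfpf : OddFpf φ) {v : V} (hv : v ∈ fix φ A) (hwv : φ N.w v ∈ fix φ A) :
    v = 1 := by
  haveI := N.char2
  obtain ⟨h3, h31⟩ := three_cycle (F := F)
  have hne : N.ψ (upper (1 : F) * (wl * upper 1 * wl)) ≠ 1 := fun e =>
    h31 (N.bij.1 (by rw [e, map_one]))
  refine hfpf _ ?_ hne v ?_
  · exact Odd.of_dvd_nat (n := 3) (by decide)
      (orderOf_dvd_of_pow_eq_one (by rw [← map_pow, h3, map_one]))
  · rw [show N.ψ (upper (1 : F) * (wl * upper 1 * wl)) = N.u 1 * (N.w * N.u 1 * N.w) by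
      rw [map_mul, map_mul, map_mul]; rfl]
    rw [map_mul φ, MulAut.mul_apply, map_mul φ, MulAut.mul_apply, map_mul φ, MulAut.mul_apply,
      fix_u N hwv, apply_apply N.w_mul_w, fix_u N hv]

theorem split_unique (hfpf : OddFpf φ) {a b c d : V} (ha : a ∈ fix φ A) (hb : b ∈ fix φ A)
    (hc : c ∈ fix φ A) (hd : d ∈ fix φ A) (he : a * φ N.w b = c * φ N.w d) : a = c ∧ b = d := by
  have h1 : φ N.w (b / d) = c / a := by
    rw [map_div, div_eq_div_iff_mul_eq_mul, mul_comm, he, mul_comm]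
  have h2 := eq_one_of_w_mem N hfpf ((fix φ A).div_mem hb hd) (h1 ▸ (fix φ A).div_mem hc ha)
  have h3 : b = d := div_eq_one.1 h2
  rw [h3] at he
  exact ⟨mul_right_cancel he, h3⟩

theorem exists_split [Finite V] (hfpf : OddFpf φ) (v : V) :
    ∃ a ∈ fix φ A, ∃ b ∈ fix φ A, a * φ N.w b = v := by
  have hinj : Function.Injective fun p : fix φ A × fix φ A => (p.1 : V) * φ N.w (p.2 : V) :=
    fun p q he => by
      obtain ⟨h1, h2⟩ := split_unique N hfpf p.1.2 p.2.2 q.1.2 q.2.2 he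
      exact Prod.ext (Subtype.ext h1) (Subtype.ext h2)
  have hbij := (Nat.bijective_iff_injective_and_card _).2
    ⟨hinj, by rw [Nat.card_prod, N.card_fix, N.card_V, pow_two]⟩
  obtain ⟨⟨a, b⟩, hab⟩ := hbij.2 v
  exact ⟨a, a.2, b, b.2, hab⟩

/-- The map from `V / Z` to `Z` given by a root element. -/
def nn (t : F) (z : V) : V := φ (N.u t) (φ N.w z) * φ N.w z

theorem nn_mem [Finite X] [Finite V] (hO : Cfsg.pCore 2 X = ⊥) (hfpf : OddFpf φ)
    (hV : ∀ v : V, v * v = 1) (t : F) (z : V) : N.nn t z ∈ fix φ A := by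
  haveI := N.char2
  by_cases ht : t = 0
  · rw [nn, u, ht, PLocalB.upper_zero, map_one, map_one, MulAut.one_apply, hV]
    exact one_mem _
  have h1 : N.u t * N.u t = 1 := by rw [u_mul, CharTwo.add_self_eq_zero, u, PLocalB.upper_zero, map_one]
  obtain ⟨f, hf, hf1, hinv⟩ := exists_inverted_odd hO (orderOf_of_mul_self h1 (N.u_ne_one ht))
  rw [← N.fix_eq _ (N.u_mem t) (N.u_ne_one ht)]
  exact (half hfpf hV h1 hf hf1 hinv).2.1 _

/-- The root maps are the torus. -/
theorem nn_eq [Finite X] [Finite V] (hO : Cfsg.pCore 2 X = ⊥) (hfpf : OddFpf φ)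
    (hV : ∀ v : V, v * v = 1) (b : Fˣ) {z : V} (hz : z ∈ fix φ A) :
    N.nn (b : F) z = φ (N.h b) z := by
  haveI := N.char2
  set a : Fˣ := b⁻¹ with ha
  have hab : ((a⁻¹ : Fˣ) : F) = (b : F) := by rw [ha, inv_inv]
  have hid := congrArg (fun g => φ (N.ψ g) z) (chevalley a)
  simp only [map_mul, MulAut.mul_apply] at hid
  change φ (N.u a) (φ N.w (φ (N.u ((a⁻¹ : Fˣ) : F)) (φ N.w (φ (N.u a) z)))) =
    φ (N.h a) (φ N.w z) at hid
  rw [hab, fix_u N hz] at hid
  have h1 : φ (N.u (b : F)) (φ N.w z) = N.nn b z * φ N.w z := by rw [nn, mul_assoc, hV, mul_one]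
  rw [h1, map_mul, apply_apply N.w_mul_w, map_mul, fix_u N hz] at hid
  have h2 : φ (N.u a) (φ N.w (N.nn b z)) = N.nn a (N.nn b z) * φ N.w (N.nn b z) := by
    rw [nn, nn, mul_assoc, hV, mul_one]
  have h3 : φ (N.h a) (φ N.w z) = φ N.w (φ (N.h b) z) := by
    rw [← MulAut.mul_apply, ← map_mul, ← MulAut.mul_apply, ← map_mul, w_h, ← ha]
  rw [h2, h3, mul_right_comm] at hid
  have hz' := nn_mem N hO hfpf hV (b : F) z
  exact (split_unique N hfpf ((fix φ A).mul_mem (nn_mem N hO hfpf hV _ _) hz) hz' (one_mem _)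
    (h_mem_fix N hz b) (hid.trans (one_mul _).symm)).2

theorem nn_add (hV : ∀ v : V, v * v = 1) [Finite X] [Finite V] (hO : Cfsg.pCore 2 X = ⊥)
    (hfpf : OddFpf φ) (s t : F) (z : V) : N.nn (s + t) z = N.nn s z * N.nn t z := by
  have h1 : φ (N.u t) (φ N.w z) = N.nn t z * φ N.w z := by rw [nn, mul_assoc, hV, mul_one]
  have hm := nn_mem N hO hfpf hV t z
  conv_lhs => rw [nn, ← u_mul, map_mul φ, MulAut.mul_apply, h1, map_mul, fix_u N hm]
  rw [mul_assoc, mul_comm]
  rfl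

/-- The torus acts additively on the fixed points. -/
theorem h_add [Finite X] [Finite V] (hO : Cfsg.pCore 2 X = ⊥) (hfpf : OddFpf φ)
    (hV : ∀ v : V, v * v = 1) {a b c : Fˣ} (hc : (c : F) = (a : F) + b) {z : V}
    (hz : z ∈ fix φ A) : φ (N.h c) z = φ (N.h a) z * φ (N.h b) z := by
  rw [← nn_eq N hO hfpf hV c hz, hc, nn_add N hV hO hfpf, nn_eq N hO hfpf hV a hz,
    nn_eq N hO hfpf hV b hz]

theorem h_inj (hfpf : OddFpf φ) {a b : Fˣ} {z : V} (hz1 : z ≠ 1)
    (he : φ (N.h a) z = φ (N.h b) z) : a = b := by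
  by_contra hne
  have h1 : N.h (b⁻¹ * a) ≠ 1 := fun e =>
    hne (inv_mul_eq_one.1 (dg_injective (N.bij.1 (by rw [dg_one, map_one]; exact e)))).symm
  refine hz1 (hfpf _ (N.h_odd _) h1 z ?_)
  rw [← h_mul, map_mul, MulAut.mul_apply, he, ← MulAut.mul_apply, ← map_mul, h_mul,
    inv_mul_cancel, h, dg_one, map_one, map_one, MulAut.one_apply]

theorem exists_h_eq [Finite V] (hfpf : OddFpf φ) {z z' : V} (hz : z ∈ fix φ A)
    (hz' : z' ∈ fix φ A) (hz1 : z ≠ 1) (hz'1 : z' ≠ 1) : ∃ a : Fˣ, φ (N.h a) z = z' := by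
  classical
  haveI := Fintype.ofFinite V
  let g : Fˣ → {v : fix φ A // v ≠ 1} := fun a =>
    ⟨⟨φ (N.h a) z, N.h_mem_fix hz a⟩, fun e => hz1 ((φ (N.h a)).injective
      (by rw [show φ (N.h a) z = 1 from congrArg Subtype.val e, map_one]))⟩
  have hg : Function.Injective g := fun a b he =>
    N.h_inj hfpf hz1 (congrArg (fun v : {v : fix φ A // v ≠ 1} => ((v : fix φ A) : V)) he)
  have hb := (Nat.bijective_iff_injective_and_card g).2 ⟨hg, by
    rw [Nat.card_eq_fintype_card, Fintype.card_units, Nat.card_eq_fintype_card,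
      Fintype.card_subtype_compl, Fintype.card_subtype_eq, ← Nat.card_eq_fintype_card
        (α := fix φ A), N.card_fix]⟩
  obtain ⟨a, ha⟩ := hb.2 ⟨⟨z', hz'⟩, fun e => hz'1 (congrArg Subtype.val e)⟩
  exact ⟨a, congrArg (fun v : {v : fix φ A // v ≠ 1} => ((v : fix φ A) : V)) ha⟩

include N in
/-- Every vector is moved into the fixed points of `A`. -/
theorem exists_conj_mem [Finite X] [Finite V] (hO : Cfsg.pCore 2 X = ⊥) (hfpf : OddFpf φ)
    (hV : ∀ v : V, v * v = 1) (v : V) : ∃ x : X, φ x v ∈ fix φ A := by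
  obtain ⟨a, ha, b, hb, rfl⟩ := exists_split N hfpf v
  by_cases hb1 : b = 1
  · exact ⟨1, by rw [hb1, map_one, map_one (φ N.w), mul_one, MulAut.one_apply]; exact ha⟩
  by_cases ha1 : a = 1
  · exact ⟨N.w, by rw [ha1, one_mul, apply_apply N.w_mul_w]; exact hb⟩
  obtain ⟨c, hc⟩ := N.exists_h_eq hfpf hb ha hb1 ha1
  rw [← nn_eq N hO hfpf hV c hb] at hc
  refine ⟨(N.u c * N.w)⁻¹, ?_⟩
  have h1 : φ (N.u c * N.w) b = a * φ N.w b := by
    rw [map_mul, MulAut.mul_apply, ← hc, nn, mul_assoc, hV, mul_one]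
  rw [← h1, ← MulAut.mul_apply, ← map_mul, inv_mul_cancel, map_one, MulAut.one_apply]
  exact hb

/-- On `V / Z`, the normaliser of `A` acts inversely to its action on `Z`. -/
theorem inverse_action [Finite X] [Finite V] (hO : Cfsg.pCore 2 X = ⊥) (hfpf : OddFpf φ)
    (hV : ∀ v : V, v * v = 1) {g : X} (hg : ∀ x ∈ A, g * x * g⁻¹ ∈ A) (v : V) :
    φ g (φ (N.u 1) (φ g v) * φ g v) = φ (N.u 1) v * v := by
  haveI := N.char2
  obtain ⟨M, rfl⟩ := N.bij.2 g
  obtain ⟨t, ht⟩ := (N.mem _).1 (hg _ (N.u_mem 1))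
  obtain ⟨s, a, hM⟩ := exists_upper_dg (N.bij.1 (show N.ψ (M * upper 1 * M⁻¹) = N.ψ (upper t) by
    rw [ht, map_mul, map_mul, map_inv]; rfl))
  have hM' : N.ψ M = N.u s * N.h a := by rw [hM, map_mul]; rfl
  rw [hM']
  obtain ⟨x, hx, y, hy, rfl⟩ := exists_split N hfpf v
  have hδ : ∀ p q : V, p ∈ fix φ A → φ (N.u 1) (p * φ N.w q) * (p * φ N.w q) = N.nn 1 q :=
    fun p q hp => by
      rw [map_mul, fix_u N hp, nn, mul_mul_mul_comm, hV, one_mul]
  have hone : ∀ q ∈ fix φ A, N.nn 1 q = q := fun q hq => by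
    have := nn_eq N hO hfpf hV 1 hq
    rwa [Units.val_one, h, dg_one, map_one, map_one, MulAut.one_apply] at this
  rw [hδ x y hx, hone y hy]
  have hgw : φ (N.u s * N.h a) (φ N.w y) =
      N.nn s (φ (N.h a⁻¹) y) * φ N.w (φ (N.h a⁻¹) y) := by
    rw [nn, mul_assoc, hV, mul_one, map_mul, MulAut.mul_apply, ← MulAut.mul_apply V (φ (N.h a)),
      ← map_mul, ← MulAut.mul_apply V (φ N.w), ← map_mul, w_h, inv_inv]
  have hgx : φ (N.u s * N.h a) x = φ (N.h a) x := by
    rw [map_mul, MulAut.mul_apply, fix_u N (h_mem_fix N hx a)]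
  have hgv : φ (N.u s * N.h a) (x * φ N.w y) = φ (N.h a) x * N.nn s (φ (N.h a⁻¹) y) *
      φ N.w (φ (N.h a⁻¹) y) := by rw [map_mul, hgx, hgw, mul_assoc]
  rw [hgv,
    hδ _ _ ((fix φ A).mul_mem (h_mem_fix N hx a) (nn_mem N hO hfpf hV _ _)),
    hone _ (h_mem_fix N hy _), map_mul φ, MulAut.mul_apply, ← MulAut.mul_apply V (φ (N.h a)),
    ← map_mul, h_mul, mul_inv_cancel, h, dg_one, map_one, map_one, MulAut.one_apply, fix_u N hy]

end Natural

end Cfsg.Agent.CIT
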