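import Cfsg.Agent.CIT.Ess

/-!
# Subgroups of the quotient `N(Q) / Q`
-/

set_option autoImplicit false
set_option linter.style.haveILetI false

namespace Cfsg.Agent.CIT

open Subgroup

universe u

variable {G : Type u} [Group G]

/-- The image of `A ∩ N(Q)` in `Out Q`. -/
def img (Q A : Subgroup G) : Subgroup (Out Q) :=
  (A.subgroupOf (normalizer (Q : Set G))).map (toOut Q)

/-- The preimage in `G` of a subgroup of `Out Q`. -/
def pre (Q : Subgroup G) (B : Subgroup (Out Q)) : Subgroup G :=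
  (B.comap (toOut Q)).map (normalizer (Q : Set G)).subtype

variable {Q A : Subgroup G}

theorem mem_img {x : Out Q} :
    x ∈ img Q A ↔ ∃ g : ↥(normalizer (Q : Set G)), (g : G) ∈ A ∧ toOut Q g = x :=
  Iff.rfl

theorem toOut_mem_img {g : ↥(normalizer (Q : Set G))} (hg : (g : G) ∈ A) :
    toOut Q g ∈ img Q A :=
  ⟨g, hg, rfl⟩

theorem mem_pre {B : Subgroup (Out Q)} {g : G} :
    g ∈ pre Q B ↔ ∃ hg : g ∈ normalizer (Q : Set G), toOut Q ⟨g, hg⟩ ∈ B :=
  ⟨fun ⟨⟨x, hx⟩, hxB, e⟩ => by subst e; exact ⟨hx, hxB⟩, fun ⟨hg, hB⟩ => ⟨⟨g, hg⟩, hB, rfl⟩⟩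

theorem pre_le_normalizer (B : Subgroup (Out Q)) : pre Q B ≤ normalizer (Q : Set G) :=
  map_subtype_le _

theorem le_pre (B : Subgroup (Out Q)) : Q ≤ pre Q B := fun x hx =>
  mem_pre.2 ⟨le_normalizer hx, by rw [toOut_eq_one.2 (show ((⟨x, le_normalizer hx⟩ :
    ↥(normalizer (Q : Set G))) : G) ∈ Q from hx)]; exact one_mem B⟩

theorem pre_mono {B C : Subgroup (Out Q)} (h : B ≤ C) : pre Q B ≤ pre Q C :=
  Subgroup.map_mono (comap_mono h)

theorem img_mono {B : Subgroup G} (h : A ≤ B) : img Q A ≤ img Q B :=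
  Subgroup.map_mono fun _ hx => h hx

theorem img_self : img Q Q = ⊥ :=
  (Subgroup.eq_bot_iff_forall _).2 fun x ⟨g, hg, e⟩ => by rw [← e]; exact toOut_eq_one.2 hg

theorem img_eq_bot_iff (hA : A ≤ normalizer (Q : Set G)) : img Q A = ⊥ ↔ A ≤ Q := by
  constructor
  · intro h x hx
    have := toOut_mem_img (Q := Q) (g := ⟨x, hA hx⟩) hx
    rw [h, mem_bot] at this
    exact toOut_eq_one.1 this
  · intro h
    exact le_bot_iff.1 ((img_mono h).trans img_self.le)

theorem img_pre (B : Subgroup (Out Q)) : img Q (pre Q B) = B := by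
  ext x
  constructor
  · rintro ⟨g, hg, rfl⟩
    exact (mem_pre.1 hg).2
  · intro hx
    obtain ⟨g, rfl⟩ := toOut_surjective Q x
    exact toOut_mem_img (mem_pre.2 ⟨g.2, hx⟩)

theorem le_pre_img (hA : A ≤ normalizer (Q : Set G)) : A ≤ pre Q (img Q A) := fun _ hx =>
  mem_pre.2 ⟨hA hx, toOut_mem_img hx⟩

theorem pre_img (hQA : Q ≤ A) (hA : A ≤ normalizer (Q : Set G)) : pre Q (img Q A) = A := by
  refine le_antisymm (fun x hx => ?_) (le_pre_img hA)
  obtain ⟨hx1, g, hg, e⟩ := mem_pre.1 hx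
  have h1 : ((⟨x, hx1⟩ * g⁻¹ : ↥(normalizer (Q : Set G))) : G) ∈ Q :=
    toOut_eq_one.1 (by rw [map_mul, map_inv, e, mul_inv_cancel])
  have h2 := A.mul_mem (hQA h1) hg
  simpa using h2

theorem img_isPGroup (hA : IsPGroup 2 A) : IsPGroup 2 (img Q A) := hA.comap_subtype.map _

theorem pre_isPGroup (hQ : IsPGroup 2 Q) {B : Subgroup (Out Q)} (hB : IsPGroup 2 B) :
    IsPGroup 2 (pre Q B) :=
  (hB.comap_of_ker_isPGroup _ (by rw [toOut_ker]; exact hQ.comap_subtype)).map _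

theorem img_elementary (hA : ∀ a ∈ A, a * a = 1) : ∀ a ∈ img Q A, a * a = 1 := by
  rintro _ ⟨g, hg, rfl⟩
  rw [← map_mul, show g * g = 1 from Subtype.ext (hA _ hg), map_one]

theorem mem_fix_img (hA : A ≤ normalizer (Q : Set G)) {v : ↥(omega Q)} :
    v ∈ fix (act Q) (img Q A) ↔ (v : G) ∈ centralizer (A : Set G) := by
  constructor
  · intro h
    refine mem_centralizer_iff.2 fun a ha => ?_
    exact ((act_eq_iff ⟨a, hA ha⟩ v).1 (h _ (toOut_mem_img ha))).eq
  · rintro h x ⟨g, hg, rfl⟩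
    exact (act_eq_iff g v).2 (mem_centralizer_iff.1 h _ hg)

theorem card_fix_img (hA : A ≤ normalizer (Q : Set G)) :
    Nat.card (fix (act Q) (img Q A)) = Nat.card ↥(omega Q ⊓ centralizer (A : Set G)) :=
  Nat.card_congr
    { toFun := fun v => ⟨((v : ↥(omega Q)) : G), (v : ↥(omega Q)).2, (mem_fix_img hA).1 v.2⟩
      invFun := fun v => ⟨⟨v.1, v.2.1⟩, (mem_fix_img hA).2 v.2.2⟩
      left_inv := fun _ => rfl
      right_inv := fun _ => rfl }

variable [Finite G]

theorem card_img_mul (hA : A ≤ normalizer (Q : Set G)) :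
    Nat.card (img Q A) * Nat.card ↥(A ⊓ Q) = Nat.card A := by
  set f := (toOut Q).comp (inclusion hA) with hf
  have h1 : f.range = img Q A := by
    ext x
    constructor
    · rintro ⟨⟨a, ha⟩, rfl⟩
      exact toOut_mem_img ha
    · rintro ⟨g, hg, rfl⟩
      exact ⟨⟨g, hg⟩, rfl⟩
  have h2 : f.ker = (A ⊓ Q).subgroupOf A := by
    ext ⟨a, ha⟩
    rw [MonoidHom.mem_ker, mem_subgroupOf]
    exact toOut_eq_one.trans ⟨fun h => ⟨ha, h⟩, fun h => h.2⟩
  rw [← h1, ← Nat.card_congr (QuotientGroup.quotientKerEquivRange f).toEquiv,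
    ← Nat.card_congr (subgroupOfEquivOfLe (inf_le_left : A ⊓ Q ≤ A)).toEquiv, ← h2,
    ← card_eq_card_quotient_mul_card_subgroup]

theorem card_pre (B : Subgroup (Out Q)) :
    Nat.card (pre Q B) = Nat.card B * Nat.card Q := by
  have h := card_img_mul (A := pre Q B) (pre_le_normalizer B)
  rw [img_pre, inf_eq_right.2 (le_pre B)] at h
  exact h.symm

namespace Ess

/-- An elementary subgroup outside `Q` that is large compared with `omega Q` gives the natural
module. -/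
theorem natural_img (hQ : Ess Q) (hG : IsCIT G) (hgood : Good.{u} (Nat.card G))
    (hA : A ≤ normalizer (Q : Set G)) (hA2 : ∀ a ∈ A, a * a = 1) (hAQ : ¬ A ≤ Q)
    (hoff : Nat.card ↥(omega Q) * Nat.card ↥(A ⊓ Q) ≤
      Nat.card A * Nat.card ↥(omega Q ⊓ centralizer (A : Set G))) :
    ∃ (F : Type) (_ : Field F) (_ : Fintype F), Nonempty (Natural (act Q) (img Q A) F) := by
  refine hQ.natural hG hgood (img_elementary hA2) (fun h => hAQ ((img_eq_bot_iff hA).1 h)) ?_
  refine Nat.le_of_mul_le_mul_right ?_ (show 0 < Nat.card ↥(A ⊓ Q) from Nat.card_pos)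
  rw [card_fix_img hA, mul_right_comm, card_img_mul hA]
  exact hoff

theorem omega_eq_self (hQ : Ess Q) (he : ∀ x ∈ Q, x * x = 1) : omega Q = Q := by
  refine le_antisymm (omega_le Q) fun x hx => ⟨hx, he x hx, mem_centralizer_iff.2 fun y hy => ?_⟩
  exact mulComm_of_sq he hy hx

theorem centralizer_eq_self (hQ : Ess Q) (he : ∀ x ∈ Q, x * x = 1) :
    centralizer (Q : Set G) = Q :=
  le_antisymm hQ.cent fun x hx => mem_centralizer_iff.2 fun _ hy => mulComm_of_sq he hy hx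

end Ess

end Cfsg.Agent.CIT
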