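import Cfsg.Agent.CIT.Module
import Cfsg.Agent.CharDeep.CC.Main
import Cfsg.Agent.Lib.Frobenius.Kernel
import Cfsg.Agent.Lib.Involution.StronglyEmbedded

/-!
# CIT-groups with trivially intersecting Sylow 2-subgroups
-/

set_option autoImplicit false
set_option linter.style.haveILetI false

namespace Cfsg.Agent.CIT

open Subgroup
open scoped Pointwise

variable {X : Type*} [Group X] [Finite X]

theorem TI.eq_of_mem (hTI : TI X) {S R : Sylow 2 X} {x : X} (hS : x ∈ (S : Subgroup X))
    (hR : x ∈ (R : Subgroup X)) (hx : x ≠ 1) : S = R := by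
  by_contra h
  exact hx (mem_bot.1 (hTI S R h ▸ ⟨hS, hR⟩))

theorem exists_involution_le_sylow {H : Subgroup X} {x : X} (hH : IsPGroup 2 H) (hx : x ∈ H) :
    ∃ S : Sylow 2 X, x ∈ (S : Subgroup X) ∧ H ≤ (S : Subgroup X) := by
  obtain ⟨S, hS⟩ := hH.exists_le_sylow
  exact ⟨S, hS hx, hS⟩

theorem TI.centralizer_le (hTI : TI X) (hX : IsCIT X) {S : Sylow 2 X} {a : X}
    (ha : a ∈ (S : Subgroup X)) (ha1 : a ≠ 1) :
    centralizer ({a} : Set X) ≤ (S : Subgroup X) := by
  obtain ⟨k, hk⟩ := two_pow_of_isPGroup S.2 ha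
  obtain ⟨j, hj⟩ := exists_involution_pow ha1 hk
  have hle : centralizer ({a} : Set X) ≤ centralizer ({a ^ j} : Set X) := fun x hx =>
    mem_centralizer_singleton_iff.2
      ((show Commute x a from mem_centralizer_singleton_iff.1 hx).pow_right j).eq
  obtain ⟨R, haR, hR⟩ := exists_involution_le_sylow ((hX _ hj).to_le hle)
    (mem_centralizer_singleton_iff.2 rfl : a ∈ centralizer ({a} : Set X))
  rw [hTI.eq_of_mem ha haR ha1]
  exact hR

theorem TI.centralizer_eq (hTI : TI X) (hX : IsCIT X) {S : Sylow 2 X} {t : X}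
    (ht : t ∈ (center (S : Subgroup X)).map (S : Subgroup X).subtype) (ht1 : t ≠ 1) :
    centralizer ({t} : Set X) = (S : Subgroup X) := by
  obtain ⟨w, hw, rfl⟩ := ht
  refine le_antisymm (hTI.centralizer_le hX w.2 ht1) fun s hs => ?_
  exact mem_centralizer_singleton_iff.2 (congrArg Subtype.val (mem_center_iff.1 hw ⟨s, hs⟩))

theorem TI.isFrobeniusComplement (hTI : TI X) {S : Sylow 2 X} (h1 : (S : Subgroup X) ≠ ⊥)
    (h2 : (S : Subgroup X) ≠ ⊤) (hN : normalizer ((S : Subgroup X) : Set X) = (S : Subgroup X)) :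
    Cfsg.IsFrobeniusComplement (S : Subgroup X) := by
  refine ⟨h1, h2, fun g hg => ?_⟩
  have h := hTI S (g • S) (fun e => hg ?_)
  · rwa [Sylow.coe_subgroup_smul] at h
  · rw [← hN]
    exact Sylow.smul_eq_iff_mem_normalizer.1 e.symm

/-- A four-group forces every normal subgroup of odd order to be trivial. -/
theorem IsCIT.normal_odd_eq_bot (hX : IsCIT X) {N : Subgroup X} [hN : N.Normal]
    (hodd : Odd (Nat.card N)) {a b : X} (ha : orderOf a = 2) (hb : orderOf b = 2) (hab : a ≠ b)
    (hc : Commute a b) : N = ⊥ := by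
  have hfix : ∀ t : X, orderOf t = 2 → ∀ n ∈ N, t * n * t = n⁻¹ := by
    intro t ht
    refine CharDeep.CA.inverts_of_fpf (mul_self_of ht) (fun d hd => ?_) fun d hd h => ?_
    · have := hN.conj_mem d hd t
      rwa [inv_eq_of_mul_eq_one_right (mul_self_of ht)] at this
    · refine hX.eq_one_of_commute ht (odd_orderOf_mem hodd hd) ?_
      show d * t = t * d
      conv_lhs => rw [← h]
      rw [mul_assoc (t * d), mul_self_of ht, mul_one]
  refine (Subgroup.eq_bot_iff_forall _).2 fun n hn => ?_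
  have hab2 : orderOf (a * b) = 2 := orderOf_of_mul_self
    (by rw [show a * b * (a * b) = a * (b * a) * b by group, ← hc.eq,
      show a * (a * b) * b = a * a * (b * b) by group, mul_self_of ha, mul_self_of hb, one_mul])
    (fun e => hab (by rw [eq_inv_of_mul_eq_one_left e, inv_eq_of_mul_eq_one_right (mul_self_of hb)]))
  have h1 : a * b * n * (a * b) = n⁻¹ := hfix _ hab2 n hn
  have h2 : a * b * n * (a * b) = n := by
    conv_lhs => rw [show a * b * n * (a * b) = a * (b * n * (a * b)) by group,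
      show a * b = b * a from hc.eq, show b * n * (b * a) = b * n * b * a by group, hfix b hb n hn]
    rw [← mul_assoc, hfix a ha n⁻¹ (N.inv_mem hn), inv_inv]
  have h3 : n * n = 1 := by
    nth_rewrite 2 [h2.symm.trans h1]
    exact mul_inv_cancel n
  by_contra hn1
  exact sq_ne_one_of_odd (odd_orderOf_mem hodd hn) hn1 h3

/-- The data for the Zassenhaus recognition. -/
theorem TI.data (hTI : TI X) (hX : IsCIT X) {S : Sylow 2 X} {t : X}
    (ht : t ∈ (center (S : Subgroup X)).map (S : Subgroup X).subtype) (ht2 : orderOf t = 2)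
    (hN : normalizer ((S : Subgroup X) : Set X) ≠ (S : Subgroup X))
    (hS : ¬ (S : Subgroup X).Normal) : CharDeep.CC.Data X t := by
  have ht1 : t ≠ 1 := fun e => by rw [e, orderOf_one] at ht2; omega
  have hC : CharDeep.CA.cent t = (S : Subgroup X) := hTI.centralizer_eq hX ht ht1
  exact
    { sub := fun a ha ha1 => by
        rw [hC] at ha ⊢
        exact hTI.centralizer_le hX ha ha1
      t_ne := ht1
      t_sq := mul_self_of ht2
      sylow := ⟨S, hC.ge⟩
      ne_top := fun e => hS (Subgroup.normalizer_eq_top_iff.1 (by rw [hC] at e; exact e))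
      ne_cent := fun e => hN (by rw [hC] at e; exact e) }

/-- An involution outside the core inverts a non-trivial element of odd order. -/
theorem exists_inverted_odd (hO : Cfsg.pCore 2 X = ⊥) {u : X} (hu : orderOf u = 2) :
    ∃ f : X, Odd (orderOf f) ∧ f ≠ 1 ∧ u * f * u⁻¹ = f⁻¹ := by
  haveI : Fact (Nat.Prime 2) := ⟨Nat.prime_two⟩
  obtain ⟨c, hc⟩ : ∃ c, ¬ IsPGroup 2 ↥(closure ({u, c * u * c⁻¹} : Set X)) := by
    by_contra hall
    push Not at hall
    obtain ⟨N, hN, hNp, huN⟩ := Involution.baerSuzuki u hall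
    have := Thompson.le_pCore hN hNp huN
    rw [hO, mem_bot] at this
    rw [this, orderOf_one] at hu
    omega
  set v := c * u * c⁻¹ with hv
  have hvo : orderOf v = 2 := by rw [hv, Involution.orderOf_conj, hu]
  set r := u * v with hr
  obtain ⟨k, m, hm, hkm⟩ := Nat.exists_eq_two_pow_mul_odd (orderOf_pos r).ne'
  refine ⟨r ^ 2 ^ k, ?_, ?_, ?_⟩
  · rw [orderOf_pow, hkm, Nat.gcd_eq_right (Dvd.intro _ rfl),
      Nat.mul_div_cancel_left _ (pow_pos two_pos k)]
    exact hm
  · intro e
    refine hc ?_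
    obtain ⟨e'⟩ := Involution.closure_pair_equiv_dihedral (x := u) (y := v) hu hvo
    obtain ⟨l, -, hl⟩ := (Nat.dvd_prime_pow Nat.prime_two).1 (orderOf_dvd_of_pow_eq_one e)
    refine IsPGroup.of_card (n := l + 1) ?_
    rw [Nat.card_congr e'.toEquiv, DihedralGroup.nat_card, ← hr, hl, pow_succ, mul_comm]
  · have hinv : u * r * u⁻¹ = r⁻¹ := Involution.inverts_mul (mul_self_of hu) (mul_self_of hvo)
    rw [← conj_pow, hinv, inv_pow]

/-- A Sylow `2`-subgroup with a four-group is not self-normalising. -/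
theorem TI.normalizer_ne (hTI : TI X) (hX : IsCIT X) (hO : Cfsg.pCore 2 X = ⊥) {S : Sylow 2 X}
    {a b : X} (haS : a ∈ (S : Subgroup X)) (ha : orderOf a = 2) (hb : orderOf b = 2) (hab : a ≠ b)
    (hc : Commute a b) : normalizer ((S : Subgroup X) : Set X) ≠ (S : Subgroup X) := by
  haveI : Fact (Nat.Prime 2) := ⟨Nat.prime_two⟩
  intro hN
  have ha1 : a ≠ 1 := fun e => by rw [e, orderOf_one] at ha; omega
  have h1 : (S : Subgroup X) ≠ ⊥ := fun e => ha1 (mem_bot.1 (e ▸ haS))
  have h2 : (S : Subgroup X) ≠ ⊤ := by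
    intro e
    have h3 : (⊤ : Subgroup X) ≤ Cfsg.pCore 2 X :=
      Thompson.le_pCore (show (⊤ : Subgroup X).Normal from inferInstance) (e ▸ S.2)
    rw [hO] at h3
    exact ha1 (mem_bot.1 (h3 (mem_top a)))
  obtain ⟨N, -, hNn, hNc⟩ :=
    Frobenius.exists_frobeniusKernel_subgroup (hTI.isFrobeniusComplement h1 h2 hN)
  haveI := hNn
  have hodd : Odd (Nat.card N) := by
    refine Nat.not_even_iff_odd.1 fun he => ?_
    have h3 := S.not_dvd_index
    rw [hNc.index_eq_card] at h3
    exact h3 (even_iff_two_dvd.1 he)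
  have hbot := hX.normal_odd_eq_bot hodd ha hb hab hc
  have h3 := hNc.sup_eq_top
  rw [hbot, bot_sup_eq] at h3
  exact h2 h3

end Cfsg.Agent.CIT
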